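import Cfsg.Agent.TensorWreathOrth.Control
import Cfsg.Agent.TensorWreath.Fusion

/-!
# Overgroups without a seed lie in the wreath group
-/

set_option autoImplicit false
set_option linter.unusedSectionVars false

namespace CfsgLib.TWOr

open Matrix Module CfsgLib.MaxSub CfsgLib.TWreath
open CfsgLib.TWSp (om spG gsim om_add_left om_add_right om_smul_left om_smul_right)

variable {F : Type*} [Field F] [Finite F] {m : ℕ} {G : Matrix (Fin m) (Fin m) F} {d : F}
  {ι : Type} [Fintype ι] [DecidableEq ι] {M : Subgroup (GL (ι → Fin m) F)}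

theorem IsSim.inj {h : GL (Fin m) F} {x : Fin m → F}
    (hx : (h : Matrix (Fin m) (Fin m) F) *ᵥ x = 0) : x = 0 :=
  mulVec_injective_iff_isUnit.mpr h.isUnit (hx.trans (mulVec_zero _).symm)

/-- An involutive similitude up to a scalar fixes a reflection or a pair of orthogonal ones. -/
theorem exists_comm_refl_or_pair (hP : Par G d) {A : GL (Fin m) F} (hA : IsSim G A) {l : F}
    (hl : (A : Matrix (Fin m) (Fin m) F) * (A : Matrix (Fin m) (Fin m) F) = l • 1) :
    (∃ e, Kap G d e ∧ Commute A (refG G e)) ∨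
      ∃ g g', Kap G d g ∧ Kap G d g' ∧ om G g g' = 0 ∧ Commute A (refG G g * refG G g') := by
  have hG := hP.form
  have h2 := hG.two
  have hm := hP.three
  have : NeZero m := ⟨by omega⟩
  obtain ⟨k, hk0, hk⟩ := id hA
  set X := (A : Matrix (Fin m) (Fin m) F) with hX
  have hXX : ∀ v, X *ᵥ (X *ᵥ v) = l • v := fun v => by rw [mulVec_mulVec, hl, smul_mulVec, one_mulVec]
  have hl0 : l ≠ 0 := fun h0 => by
    have h1 : IsUnit (X * X) := A.isUnit.mul A.isUnit
    rw [hl, h0, zero_smul] at h1
    exact not_isUnit_zero h1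
  have heig : ∀ e, Kap G d e → ∀ s : F, s ≠ 0 → X *ᵥ e = s • e → Commute A (refG G e) := fun e he s hs hse => by
    have h1 := (hA.conj_refG hP he).1
    rw [← hX, hse] at h1
    have h3 : refG G (s • e) = refG G e := by
      refine Units.ext ?_
      rw [refG_val (he.smul hs).ne, refG_val he.ne, refM_smul s hs]
    exact mul_inv_eq_iff_eq_mul.1 (h1.trans h3)
  by_cases hsq : IsSquare l ∧ k = l
  · obtain ⟨⟨s, hs⟩, hkl⟩ := hsq
    have hs0 : s ≠ 0 := fun h0 => hl0 (by rw [hs, h0, zero_mul])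
    refine Or.inl ?_
    let L : (Fin m → F) →ₗ[F] (Fin m → F) := X.mulVecLin
    set P := LinearMap.ker (L - s • LinearMap.id)
    set N := LinearMap.ker (L + s • LinearMap.id)
    have hPm : ∀ v, v ∈ P ↔ X *ᵥ v = s • v := fun v => by
      show X *ᵥ v - s • v = 0 ↔ _
      rw [sub_eq_zero]
    have hNm : ∀ v, v ∈ N ↔ X *ᵥ v = -(s • v) := fun v => by
      show X *ᵥ v + s • v = 0 ↔ _
      rw [add_eq_zero_iff_eq_neg]
    have horth : ∀ p ∈ P, ∀ q ∈ N, om G p q = 0 := fun p hp q hq => by
      have h1 := hk p q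
      rw [(hPm p).1 hp, (hNm q).1 hq, om_neg_right, om_smul_left, om_smul_right, hkl, hs] at h1
      have h3 : (2 * (s * s)) * om G p q = 0 := by linear_combination -h1
      exact (mul_eq_zero.1 h3).resolve_left (mul_ne_zero h2 (mul_ne_zero hs0 hs0))
    have hsup : P ⊔ N = ⊤ := eq_top_iff.2 fun v _ => by
      have e : v = (2 * s)⁻¹ • (s • v + X *ᵥ v) + (2 * s)⁻¹ • (s • v - X *ᵥ v) := by
        match_scalars <;> (field_simp; try ring)
      rw [e]
      refine Submodule.add_mem_sup (Submodule.smul_mem _ _ ((hPm _).2 ?_)) (Submodule.smul_mem _ _ ((hNm _).2 ?_))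
      · rw [mulVec_add, mulVec_smul, hXX, hs, smul_add, smul_smul]; abel
      · rw [mulVec_sub, mulVec_smul, hXX, hs, smul_sub, smul_smul]; abel
    have hnd : ∀ S T : Submodule F (Fin m → F), S ⊔ T = ⊤ → (∀ p ∈ S, ∀ q ∈ T, om G p q = 0) → NonDeg G S := by
      intro S T hST ho x hx hxS
      refine hG.ext fun v => ?_
      obtain ⟨p, hp, q, hq, rfl⟩ := Submodule.mem_sup.1 (show v ∈ S ⊔ T by rw [hST]; trivial)
      rw [om_add_left, hG.comm p, hxS p hp, hG.comm q, ho x hx q hq, om_zero_right, add_zero]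
    have hdim := Submodule.finrank_add_le_finrank_add_finrank P N
    rw [hsup, finrank_top, Module.finrank_fin_fun] at hdim
    rcases le_or_gt 2 (finrank F P) with hP2 | hP2
    · obtain ⟨e, heP, he⟩ := exists_kap hP (hnd P N hsup horth) hP2
      exact ⟨e, he, heig e he s hs0 ((hPm e).1 heP)⟩
    · obtain ⟨e, heN, he⟩ := exists_kap hP (hnd N P (by rw [sup_comm]; exact hsup)
        fun q hq p hp => by rw [hG.comm]; exact horth p hp q hq) (by omega)
      exact ⟨e, he, heig e he (-s) (neg_ne_zero.2 hs0) (by rw [neg_smul]; exact (hNm e).1 heN)⟩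
  · obtain ⟨g, hg⟩ := hP.exists_kap_vec
    by_cases hpar : ∃ s : F, X *ᵥ g = s • g
    · obtain ⟨s, hs⟩ := hpar
      refine Or.inl ⟨g, hg, heig g hg s (fun h0 => hg.ne_zero (IsSim.inj (h := A) ?_)) hs⟩
      rw [← hX, hs, h0, zero_smul]
    push Not at hpar
    refine Or.inr ?_
    set u := X *ᵥ g with hu
    set B := om G g u with hB
    have hgg : om G g g ≠ 0 := hg.ne
    set c := B / om G g g with hc
    set g' := u - c • g with hg'
    have hcQ : c * om G g g = B := div_mul_cancel₀ _ hgg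
    have hBk : (k - l) * B = 0 := by
      have h1 := hk g u
      rw [← hu, show X *ᵥ u = l • g from hXX g, om_smul_right, hG.comm u g, ← hB] at h1
      linear_combination -h1
    have huk : Kap G d u := (hA.conj_refG hP hg).2
    have hkap : Kap G d g' := by
      rcases eq_or_ne B 0 with hB0 | hB0
      · rwa [hg', hc, hB0, zero_div, zero_smul, sub_zero]
      have hkl : k = l := sub_eq_zero.1 ((mul_eq_zero.1 hBk).resolve_right hB0)
      have hns : ¬ IsSquare l := fun h => hsq ⟨h, hkl⟩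
      have heven : Even m := by
        by_contra hodd
        obtain ⟨n, hn⟩ := Nat.not_even_iff_odd.1 hodd
        have h1 := congrArg Matrix.det hl
        rw [det_mul, det_smul, Fintype.card_fin, det_one, mul_one] at h1
        have hpow : l ^ m = l ^ n * l ^ n * l := by rw [hn]; ring
        refine hns ⟨X.det / l ^ n, ?_⟩
        have := pow_ne_zero n hl0
        field_simp
        linear_combination -h1 - hpow
      refine hP.kap_of_even heven ?_
      have e : om G g' g' * om G g g = k * (om G g g * om G g g) - B * B := by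
        simp only [hg', om_sub_left, om_sub_right, om_smul_left, om_smul_right, hG.comm u g, ← hB]
        rw [show om G u u = k * om G g g from hk g g, hcQ]
        linear_combination (-B) * hcQ
      intro h0
      rw [h0, zero_mul, hkl] at e
      exact hns ⟨c, by rw [hc]; field_simp; linear_combination -e⟩
    have hg'g : om G g' g = 0 := by
      rw [hg', om_sub_left, om_smul_left, hG.comm u g, hcQ, hB, sub_self]
    have hgg' : om G g g' = 0 := by rw [hG.comm]; exact hg'g
    refine ⟨g, g', hg, hkap, hgg', ?_⟩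
    set R := refM G g * refM G g' with hR
    have hRg : R *ᵥ g = -g := by rw [hR, ← mulVec_mulVec, refM_fix hgg', refM_self hg.ne]
    have hRg' : R *ᵥ g' = -g' := by rw [hR, ← mulVec_mulVec, refM_self hkap.ne, mulVec_neg, refM_fix hg'g]
    have hue : u = g' + c • g := by rw [hg', sub_add_cancel]
    have hRu : R *ᵥ u = -u := by rw [hue, mulVec_add, mulVec_smul, hRg, hRg', smul_neg, neg_add]
    have hAg' : X *ᵥ g' = l • g - c • u := by rw [hg', mulVec_sub, mulVec_smul, hXX, hu]
    refine Units.ext (Matrix.ext_of_mulVec_single fun q => ?_)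
    simp only [Units.val_mul, refG_val hg.ne, refG_val hkap.ne]
    rw [← hR, ← hX, ← mulVec_mulVec _ X R, ← mulVec_mulVec _ R X]
    set v : Fin m → F := Pi.single q 1
    set α := om G v g / om G g g with hα
    set β := om G v g' / om G g' g' with hβ
    set x₀ := v - α • g - β • g' with hx₀
    have hv : v = α • g + β • g' + x₀ := by rw [hx₀]; abel
    have o1 : om G x₀ g = 0 := by
      rw [hx₀, om_sub_left, om_sub_left, om_smul_left, om_smul_left, hg'g, hα, div_mul_cancel₀ _ hgg]; ring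
    have o2 : om G x₀ g' = 0 := by
      rw [hx₀, om_sub_left, om_sub_left, om_smul_left, om_smul_left, hgg', hβ, div_mul_cancel₀ _ hkap.ne]; ring
    have p1 : om G (X *ᵥ x₀) g = 0 := by
      refine (mul_eq_zero.1 ?_).resolve_left hl0
      rw [← om_smul_right, ← hXX g, ← hu, hk, hue, om_add_right, om_smul_right, o1, o2]
      ring
    have p2 : om G (X *ᵥ x₀) g' = 0 := by
      rw [hg', om_sub_right, om_smul_right, p1, hu, hk, o1]
      ring
    have hR0 : ∀ w, om G w g = 0 → om G w g' = 0 → R *ᵥ w = w := fun w w1 w2 => by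
      rw [hR, ← mulVec_mulVec, refM_fix w2, refM_fix w1]
    rw [hv]
    simp only [mulVec_add, mulVec_smul, mulVec_neg, mulVec_sub, hRg, hRg', hRu, hR0 _ o1 o2, hR0 _ p1 p2, hAg', ← hu]
    module

namespace Core

variable (hC : Core G d M) [Nontrivial ι]
include hC

theorem refl_mem_inv {i : ι} {e : Fin m → F} (he : Kap G d e) :
    (embG i (refG G e))⁻¹ = embG i (refG G e) ∧ embG i (refG G e) * embG i (refG G e) = 1 := by
  have h : embG i (refG G e) * embG i (refG G e) = 1 := by rw [← map_mul, refG_sq he.ne, map_one]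
  exact ⟨inv_eq_of_mul_eq_one_right h, h⟩

/-- A pair times a commuting reflection. -/
theorem ctl_pair_mul {a b : ι} (hab : a ≠ b) {e f k : Fin m → F} {q : ι} (he : Kap G d e) (hf : Kap G d f)
    (hk : Kap G d k) (hqb : q ≠ b)
    (hc : Commute (embG q (refG G k)) (embG a (refG G e) * embG b (refG G f))) :
    Ctl M (embG a (refG G e) * embG b (refG G f) * embG q (refG G k)) := by
  have hP := hC.set.par
  have hG := hP.form
  have : NeZero m := ⟨by have := hP.three; omega⟩
  by_cases hqa : q = a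
  swap
  · exact hC.ctl_three hab (Ne.symm hqa) hqb.symm he
  subst hqa
  have h1 : Commute (refG G e) (refG G k) := embG_injective q (by
    have h2 : Commute (embG q (refG G k)) (embG b (refG G f)) := embG_comm hab _ _
    have h3 := hc.mul_right h2
    rw [mul_assoc, (hC.refl_mem_inv hf).2, mul_one] at h3
    rw [map_mul, map_mul]; exact h3.eq.symm)
  have e1 : embG q (refG G e) * embG b (refG G f) * embG q (refG G k) =
      embG q (refG G e * refG G k) * embG b (refG G f) := by
    rw [mul_assoc, ← embG_comm hab (refG G k) (refG G f), ← mul_assoc, ← map_mul]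
  rw [e1]
  rcases orth_or_eq_of_comm hG he.ne hk.ne h1 with h2 | h2
  · exact hC.ctl_asym hab he hk h2 hf
  · rw [← h2, refG_sq he.ne, map_one, one_mul]
    exact fun y hy hyc => hC.mem_of_comm_refG hf.ne hy hyc.eq

/-- The conjugates of a pair lie in the wreath group. -/
theorem conj_pair_mem {a b : ι} (hab : a ≠ b) {e f : Fin m → F} (he : Kap G d e) (hf : Kap G d f)
    {y : GL (ι → Fin m) F} (hy : y ∈ M) :
    y * (embG a (refG G e) * embG b (refG G f)) * y⁻¹ ∈ wreath ι m F := by
  have hP := hC.set.par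
  have hG := hP.form
  have : NeZero m := ⟨by have := hP.three; omega⟩
  set r := embG a (refG G e) with hr
  set r' := embG b (refG G f) with hr'
  have hrr' : Commute r r' := embG_comm hab _ _
  have hrM : r ∈ M := hC.set.refl a e he
  set x := r * r' with hx
  have hxx : x * x = 1 := by
    rw [hx, hrr'.symm.mul_mul_mul_comm, hr, hr', (hC.refl_mem_inv he).2, (hC.refl_mem_inv hf).2, mul_one]
  set t := y * x * y⁻¹ with ht
  have htM : t ∈ M := M.mul_mem (M.mul_mem hy (M.mul_mem hrM (hC.set.refl b f hf))) (M.inv_mem hy)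
  have htt : t * t = 1 := by
    rw [ht, show y * x * y⁻¹ * (y * x * y⁻¹) = y * (x * x) * y⁻¹ by group, hxx, mul_one, mul_inv_cancel]
  have hK : Subgroup.closure {r, t} ≤ M := by
    rw [Subgroup.closure_le]
    rintro _ (rfl | rfl) <;> assumption
  rcases CfsgLib.TensorSquareThree.dihedral (hC.refl_mem_inv he).2 htt with ⟨z, hz, hze⟩ |
    ⟨c, hc, hc1, hcc, hcr, hct, hca, -⟩
  · exfalso
    have e1 : y⁻¹ * z * r * (y⁻¹ * z)⁻¹ = x := by
      rw [show y⁻¹ * z * r * (y⁻¹ * z)⁻¹ = y⁻¹ * (z * r * z⁻¹) * y by group, ← hze, ht]; group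
    obtain ⟨j, u, hu, e2⟩ := hC.refl_of_conj (M.mul_mem (M.inv_mem hy) (hK hz)) he
      (by rw [← hr, e1]; exact (wreath ι m F).mul_mem (embG_mem _ _) (embG_mem _ _))
    rw [← hr, e1, hx, hr, hr', two_eq_PtG hab, embG_eq_PtG] at e2
    have hja : j = a := by
      by_contra hja
      obtain ⟨κ, -, hκ⟩ := exists_smul_of_PtG_eq e2.symm a
      simp only [Function.update_of_ne (Ne.symm hja), Function.update_self, Pi.one_apply, Units.val_one] at hκ
      exact refG_ne_scalar hP he.ne κ hκ
    subst hja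
    obtain ⟨κ, -, hκ⟩ := exists_smul_of_PtG_eq e2.symm b
    simp only [Function.update_of_ne hab.symm, Function.update_self, Pi.one_apply, Units.val_one] at hκ
    exact refG_ne_scalar hP hf.ne κ hκ
  have hcM : c ∈ M := hK hc
  have hcW : c ∈ wreath ι m F := hC.mem_of_comm_refG he.ne hcM hcr
  have hcrW : c * r ∈ wreath ι m F := (wreath ι m F).mul_mem hcW (embG_mem _ _)
  have hcd : c = c * r * r := by rw [mul_assoc, (hC.refl_mem_inv he).2, mul_one]
  suffices hctl : Ctl M c from hctl t htM (show Commute c t from hct).symm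
  rcases hca with ⟨w, hw, e1⟩ | ⟨w, hw, e1⟩
  · obtain ⟨q, g, hg, e2⟩ := hC.refl_of_conj (hK hw) he (by rw [← hr, ← e1]; exact hcrW)
    rw [← hr, ← e1] at e2
    have hce : c = r * embG q (refG G g) := by rw [← e2, ← mul_assoc, ← hcr, mul_assoc, (hC.refl_mem_inv he).2, mul_one]
    rw [hce]
    refine hC.ctl_pair he hg (fun h0 => hc1 (by rw [hce, h0, ← hr, (hC.refl_mem_inv he).2])) ?_
    rw [← e2]
    exact Commute.mul_left hcr (Commute.refl r)
  · set W0 := w * y with hW0
    have hW0M : W0 ∈ M := M.mul_mem (hK hw) hy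
    have e3 : c * r = W0 * x * W0⁻¹ := by rw [e1, ht, hW0]; group
    have hsM : W0⁻¹ * r * W0⁻¹⁻¹ ∈ M := hC.conj_refl_mem (M.inv_mem hW0M) a he
    have hsx : Commute (W0⁻¹ * r * W0⁻¹⁻¹) x := by
      refine (Commute.conj_iff W0).1 ?_
      rw [← e3, show W0 * (W0⁻¹ * r * W0⁻¹⁻¹) * W0⁻¹ = r by group]
      exact (Commute.mul_left hcr (Commute.refl r)).symm
    have hsW : W0⁻¹ * r * W0⁻¹⁻¹ ∈ wreath ι m F := hC.ctl_cross hab he hf _ hsM hsx
    have hW0W : W0 ∈ wreath ι m F := by
      simpa using (wreath ι m F).inv_mem (hC.mem_of_conj_refl (M.inv_mem hW0M) he hsW)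
    obtain ⟨q, k, hk, e4⟩ := hC.refl_of_conj (M.inv_mem hW0M) he hsW
    rw [← hr] at e4
    rw [e4] at hsx
    have hce : c = W0 * (x * embG q (refG G k)) * W0⁻¹ := by rw [← e4, hcd, e3]; group
    rw [hce]
    refine Ctl.conj ?_ hW0M hW0W
    by_cases hqb : q = b
    · subst hqb
      rw [hx, hrr'.eq]
      exact hC.ctl_pair_mul hab.symm hf he hk hab.symm (by rw [← hr', ← hr, ← hrr'.eq]; exact hsx)
    · exact hC.ctl_pair_mul hab he hf hk hqb hsx

/-- An element of the wreath group commuting with a pair and fixing one of its factors. -/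
theorem comm_of_fix {a b : ι} (hab : a ≠ b) {e f : Fin m → F} (he : Kap G d e) {w : GL (ι → Fin m) F}
    (hw : w ∈ M) {σ : Equiv.Perm ι} (hσ : HasPerm w σ)
    (hc : Commute w (embG a (refG G e) * embG b (refG G f))) (hfix : σ a = a) :
    Commute w (embG a (refG G e)) := by
  have hP := hC.set.par
  obtain ⟨τ, gs, rfl, hs⟩ := hC.exists_monomial hw ⟨σ, hσ⟩
  have hστ : σ = τ := hσ.unique (by have := hP.three; omega) ⟨gs, rfl⟩
  subst hστ
  obtain ⟨e1, e2⟩ := IsSim.conj_refG hP (hs a) he
  rw [two_eq_PtG hab] at hc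
  obtain ⟨κ, -, hκ⟩ := comp_smul_of_comm hc a
  rw [show σ.symm a = a from σ.symm_apply_eq.2 hfix.symm, Function.update_self, e1] at hκ
  have h3 := refG_eq_of_smul hP e2.ne he.ne hκ
  refine mul_inv_eq_iff_eq_mul.1 ?_
  rw [conj_embG, hfix, e1, h3]

/-- An element commuting with a pair permutes its factors. -/
theorem moves_of_comm {a b : ι} (hab : a ≠ b) {e f : Fin m → F} (he : Kap G d e) (hf : Kap G d f)
    {w : GL (ι → Fin m) F} {σ : Equiv.Perm ι} (hσ : HasPerm w σ)
    (hc : Commute w (embG a (refG G e) * embG b (refG G f))) :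
    (σ.symm a = a ∨ σ.symm a = b) ∧ (σ.symm b = a ∨ σ.symm b = b) := by
  have hP := hC.set.par
  obtain ⟨gs, rfl⟩ := hσ
  rw [two_eq_PtG hab] at hc
  refine ⟨?_, ?_⟩ <;> by_contra! h
  · obtain ⟨κ, hκ0, hκ⟩ := comp_smul_of_comm hc a
    rw [Function.update_of_ne h.1, Function.update_of_ne h.2, Pi.one_apply, mul_one, mul_inv_cancel, Units.val_one,
      Function.update_self] at hκ
    exact refG_ne_scalar hP he.ne κ⁻¹ (by rw [hκ, smul_smul, inv_mul_cancel₀ hκ0, one_smul])
  · obtain ⟨κ, hκ0, hκ⟩ := comp_smul_of_comm hc b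
    rw [Function.update_of_ne h.1, Function.update_of_ne h.2, Pi.one_apply, mul_one, mul_inv_cancel, Units.val_one,
      Function.update_of_ne hab.symm, Function.update_self] at hκ
    exact refG_ne_scalar hP hf.ne κ⁻¹ (by rw [hκ, smul_smul, inv_mul_cancel₀ hκ0, one_smul])

/-- An element of `M` in the wreath group commutes with a reflection or with two controlled pairs. -/
theorem exists_comm_controlled {t : GL (ι → Fin m) F} (htM : t ∈ M) (htW : t ∈ wreath ι m F) (htt : t * t = 1) :
    (∃ l g, Kap G d g ∧ Commute t (embG l (refG G g))) ∨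
      ∃ v ∈ M, ∃ v' ∈ M, Commute t v ∧ Commute t v' ∧ Ctl M v ∧ Ctl M v' ∧ Ctl M (v * v') := by
  classical
  have hP := hC.set.par
  have hG := hP.form
  have : NeZero m := ⟨by have := hP.three; omega⟩
  obtain ⟨σ, gs, hte, hs⟩ := hC.exists_monomial htM htW
  have hσ : HasPerm t σ := ⟨gs, hte⟩
  have hσ2 : σ * σ = 1 := by
    have h1 := hσ.mul hσ
    rw [htt] at h1
    exact h1.unique (by have := hP.three; omega) HasPerm.one
  by_cases hmv : ∃ a, σ a ≠ a
  · obtain ⟨a, ha⟩ := hmv
    refine Or.inr ?_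
    set b := σ a with hb
    obtain ⟨g, hg⟩ := hP.exists_kap_vec
    obtain ⟨g', hg', hgg⟩ := exists_kap_orth hP hg
    have hor : om G g g' = 0 := by rw [hG.comm]; exact hgg
    obtain ⟨e1, e2⟩ := IsSim.conj_refG hP (hs b) hg
    obtain ⟨e3, e4⟩ := IsSim.conj_refG hP (hs b) hg'
    set u := (gs b : Matrix (Fin m) (Fin m) F) *ᵥ g
    set u' := (gs b : Matrix (Fin m) (Fin m) F) *ᵥ g'
    have huu : om G u u' = 0 := by
      obtain ⟨k, -, hk⟩ := hs b
      rw [hk, hor, mul_zero]
    have hti : t⁻¹ = t := inv_eq_of_mul_eq_one_right htt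
    have key : ∀ {z w : Fin m → F}, gs b * refG G z * (gs b)⁻¹ = refG G w →
        Commute t (embG a (refG G z) * embG b (refG G w)) := by
      intro z w h
      have h1 : t * embG a (refG G z) * t⁻¹ = embG b (refG G w) := by rw [hte, conj_embG, ← hb, h]
      have h3 : t * embG b (refG G w) * t⁻¹ = embG a (refG G z) := by
        rw [← h1, hti, show t * (t * embG a (refG G z) * t) * t = t * t * embG a (refG G z) * (t * t) by group, htt,
          one_mul, mul_one]
      refine mul_inv_eq_iff_eq_mul.1 ?_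
      rw [show t * (embG a (refG G z) * embG b (refG G w)) * t⁻¹ =
        (t * embG a (refG G z) * t⁻¹) * (t * embG b (refG G w) * t⁻¹) by group, h1, h3]
      exact embG_comm ha _ _
    refine ⟨_, M.mul_mem (hC.set.refl a g hg) (hC.set.refl b u e2), _,
      M.mul_mem (hC.set.refl a g' hg') (hC.set.refl b u' e4), key e1, key e3, hC.ctl_cross (Ne.symm ha) hg e2,
      hC.ctl_cross (Ne.symm ha) hg' e4, ?_⟩
    rw [Commute.mul_mul_mul_comm (embG_comm ha (refG G u) (refG G g')), ← map_mul, ← map_mul]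
    exact hC.ctl_quad (Ne.symm ha) hg hg' hor e2 e4 huu
  push Not at hmv
  have hσ1 : σ = 1 := Equiv.ext hmv
  rw [hσ1, map_one, mul_one] at hte
  by_cases hrefl : ∃ l g, Kap G d g ∧ Commute t (embG l (refG G g))
  · exact Or.inl hrefl
  refine Or.inr ?_
  push Not at hrefl
  have hcomm : ∀ l (A : GL (Fin m) F), Commute (gs l) A → Commute t (embG l A) := fun l A hA => by
    rw [hte, embG_eq_PtG]
    refine Commute.map ?_ PtG
    funext k
    rcases eq_or_ne k l with rfl | hk
    · simpa using hA.eq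
    · simp [hk]
  have hpair : ∀ l, ∃ g g', Kap G d g ∧ Kap G d g' ∧ om G g g' = 0 ∧
      Commute t (embG l (refG G g * refG G g')) := by
    intro l
    obtain ⟨c, -, hc⟩ := exists_smul_of_PtG_eq
      (show PtG (1 : ι → GL (Fin m) F) = PtG (gs * gs) by rw [map_one, map_mul, ← hte, htt]) l
    rcases exists_comm_refl_or_pair hP (hs l) (l := c) (by simpa using hc) with ⟨e, he, h1⟩ |
      ⟨g, g', h1, h2, h3, h4⟩
    · exact absurd (hcomm l _ h1) (hrefl l e he)
    · exact ⟨g, g', h1, h2, h3, hcomm l _ h4⟩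
  obtain ⟨l, l', hll⟩ := exists_pair_ne ι
  obtain ⟨g, g', hg, hg', hgg, hgc⟩ := hpair l
  obtain ⟨h, h', hh, hh', hhh, hhc⟩ := hpair l'
  exact ⟨_, by rw [map_mul]; exact M.mul_mem (hC.set.refl l g hg) (hC.set.refl l g' hg'),
    _, by rw [map_mul]; exact M.mul_mem (hC.set.refl l' h hh) (hC.set.refl l' h' hh'), hgc, hhc,
    hC.ctl_same hg hg'.ne hgg, hC.ctl_same hh hh'.ne hhh, hC.ctl_quad hll hg hg' hgg hh hh' hhh⟩

/-- Without a seed everything lies in the wreath group. -/
theorem le_wreath : M ≤ wreath ι m F := by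
  intro y hy
  have hP := hC.set.par
  have hm2 : 2 ≤ m := by have := hP.three; omega
  obtain ⟨a, b, hab⟩ := exists_pair_ne ι
  obtain ⟨e, he⟩ := hP.exists_kap_vec
  set r := embG a (refG G e) with hr
  set x := r * embG b (refG G e) with hx
  have hrM : r ∈ M := hC.set.refl a e he
  have hxM : x ∈ M := M.mul_mem hrM (hC.set.refl b e he)
  set t := y * x * y⁻¹ with ht
  have htM : t ∈ M := M.mul_mem (M.mul_mem hy hxM) (M.inv_mem hy)
  have htt : t * t = 1 := by
    have hrr' : Commute r (embG b (refG G e)) := embG_comm hab _ _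
    rw [ht, show y * x * y⁻¹ * (y * x * y⁻¹) = y * (x * x) * y⁻¹ by group, hx, hrr'.symm.mul_mul_mul_comm, hr,
      (hC.refl_mem_inv he).2, (hC.refl_mem_inv he).2, mul_one, mul_one, mul_inv_cancel]
  have hyi := M.inv_mem hy
  have fin : ∀ v, Ctl M v → Commute (y⁻¹ * v * y) r → y ∈ wreath ι m F := fun v hv hc => by
    refine hC.mem_of_conj_refl hy he (hv _ (hC.conj_refl_mem hy a he) ?_)
    have h1 := (Commute.conj_iff y).2 hc
    rw [show y * (y⁻¹ * v * y) * y⁻¹ = v by group] at h1
    exact h1.symm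
  have pre : ∀ v ∈ M, Commute t v → y⁻¹ * v * y ∈ M ∧ Commute (y⁻¹ * v * y) x := fun v hv hc => by
    refine ⟨M.mul_mem (M.mul_mem hyi hv) hy, (Commute.conj_iff y).1 ?_⟩
    rw [show y * (y⁻¹ * v * y) * y⁻¹ = v by group]
    exact hc.symm
  rcases hC.exists_comm_controlled htM (hC.conj_pair_mem hab he he hy) htt with ⟨l, g, hg, hc⟩ |
    ⟨v, hvM, v', hv'M, hc, hc', hv, hv', hvv⟩
  · obtain ⟨h1, h2⟩ := pre _ (hC.set.refl l g hg) hc
    have h3 := hC.ctl_cross hab he he _ h1 h2
    have h4 := hC.mem_of_conj_refl hyi hg (by rwa [inv_inv])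
    simpa using (wreath ι m F).inv_mem h4
  by_contra hyW
  obtain ⟨h1, h2⟩ := pre v hvM hc
  obtain ⟨h1', h2'⟩ := pre v' hv'M hc'
  obtain ⟨σ, hσ⟩ := hC.ctl_cross hab he he _ h1 h2
  obtain ⟨σ', hσ'⟩ := hC.ctl_cross hab he he _ h1' h2'
  have hswap : ∀ (w : GL (ι → Fin m) F) (τ : Equiv.Perm ι), w ∈ M → HasPerm w τ → Commute w x → ¬ Commute w r →
      τ a = b ∧ τ b = a := by
    intro w τ hw hτ hwx hne
    obtain ⟨ha, hb⟩ := hC.moves_of_comm hab he he hτ hwx
    have ha' : τ.symm a = b := ha.resolve_left fun h =>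
      hne (hC.comm_of_fix hab he hw hτ hwx (τ.symm_apply_eq.1 h).symm)
    have hb' : τ.symm b = a := hb.resolve_right fun h => hab (τ.symm.injective (ha'.trans h.symm))
    exact ⟨(τ.symm_apply_eq.1 hb').symm, (τ.symm_apply_eq.1 ha').symm⟩
  obtain ⟨hσa, hσb⟩ := hswap _ σ h1 hσ h2 fun h => hyW (fin v hv h)
  obtain ⟨hσa', hσb'⟩ := hswap _ σ' h1' hσ' h2' fun h => hyW (fin v' hv' h)
  refine hyW (fin (v * v') hvv ?_)
  rw [show y⁻¹ * (v * v') * y = (y⁻¹ * v * y) * (y⁻¹ * v' * y) by group]
  exact hC.comm_of_fix hab he (M.mul_mem h1 h1') (hσ.mul hσ') (h2.mul_left h2')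
    (by rw [Equiv.Perm.mul_apply, hσa', hσb])

end Core

/-- An overgroup lies in the wreath group or contains a seed. -/
theorem le_wreath_or_seed : ∀ (n : ℕ) (κ : Type) [Fintype κ] [DecidableEq κ] [Nonempty κ],
    Fintype.card κ = n → ∀ M : Subgroup (GL (κ → Fin m) F), Setting G d M → M ≤ wreath κ m F ∨ Seed G d M := by
  classical
  intro n
  induction n using Nat.strong_induction_on with
  | _ n ih =>
  intro κ _ _ _ hn M hS
  have : NeZero m := ⟨by have := hS.par.three; omega⟩
  rcases subsingleton_or_nontrivial κ with h | h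
  · exact Or.inl fun g _ => mem_wreath_of_subsingleton g
  refine or_iff_not_imp_right.2 fun hns => Core.le_wreath (M := M) ⟨hS, hns, fun i X hX => ?_⟩
  have : Nonempty {j // j ≠ i} := by
    obtain ⟨j, hj⟩ := exists_ne i
    exact ⟨⟨j, hj⟩⟩
  refine ih _ ?_ {j // j ≠ i} rfl X hX
  rw [← hn, Fintype.card_subtype_compl, Fintype.card_subtype_eq]
  have := Fintype.card_pos (α := κ)
  omega

end CfsgLib.TWOr
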