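import Cfsg.Agent.TensorWreathOrth.OmegaMain
import Cfsg.Agent.OrthMax.Models

/-!
# The two targets reduced to the dichotomy

`target_odd` is the statement for odd factor dimension; `target_even` the one for even factor dimension,
with the exception of two factors of non-square discriminant.
-/

set_option autoImplicit false
set_option linter.unusedSectionVars false

namespace CfsgLib.TWOr

open Matrix Module CfsgLib.TWreath Cfsg.Geo
open CfsgLib.TWSp (om)

variable {F : Type*} [Field F] [Fintype F] {k : ℕ}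

/-- The factor of odd dimension. -/
theorem par_odd (hodd : Odd (Fintype.card F)) (hk : 3 ≤ k) (hko : Odd k)
    (hex : ¬ (Fintype.card F = 3 ∧ k = 3)) {f₁ : (Fin k → F) → (Fin k → F) → F} (hf₁ : IsSymmetricForm f₁) :
    Par (gramMatrix f₁) (gramMatrix f₁).det where
  form := oForm_gramMatrix (CfsgLib.MaxSub.two_ne_zero_of_odd hodd) hf₁
  d_ne := (oForm_gramMatrix (CfsgLib.MaxSub.two_ne_zero_of_odd hodd) hf₁).det.ne_zero
  three := hk
  five := fun h3 => by
    rw [Nat.card_eq_fintype_card]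
    have h2 : 2 ≤ Fintype.card F := Fintype.one_lt_card
    obtain ⟨r, hr⟩ := hodd
    by_contra hlt
    exact hex ⟨by omega, h3⟩
  disc _ := ⟨_, rfl⟩
  plane h4 := absurd (h4 ▸ hko) (by decide)

/-- The factor of even dimension. -/
theorem par_even (hodd : Odd (Fintype.card F)) (hke : Even k) {f₁ : (Fin k → F) → (Fin k → F) → F}
    (hf₁ : IsSymmetricForm f₁)
    (hsize : (6 ≤ k ∧ IsPlusTypeOn (fun v : Fin k → F => f₁ v v) ⊤) ∨
      (4 ≤ k ∧ ¬ IsPlusTypeOn (fun v : Fin k → F => f₁ v v) ⊤)) :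
    Par (gramMatrix f₁) 1 where
  form := oForm_gramMatrix (CfsgLib.MaxSub.two_ne_zero_of_odd hodd) hf₁
  d_ne := one_ne_zero
  three := by rcases hsize with h | h <;> omega
  five h3 := by subst h3; exact absurd hke (by decide)
  disc h := absurd hke (Nat.not_even_iff_odd.2 h)
  plane h4 := by
    intro x y hx hxx hyy hxy
    by_contra! hne
    have hns : ¬ IsPlusTypeOn (fun v : Fin k → F => f₁ v v) ⊤ := by
      rcases hsize with h | h
      · omega
      · exact h.2
    have hG := oForm_gramMatrix (CfsgLib.MaxSub.two_ne_zero_of_odd hodd) hf₁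
    refine hns ⟨Submodule.span F {x, y}, le_top, fun w hw => ?_, ?_⟩
    · obtain ⟨a, b, rfl⟩ := Submodule.mem_span_pair.1 hw
      show f₁ _ _ = 0
      rw [← om_gramMatrix hf₁]
      simp only [TWSp.om_add_left, TWSp.om_add_right, TWSp.om_smul_left, TWSp.om_smul_right, hxx, hyy, hxy,
        hG.comm y x, mul_zero, add_zero]
    · have hli : LinearIndependent F ![x, y] := (LinearIndependent.pair_iff' hx).2 hne
      have h2 := finrank_span_eq_card hli
      rw [Matrix.range_cons_cons_empty, Fintype.card_fin] at h2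
      rw [h2, finrank_top, Module.finrank_fin_fun, h4]

/-- The statement for odd factor dimension, given the dichotomy. -/
theorem target_odd (hodd : Odd (Fintype.card F)) {m : ℕ} (hm : 6 ≤ m) {t : ℕ} (hk : 3 ≤ k) (ht : 2 ≤ t)
    (hex : ¬ (Fintype.card F = 3 ∧ k = 3)) (e : (Unit ⊕ (Fin m ⊕ Fin m)) ≃ (Fin t → Fin k))
    (P : GL (Unit ⊕ (Fin m ⊕ Fin m)) F) {f₁ : (Fin k → F) → (Fin k → F) → F} (hf₁ : IsSymmetricForm f₁)
    (hT : IsTensorPowerFormStructure id (QuadraticMap.polar (Cfsg.quadFormOdd m F)) f₁ e P)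
    (hdich : ∀ (G : Matrix (Fin k) (Fin k) F) (d : F), Par G d → Dichotomy G d t) :
    IsMaximalIn (omegaGL (Cfsg.quadFormOdd m F))
      (tensorWreathSubgroup k t e P ⊓ omegaGL (Cfsg.quadFormOdd m F)) := by
  have hko : Odd k := by
    have h1 := Fintype.card_congr e
    rw [Fintype.card_fun, Fintype.card_fin, Fintype.card_fin, Fintype.card_sum, Fintype.card_sum,
      Fintype.card_unit, Fintype.card_fin] at h1
    by_contra h
    have h2 : Even (k ^ t) := Nat.even_pow.2 ⟨Nat.not_odd_iff_even.1 h, by omega⟩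
    rw [← h1] at h2
    obtain ⟨r, hr⟩ := h2
    omega
  have hP := par_odd hodd hk hko hex hf₁
  exact isMaximalIn_orthWreath_of_dich (CfsgLib.OrthMax.quadFormOdd_isNondeg hodd m) ht e P hT hP
    (fun h => absurd h (Nat.not_even_iff_odd.2 hko)) (hdich _ _ hP)

/-- The statement for even factor dimension, given the dichotomy; two factors need a square discriminant. -/
theorem target_even {n : ℕ} {Q : (Fin n → F) → F} (hQ : IsNondegenerateQuadraticForm Q)
    (hodd : Odd (Fintype.card F)) {t : ℕ} (ht : 2 ≤ t) (hke : Even k) (e : Fin n ≃ (Fin t → Fin k))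
    (P : GL (Fin n) F) {f₁ : (Fin k → F) → (Fin k → F) → F} (hf₁ : IsSymmetricForm f₁)
    (hsize : (6 ≤ k ∧ IsPlusTypeOn (fun v : Fin k → F => f₁ v v) ⊤) ∨
      (4 ≤ k ∧ ¬ IsPlusTypeOn (fun v : Fin k → F => f₁ v v) ⊤))
    (hT : IsTensorPowerFormStructure id (QuadraticMap.polar Q) f₁ e P)
    (hgap : 3 ≤ t ∨ IsSquare (gramMatrix f₁).det)
    (hdich : ∀ (G : Matrix (Fin k) (Fin k) F) (d : F), Par G d → Dichotomy G d t) :
    IsMaximalIn (omegaGL Q) (tensorWreathSubgroup k t e P ⊓ omegaGL Q) := by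
  have hP := par_even hodd hke hf₁ hsize
  exact isMaximalIn_orthWreath_of_dich hQ ht e P hT hP (fun _ => hgap) (hdich _ _ hP)

end CfsgLib.TWOr
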