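import Cfsg.Agent.TensorWreathOrth.Frame

/-!
# Elements of the wreath group conjugate to a reflection
-/

set_option autoImplicit false
set_option linter.unusedSectionVars false

namespace CfsgLib.TWOr

open Matrix Module CfsgLib.MaxSub CfsgLib.TWreath
open CfsgLib.TWSp (om kr spG gsim IsIso emb_eq_kr kr_mulVec_lift isIso_embG isIso_conj Pt_eq_kr)

variable {F : Type*} [Field F] {m : ℕ} {G : Matrix (Fin m) (Fin m) F} {d : F}
  {ι : Type} [Fintype ι] [DecidableEq ι]

/-- The flips of two factors. -/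
def IsFlip (w : GL (ι → Fin m) F) : Prop :=
  ∃ a b : ι, a ≠ b ∧ HasPerm w (Equiv.swap a b) ∧ ∀ c, c ≠ a → c ≠ b → ∀ X : Matrix (Fin m) (Fin m) F,
    (w : Matrix (ι → Fin m) (ι → Fin m) F) * emb c X = emb c X * (w : Matrix (ι → Fin m) (ι → Fin m) F)

/-- Idempotents of the diagonal. -/
def eDiag (p : Fin m) : Matrix (Fin m) (Fin m) F := Matrix.single p p 1

theorem eDiag_mul (p q : Fin m) : (eDiag p : Matrix (Fin m) (Fin m) F) * eDiag q = if p = q then eDiag p else 0 := by
  rw [eDiag, eDiag]
  split_ifs with h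
  · subst h; simp
  · simp [h]

theorem sum_eDiag : ∑ p, (eDiag p : Matrix (Fin m) (Fin m) F) = 1 := by
  ext r s
  rcases eq_or_ne r s with rfl | h
  · simp [eDiag, Matrix.sum_apply, Matrix.single_apply]
  · rw [Matrix.sum_apply, Matrix.one_apply_ne h]
    refine Finset.sum_eq_zero fun p _ => ?_
    rw [eDiag, Matrix.single_apply, if_neg fun hh => h (hh.1.symm.trans hh.2)]

variable [Finite F]

set_option maxHeartbeats 1600000 in
/-- An involution moving two factors moves at least a flip. -/
theorem moved_pair [Nontrivial ι] (hP : Par G d) {w : GL (ι → Fin m) F} {σ : Equiv.Perm ι} (hσ : HasPerm w σ)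
    (hw2 : w * w = 1) {a : ι} (ha : σ a ≠ a)
    (hrank : ((w : Matrix (ι → Fin m) (ι → Fin m) F) - 1).rank ≤ bdim ι m) :
    m = 3 ∧ IsFlip w := by
  classical
  have hm := hP.three
  have : NeZero m := ⟨by omega⟩
  have hG := hP.form
  set W := (w : Matrix (ι → Fin m) (ι → Fin m) F)
  have hW2 : W * W = 1 := by rw [← Units.val_mul, hw2, Units.val_one]
  have hσ2 : σ * σ = 1 := by
    have h1 := hσ.mul hσ
    rw [hw2] at h1
    exact (h1.unique (by omega) HasPerm.one)
  set b := σ a with hb
  have hσb : σ b = a := by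
    have := congrArg (fun τ : Equiv.Perm ι => τ a) hσ2
    simpa [hb] using this
  have hab : a ≠ b := fun e => ha e.symm
  obtain ⟨hh, hconj⟩ := hσ.conj_emb
  set A := (hh a : Matrix (Fin m) (Fin m) F)
  set A' := (((hh a)⁻¹ : GL (Fin m) F) : Matrix (Fin m) (Fin m) F)
  have hAA : A * A' = 1 := Units.mul_inv _
  have hAA' : A' * A = 1 := Units.inv_mul _
  have hwa : ∀ X, W * emb a X = emb b (A * X * A') * W := fun X => hconj a X
  have hwb : ∀ X, W * emb b (A * X * A') = emb a X * W := fun X => by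
    have h1 := congrArg (W * · * W) (hwa X)
    simp only [← mul_assoc, hW2, one_mul] at h1
    rw [mul_assoc (W * emb b _), hW2, mul_one] at h1
    exact h1.symm
  let Fq : Fin m → Matrix (Fin m) (Fin m) F := fun q => A * eDiag q * A'
  have hFq : ∀ p q, Fq p * Fq q = if p = q then Fq p else 0 := fun p q => by
    show A * eDiag p * A' * (A * eDiag q * A') = _
    rw [show A * eDiag p * A' * (A * eDiag q * A') = A * (eDiag p * ((A' * A) * eDiag q)) * A' by
      simp only [mul_assoc], hAA', one_mul, eDiag_mul]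
    split_ifs <;> simp [Fq]
  let P : Fin m → Fin m → Matrix (ι → Fin m) (ι → Fin m) F := fun p q => emb a (eDiag p) * emb b (Fq q)
  have hPmul : ∀ p q p' q', P p q * P p' q' = if p = p' ∧ q = q' then P p q else 0 := fun p q p' q' => by
    show emb a (eDiag p) * emb b (Fq q) * (emb a (eDiag p') * emb b (Fq q')) = _
    rw [mul_assoc, ← mul_assoc (emb b (Fq q)), ← emb_comm hab, mul_assoc, ← emb_mul b, ← mul_assoc, ← emb_mul a,
      eDiag_mul, hFq]
    split_ifs <;> simp_all [P, emb_zero]
  have hwP : ∀ p q, W * P p q = P q p * W := fun p q => by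
    show W * (emb a (eDiag p) * emb b (Fq q)) = emb a (eDiag q) * emb b (Fq p) * W
    rw [← mul_assoc, hwa, mul_assoc, hwb, ← mul_assoc, ← emb_comm hab]
  -- the pairs
  let S := {x : Fin m × Fin m // x.1 < x.2}
  let Φ : (∀ x : S, LinearMap.range (P x.1.1 x.1.2).mulVecLin) →ₗ[F] ((ι → Fin m) → F) :=
    (W - 1).mulVecLin.comp (∑ x : S, (Submodule.subtype _).comp (LinearMap.proj x))
  have hΦ : ∀ v, Φ v = (W - 1) *ᵥ ∑ x : S, (v x : (ι → Fin m) → F) := fun v => by
    simp [Φ, LinearMap.sum_apply, sub_mulVec, one_mulVec, mulVec_sum]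
  have hfix : ∀ (x : S) (v : LinearMap.range (P x.1.1 x.1.2).mulVecLin),
      P x.1.1 x.1.2 *ᵥ (v : (ι → Fin m) → F) = v := by
    rintro x ⟨_, u, rfl⟩
    show P x.1.1 x.1.2 *ᵥ (P x.1.1 x.1.2 *ᵥ u) = P x.1.1 x.1.2 *ᵥ u
    rw [mulVec_mulVec, hPmul, if_pos ⟨rfl, rfl⟩]
  have hother : ∀ (p q : Fin m) (x : S), ¬ (p = x.1.1 ∧ q = x.1.2) →
      ∀ v : LinearMap.range (P x.1.1 x.1.2).mulVecLin, P p q *ᵥ (v : (ι → Fin m) → F) = 0 := by
    intro p q x hne v
    rw [← hfix x v, mulVec_mulVec, hPmul, if_neg hne, zero_mulVec]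
  have hPΦ : ∀ (p q : Fin m) v, P p q *ᵥ Φ v =
      W *ᵥ ∑ x : S, P q p *ᵥ (v x : (ι → Fin m) → F) - ∑ x : S, P p q *ᵥ (v x : (ι → Fin m) → F) := fun p q v => by
    rw [hΦ, sub_mulVec, one_mulVec, mulVec_sub, mulVec_mulVec, ← hwP q p, ← mulVec_mulVec]
    simp only [mulVec_sum]
  have hinj : Function.Injective Φ := by
    rw [← LinearMap.ker_eq_bot, LinearMap.ker_eq_bot']
    intro v hv
    funext x
    refine Subtype.ext ?_
    have h1 := hPΦ x.1.1 x.1.2 v
    rw [hv, mulVec_zero, Finset.sum_eq_zero (s := Finset.univ) (f := fun y : S => P x.1.2 x.1.1 *ᵥ _) (fun y _ =>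
        hother _ _ y (fun h => by
          have := x.2
          have := y.2
          rw [← h.1, ← h.2] at this
          exact lt_irrefl _ (lt_trans x.2 this)) _),
      mulVec_zero, zero_sub, zero_eq_neg, Finset.sum_eq_single x (fun y _ hy => hother _ _ y (fun h => hy
        (Subtype.ext (Prod.ext h.1.symm h.2.symm))) _) (fun h => absurd (Finset.mem_univ _) h), hfix] at h1
    exact h1
  have hle : LinearMap.range Φ ≤ LinearMap.range (W - 1).mulVecLin := LinearMap.range_comp_le_range _ _
  -- dimensions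
  have hPd : ∀ p q, bdim {k // k ≠ a} m ≤ finrank F (LinearMap.range (P p q).mulVecLin) := by
    intro p q
    set x := (Pi.single p 1 : Fin m → F)
    set z := A *ᵥ (Pi.single q 1 : Fin m → F)
    have hx : x ≠ 0 := fun h => one_ne_zero (α := F) (by simpa [x] using congrFun h p)
    have hz : z ≠ 0 := fun h => one_ne_zero (α := F) (by
      have h1 := congrArg (A' *ᵥ ·) h
      simp only [z, mulVec_mulVec, hAA', one_mulVec, mulVec_zero] at h1
      simpa using congrFun h1 q)
    let bb : {k // k ≠ a} := ⟨b, ha⟩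
    rw [← finrank_block (F := F) (i := bb) hz,
      (Submodule.equivMapOfInjective (lift a x) (lift_injective hx) (block bb z)).finrank_eq]
    refine Submodule.finrank_mono ?_
    rintro _ ⟨v, hv, rfl⟩
    obtain ⟨u, rfl⟩ := exists_lift_of_mem_block hz hv
    refine ⟨lift a x (lift bb z u), ?_⟩
    show (emb a (eDiag p) * emb b (Fq q)) *ᵥ _ = _
    rw [show emb b (Fq q) = emb (bb : ι) (Fq q) from rfl, TWSp.emb_rest a bb, ← mulVec_mulVec, kr_mulVec_lift,
      one_mulVec, emb_mulVec_lift, emb_mulVec_lift]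
    have e1 : Fq q *ᵥ z = z := by
      show (A * eDiag q * A') *ᵥ (A *ᵥ Pi.single q 1) = _
      rw [mulVec_mulVec, mul_assoc, hAA', mul_one, ← mulVec_mulVec]
      rw [eDiag, Matrix.single_mulVec]
      simp [z, Pi.single]
      rw [show Function.update (0 : Fin m → F) q 1 = Pi.single q 1 from rfl, mulVec_single_one]
    have e2 : (eDiag p : Matrix (Fin m) (Fin m) F) *ᵥ x = x := by
      rw [eDiag, Matrix.single_mulVec]
      simp [x, Pi.single]
    rw [e1, e2]
  have hsum : Fintype.card S * bdim {k // k ≠ a} m ≤ finrank F (LinearMap.range Φ) := by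
    rw [LinearMap.finrank_range_of_inj hinj, Module.finrank_pi_fintype, ← smul_eq_mul, ← Finset.card_univ,
      ← Finset.sum_const]
    exact Finset.sum_le_sum fun x _ => hPd _ _
  have hpos : 0 < bdim {k // k ≠ a} m := pow_pos (by omega) _
  have hrank' : finrank F (LinearMap.range (W - 1).mulVecLin) ≤ m * bdim {k // k ≠ a} m := by
    rw [← bdim_eq_mul]; exact hrank
  have hm3 : m = 3 := by
    by_contra hne
    have hcard : m + 1 ≤ Fintype.card S := by
      let f : Fin (m + 1) → S := fun k =>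
        if h1 : k.1 < m - 1 then ⟨(⟨0, by omega⟩, ⟨k.1 + 1, by omega⟩), Fin.mk_lt_mk.2 (by omega)⟩
        else if k.1 = m - 1 then ⟨(⟨1, by omega⟩, ⟨2, by omega⟩), Fin.mk_lt_mk.2 (by omega)⟩
        else ⟨(⟨1, by omega⟩, ⟨3, by omega⟩), Fin.mk_lt_mk.2 (by omega)⟩
      have hf : Function.Injective f := fun k l h => by
        have hk := k.2
        have hl := l.2
        refine Fin.ext ?_
        simp only [f] at h
        have h1 := congrArg (fun x : S => (x.1.1.1, x.1.2.1)) h
        split_ifs at h1 <;> simp only [Prod.mk.injEq] at h1 <;> omega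
      simpa using Fintype.card_le_of_injective f hf
    have := (hsum.trans (Submodule.finrank_mono hle)).trans hrank'
    nlinarith
  subst hm3
  refine ⟨rfl, a, b, hab, ?_⟩
  have hS : Fintype.card S = 3 := by decide
  rw [hS] at hsum
  have hrange : LinearMap.range Φ = LinearMap.range (W - 1).mulVecLin :=
    Submodule.eq_of_le_of_finrank_le hle (hrank'.trans hsum)
  have hdiag : ∀ p, (W - 1) * P p p = 0 := by
    intro p
    refine Matrix.ext_of_mulVec_single fun r => ?_
    rw [zero_mulVec]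
    set u := ((W - 1) * P p p) *ᵥ (Pi.single r 1 : (ι → Fin 3) → F)
    obtain ⟨v, hv⟩ : u ∈ LinearMap.range Φ := by
      rw [hrange]; exact ⟨P p p *ᵥ Pi.single r 1, by rw [mulVecLin_apply, mulVec_mulVec]⟩
    have h1 := hPΦ p p v
    rw [hv, Finset.sum_eq_zero (fun y _ => hother _ _ y (fun h => (ne_of_lt y.2) (h.1.symm.trans h.2)) _), mulVec_zero,
      sub_zero] at h1
    have h2 : P p p *ᵥ u = u := by
      show P p p *ᵥ (((W - 1) * P p p) *ᵥ _) = ((W - 1) * P p p) *ᵥ _
      rw [mulVec_mulVec, sub_mul, one_mul, mul_sub, ← mul_assoc, ← hwP, mul_assoc, hPmul, if_pos ⟨rfl, rfl⟩]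
    rwa [h2] at h1
  have hWP : ∀ p, W * P p p = P p p := fun p => by
    have := hdiag p; rwa [sub_mul, one_mul, sub_eq_zero] at this
  -- the other factors
  have hcomm : ∀ c, c ≠ a → c ≠ b → ∀ X : Matrix (Fin 3) (Fin 3) F, W * emb c X = emb c X * W := by
    intro c hca hcb X
    have hca' : σ c ≠ a := fun h => hcb (σ.injective (h.trans hσb.symm))
    have hcb' : σ c ≠ b := fun h => hca (σ.injective h)
    set X' := (hh c : Matrix (Fin 3) (Fin 3) F) * X * (((hh c)⁻¹ : GL (Fin 3) F) : Matrix (Fin 3) (Fin 3) F)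
    have hX : W * emb c X = emb (σ c) X' * W := hconj c X
    set Z := emb (σ c) X' - emb c X
    have hcm : ∀ (Y : Matrix (Fin 3) (Fin 3) F), Z * emb a Y = emb a Y * Z ∧ Z * emb b Y = emb b Y * Z := fun Y => by
      constructor <;>
      · rw [sub_mul, mul_sub]
        congr 1 <;> exact emb_comm (by assumption) _ _
    have hZ : ∀ p, Z * P p p = 0 := fun p => by
      have e1 : P p p * emb c X = emb c X * P p p := by
        show emb a _ * emb b _ * emb c X = _
        rw [mul_assoc, ← emb_comm hcb, ← mul_assoc, ← emb_comm hca, mul_assoc]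
      have e2 : emb (σ c) X' * P p p = emb c X * P p p := by
        conv_lhs => rw [← hWP p, ← mul_assoc, ← hX, mul_assoc, ← e1, ← mul_assoc, hWP, e1]
      rw [sub_mul, e2, sub_self]
    have hZ0 : ∀ p q, Z * P p q = 0 := fun p q => by
      set L := emb b (A * Matrix.single q p (1 : F) * A')
      set R := emb b (A * Matrix.single p q (1 : F) * A')
      have e : P p q = L * P p p * R := by
        show emb a _ * emb b _ = L * (emb a _ * emb b _) * R
        rw [← mul_assoc L, ← emb_comm hab, mul_assoc (emb a _) L, mul_assoc (emb a _), ← emb_mul, ← emb_mul]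
        congr 2
        show A * eDiag q * A' = _
        rw [show A * Matrix.single q p 1 * A' * (A * eDiag p * A') * (A * Matrix.single p q 1 * A') =
          A * (Matrix.single q p 1 * ((A' * A) * (eDiag p * ((A' * A) * Matrix.single p q 1)))) * A' by
            simp only [Fq, mul_assoc], hAA', one_mul, one_mul]
        simp [eDiag]
      rw [e, ← mul_assoc, ← mul_assoc, (hcm _).2, mul_assoc L Z, hZ, mul_zero, zero_mul]
    have hsumP : ∑ p, ∑ q, P p q = 1 := by
      have h1 : ∑ q, Fq q = 1 := by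
        show ∑ q, A * eDiag q * A' = 1
        rw [← Finset.sum_mul, ← Finset.mul_sum, sum_eDiag, mul_one, hAA]
      show ∑ p, ∑ q, emb a (eDiag p) * emb b (Fq q) = 1
      simp only [← Finset.mul_sum, ← Finset.sum_mul, ← embAlg_apply, ← map_sum, sum_eDiag, h1, map_one, mul_one]
    have hZz : Z = 0 := by
      rw [← mul_one Z, ← hsumP]
      simp only [Finset.mul_sum, hZ0, Finset.sum_const_zero]
    rw [hX, sub_eq_zero.1 hZz]
  have hσe : σ = Equiv.swap a b := by
    refine Equiv.ext fun c => ?_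
    rcases eq_or_ne c a with rfl | hca
    · rw [Equiv.swap_apply_left]
    rcases eq_or_ne c b with rfl | hcb
    · rw [Equiv.swap_apply_right, hσb]
    rw [Equiv.swap_apply_of_ne_of_ne hca hcb]
    by_contra hne
    have hall : ∀ X Y : Matrix (Fin 3) (Fin 3) F, X * Y = Y * X := fun X Y => by
      refine emb_injective c ?_
      set X' := (hh c : Matrix (Fin 3) (Fin 3) F) * X * (((hh c)⁻¹ : GL (Fin 3) F) : Matrix (Fin 3) (Fin 3) F)
      have h1 : emb c X = emb (σ c) X' := by
        have e1 : emb c X * W = emb (σ c) X' * W := (hcomm c hca hcb X).symm.trans (hconj c X)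
        have e2 := congrArg (· * W) e1
        simp only [mul_assoc, hW2, mul_one] at e2
        exact e2
      rw [emb_mul, emb_mul, h1, emb_comm hne]
    have h2 := congrFun (congrFun (hall (Matrix.single 0 1 1) (Matrix.single 1 0 1)) 0) 0
    simp [Matrix.mul_apply, Matrix.single_apply] at h2
  exact ⟨hσe ▸ hσ, hcomm⟩

/-- Two independent vectors moved by an involutive scalar multiple. -/
theorem rank_of_nonsquare [Nontrivial ι] (hm : 3 ≤ m) (i : ι) {A : Matrix (Fin m) (Fin m) F}
    {B : Matrix (Rest i m) (Rest i m) F} {l : F} (hl : ∀ s : F, s * s ≠ l) (hA : A * A = l • 1)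
    {W : Matrix (ι → Fin m) (ι → Fin m) F} (hW : W = kr i A B) :
    bdim ι m < (W - 1).rank := by
  classical
  have : NeZero m := ⟨by omega⟩
  have hA2 : ∀ v, A *ᵥ (A *ᵥ v) = l • v := fun v => by rw [mulVec_mulVec, hA, smul_mulVec, one_mulVec]
  set v₁ := (Pi.single 0 1 : Fin m → F)
  set v₂' := A *ᵥ v₁
  set S := Submodule.span F {v₁, v₂'}
  obtain ⟨v₂, hv₂⟩ : ∃ v₂, v₂ ∉ S := by
    by_contra! h
    have h1 := finrank_span_le_card (R := F) ({v₁, v₂'} : Set (Fin m → F))
    have h2 : S = ⊤ := Submodule.eq_top_iff'.2 h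
    have h3 : finrank F S = m := by rw [h2, finrank_top, Module.finrank_fin_fun]
    have h4 : ({v₁, v₂'} : Set (Fin m → F)).toFinset.card ≤ 2 := by
      rw [Set.toFinset_insert, Set.toFinset_singleton]; exact Finset.card_le_two
    have h5 : finrank F S ≤ 2 := h1.trans h4
    omega
  have hv₁ : v₁ ≠ 0 := fun h => one_ne_zero (α := F) (by simpa [v₁] using congrFun h 0)
  have hind : ∀ a b : F, a • v₂' = b • v₁ → a = 0 ∧ b = 0 := fun a b h => by
    rcases eq_or_ne a 0 with rfl | ha
    · rw [zero_smul, eq_comm, smul_eq_zero] at h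
      exact ⟨rfl, h.resolve_right hv₁⟩
    · exfalso
      have h1 : A *ᵥ v₁ = (b / a) • v₁ := by
        rw [div_eq_inv_mul, ← smul_smul, ← h, smul_smul, inv_mul_cancel₀ ha, one_smul]
      have h2 := hA2 v₁
      rw [h1, mulVec_smul, h1, smul_smul] at h2
      exact hl (b / a) (smul_left_injective F hv₁ h2)
  have hSA : ∀ x ∈ S, A *ᵥ x ∈ S := fun x hx => by
    obtain ⟨a, b, rfl⟩ := Submodule.mem_span_pair.1 hx
    rw [mulVec_add, mulVec_smul, mulVec_smul]
    exact Submodule.mem_span_pair.2 ⟨b * l, a, by rw [show A *ᵥ v₂' = l • v₁ from hA2 v₁, smul_smul, add_comm]⟩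
  have hind4 : ∀ a b c e : F, a • v₂' - b • v₁ + (c • (A *ᵥ v₂) - e • v₂) = 0 → b = 0 ∧ e = 0 := by
    intro a b c e h
    have h1 : c • (A *ᵥ v₂) - e • v₂ ∈ S := by
      have e1 : c • (A *ᵥ v₂) - e • v₂ = -(a • v₂' - b • v₁) := eq_neg_of_add_eq_zero_right h
      rw [e1]
      exact S.neg_mem (S.sub_mem (S.smul_mem _ (Submodule.subset_span (by simp)))
        (S.smul_mem _ (Submodule.subset_span (by simp))))
    have h2 : (c * c * l - e * e) • v₂ ∈ S := by
      have := S.add_mem (S.smul_mem c (hSA _ h1)) (S.smul_mem e h1)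
      rw [mulVec_sub, mulVec_smul, mulVec_smul, hA2] at this
      convert this using 1
      module
    have hce : c * c * l - e * e = 0 := by
      by_contra hne
      exact hv₂ ((S.smul_mem_iff hne).1 h2)
    have hc : c = 0 := by
      by_contra hc
      exact hl (e / c) (by field_simp; linear_combination -hce)
    subst hc
    have he : e = 0 := mul_self_eq_zero.1 (by linear_combination -hce)
    subst he
    rw [zero_smul, zero_smul, sub_zero, add_zero, sub_eq_zero] at h
    exact ⟨(hind a b h).2, rfl⟩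
  let Φ : ((Rest i m → F) × (Rest i m → F)) →ₗ[F] ((ι → Fin m) → F) :=
    (W - 1).mulVecLin.comp ((lift i v₁).coprod (lift i v₂))
  have hinj : Function.Injective Φ := by
    rw [← LinearMap.ker_eq_bot, LinearMap.ker_eq_bot']
    rintro ⟨w₁, w₂⟩ h
    have h1 : ∀ r, (B *ᵥ w₁) r • v₂' - w₁ r • v₁ + ((B *ᵥ w₂) r • (A *ᵥ v₂) - w₂ r • v₂) = 0 := fun r => by
      funext p
      have := congrFun h (extend i p r)
      simp only [Φ, LinearMap.coe_comp, Function.comp_apply, LinearMap.coprod_apply, mulVecLin_apply, sub_mulVec,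
        one_mulVec, mulVec_add, hW, kr_mulVec_lift, Pi.add_apply, Pi.sub_apply, Pi.zero_apply, lift_apply,
        extend_self, extend_rest] at this
      simp only [v₂', Pi.add_apply, Pi.sub_apply, Pi.smul_apply, smul_eq_mul, Pi.zero_apply]
      linear_combination this
    refine Prod.ext (funext fun r => ?_) (funext fun r => ?_)
    · exact (hind4 _ _ _ _ (h1 r)).1
    · exact (hind4 _ _ _ _ (h1 r)).2
  have h3 := Submodule.finrank_mono (LinearMap.range_comp_le_range ((lift i v₁).coprod (lift i v₂)) (W - 1).mulVecLin)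
  rw [LinearMap.finrank_range_of_inj hinj, Module.finrank_prod, Module.finrank_pi, card_rest] at h3
  rw [Matrix.rank]
  have : 0 < bdim ι m := pow_pos (by omega) _
  omega

/-- Split involutions moving no more than a block live on one factor. -/
theorem exists_emb_of_split [Nontrivial ι] (hG : OForm G) (hm : 3 ≤ m) (i : ι) {A : Matrix (Fin m) (Fin m) F}
    {B : Matrix (Rest i m) (Rest i m) F} (hA : A * A = 1) (hB : B * B = 1) (hA1 : ∀ k : F, A ≠ k • 1)
    {W : Matrix (ι → Fin m) (ι → Fin m) F} (hW : W = kr i A B) (hrank : (W - 1).rank ≤ bdim ι m) :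
    ∃ a, W = emb i a := by
  classical
  have h2 := hG.two
  have : NeZero m := ⟨by omega⟩
  have hA2 : ∀ v, A *ᵥ (A *ᵥ v) = v := fun v => by rw [mulVec_mulVec, hA, one_mulVec]
  have hB2 : ∀ v, B *ᵥ (B *ᵥ v) = v := fun v => by rw [mulVec_mulVec, hB, one_mulVec]
  set R := LinearMap.range (B - 1).mulVecLin with hR
  set K := LinearMap.ker (B - 1).mulVecLin with hK
  have hRK : finrank F R + finrank F K = bdim ι m := by
    rw [hR, hK, LinearMap.finrank_range_add_finrank_ker, Module.finrank_pi, card_rest]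
  have hRneg : ∀ r ∈ R, B *ᵥ r = -r := by
    rintro _ ⟨u, rfl⟩
    rw [mulVecLin_apply, sub_mulVec, one_mulVec, mulVec_sub, hB2, neg_sub]
  have hKfix : ∀ r ∈ K, B *ᵥ r = r := fun r hr => by
    have := LinearMap.mem_ker.1 hr
    rwa [mulVecLin_apply, sub_mulVec, one_mulVec, sub_eq_zero] at this
  let L : (Fin m → F) →ₗ[F] (Fin m → F) := A.mulVecLin
  set P := LinearMap.ker (L - LinearMap.id)
  set N := LinearMap.ker (L + LinearMap.id)
  have hPN : IsCompl P N := by
    refine ⟨Submodule.disjoint_def.2 fun v h1 h3 => ?_, codisjoint_iff.2 (eq_top_iff.2 fun v _ => ?_)⟩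
    · have e1 : A *ᵥ v = v := sub_eq_zero.1 (LinearMap.mem_ker.1 h1)
      have e2 : A *ᵥ v + v = 0 := LinearMap.mem_ker.1 h3
      rw [e1, ← two_smul F] at e2
      exact (smul_eq_zero.1 e2).resolve_left h2
    · have e : v = (2 : F)⁻¹ • (v + A *ᵥ v) + (2 : F)⁻¹ • (v - A *ᵥ v) := by
        match_scalars <;> (field_simp; try ring)
      rw [e]
      refine Submodule.add_mem_sup (Submodule.smul_mem _ _ ?_) (Submodule.smul_mem _ _ ?_)
      · refine LinearMap.mem_ker.2 ?_
        show A *ᵥ _ - (v + A *ᵥ v) = 0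
        rw [mulVec_add, hA2]; abel
      · refine LinearMap.mem_ker.2 ?_
        show A *ᵥ _ + (v - A *ᵥ v) = 0
        rw [mulVec_sub, hA2]; abel
  set f := finrank F P
  set n := finrank F N
  have hfn : f + n = m := by rw [Submodule.finrank_add_eq_of_isCompl hPN, Module.finrank_fin_fun]
  have hf : 0 < f := by
    rw [Nat.pos_iff_ne_zero, ne_eq, Submodule.finrank_eq_zero]
    intro hb
    refine hA1 (-1) (Matrix.ext_of_mulVec_single fun q => ?_)
    have hv : Pi.single q (1 : F) ∈ N := by
      have ht := hPN.sup_eq_top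
      rw [hb, bot_sup_eq] at ht
      rw [ht]; trivial
    rw [smul_mulVec, one_mulVec, neg_one_smul]
    exact eq_neg_of_add_eq_zero_left (LinearMap.mem_ker.1 hv)
  have hn : 0 < n := by
    rw [Nat.pos_iff_ne_zero, ne_eq, Submodule.finrank_eq_zero]
    intro hb
    refine hA1 1 (Matrix.ext_of_mulVec_single fun q => ?_)
    have hv : Pi.single q (1 : F) ∈ P := by
      have ht := hPN.sup_eq_top
      rw [hb, sup_bot_eq] at ht
      rw [ht]; trivial
    rw [one_smul, one_mulVec]
    exact sub_eq_zero.1 (LinearMap.mem_ker.1 hv)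
  set bP := Module.finBasis F P
  set bN := Module.finBasis F N
  set b : Basis (Fin f ⊕ Fin n) F (Fin m → F) := (bP.prod bN).map (Submodule.prodEquivOfIsCompl P N hPN)
  have hb1 : ∀ k, b (Sum.inl k) = (bP k : Fin m → F) := fun k => by simp [b]
  have hb2 : ∀ k, b (Sum.inr k) = (bN k : Fin m → F) := fun k => by simp [b]
  let V : Fin f ⊕ Fin n → Submodule F (Rest i m → F) := Sum.elim (fun _ => R) fun _ => K
  let Φ : (∀ k, V k) →ₗ[F] ((ι → Fin m) → F) :=
    ∑ k, (lift i (b k)).comp ((V k).subtype.comp (LinearMap.proj k))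
  have hΦ : ∀ w, Φ w = ∑ k, lift i (b k) (w k : Rest i m → F) := fun w => by
    simp [Φ, LinearMap.sum_apply]
  have hinj : Function.Injective Φ := by
    rw [← LinearMap.ker_eq_bot, LinearMap.ker_eq_bot']
    intro w hw
    funext k
    refine Subtype.ext (funext fun r => ?_)
    have h1 : (∑ k', (w k' : Rest i m → F) r • b k') = 0 := by
      funext p
      have := congrFun hw (extend i p r)
      rw [hΦ, Finset.sum_apply] at this
      simp only [lift_apply, extend_self, extend_rest, Pi.zero_apply] at this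
      simp only [Finset.sum_apply, Pi.smul_apply, smul_eq_mul, Pi.zero_apply]
      simpa only [mul_comm] using this
    exact Fintype.linearIndependent_iff.1 b.linearIndependent _ h1 k
  have hle : LinearMap.range Φ ≤ LinearMap.range (W - 1).mulVecLin := by
    rintro _ ⟨w, rfl⟩
    rw [hΦ]
    refine Submodule.sum_mem _ fun k _ => ?_
    refine ⟨(-(2 : F)⁻¹) • lift i (b k) (w k : Rest i m → F), ?_⟩
    have e1 : lift i (A *ᵥ b k) (B *ᵥ (w k : Rest i m → F)) = -lift i (b k) (w k : Rest i m → F) := by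
      rcases k with k | k
      · rw [hb1, show A *ᵥ (bP k : Fin m → F) = bP k from sub_eq_zero.1 (LinearMap.mem_ker.1 (bP k).2),
          hRneg _ (w (Sum.inl k)).2, map_neg]
      · rw [hb2, show A *ᵥ (bN k : Fin m → F) = -(bN k : Fin m → F) from
          eq_neg_of_add_eq_zero_left (LinearMap.mem_ker.1 (bN k).2), hKfix _ (w (Sum.inr k)).2,
          ← neg_one_smul F (bN k : Fin m → F), lift_smul_left, neg_one_smul]
    rw [mulVecLin_apply, mulVec_smul, sub_mulVec, one_mulVec, hW, kr_mulVec_lift, e1]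
    match_scalars
    field_simp
    ring
  have h3 := Submodule.finrank_mono hle
  rw [LinearMap.finrank_range_of_inj hinj, Module.finrank_pi_fintype, Fintype.sum_sum_type] at h3
  have hV1 : ∀ k, finrank F (V (Sum.inl k)) = finrank F R := fun k => rfl
  have hV2 : ∀ k, finrank F (V (Sum.inr k)) = finrank F K := fun k => rfl
  simp only [hV1, hV2, Finset.sum_const, Finset.card_univ, Fintype.card_fin, smul_eq_mul] at h3
  have h4 : f * finrank F R + n * finrank F K ≤ finrank F R + finrank F K := by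
    rw [hRK]; exact h3.trans hrank
  rcases Nat.eq_zero_or_pos (finrank F R) with hR0 | hR0
  · refine ⟨A, ?_⟩
    have hB1 : B = 1 := Matrix.ext_of_mulVec_single fun q => by
      have h5 : (B - 1) *ᵥ Pi.single q 1 ∈ R := ⟨_, rfl⟩
      rw [Submodule.finrank_eq_zero.1 hR0, Submodule.mem_bot, sub_mulVec, sub_eq_zero] at h5
      exact h5
    rw [hW, hB1, emb_eq_kr]
  · have hK0 : finrank F K = 0 := by
      by_contra hne
      have := Nat.pos_of_ne_zero hne
      rcases Nat.lt_or_ge 1 f with h | h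
      · nlinarith
      · have : 2 ≤ n := by omega
        nlinarith
    refine ⟨-A, ?_⟩
    have hB1 : B = -1 := Matrix.ext_of_mulVec_single fun q => by
      rw [neg_mulVec, one_mulVec]
      have h5 : (B + 1) *ᵥ Pi.single q 1 ∈ K := by
        refine LinearMap.mem_ker.2 ?_
        rw [mulVecLin_apply, mulVec_mulVec, sub_mul, one_mul, mul_add, mul_one, hB]
        rw [add_comm (1 : Matrix (Rest i m) (Rest i m) F) B, sub_self, zero_mulVec]
      rw [Submodule.finrank_eq_zero.1 hK0, Submodule.mem_bot, add_mulVec, one_mulVec] at h5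
      exact eq_neg_of_add_eq_zero_left h5
    rw [hW, hB1, emb_eq_kr, ← neg_one_smul F A, ← neg_one_smul F (1 : Matrix (Rest i m) (Rest i m) F),
      TWSp.kr_smul_left, TWSp.kr_smul_right]

set_option maxHeartbeats 800000 in
/-- An element of the wreath group conjugate to a reflection is a reflection, or a flip in dimension three. -/
theorem classify [Nontrivial ι] (hP : Par G d) {y : GL (ι → Fin m) F} (hy : y ∈ gsim ι G) {i : ι} {e : Fin m → F}
    (he : om G e e ≠ 0) {w : GL (ι → Fin m) F} (hw : w ∈ wreath ι m F)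
    (h : y * embG i (refG G e) * y⁻¹ = w) :
    (∃ j g, om G g g ≠ 0 ∧ w = embG j (refG G g)) ∨ (m = 3 ∧ IsFlip w) := by
  classical
  have hG := hP.form
  have hm := hP.three
  have : NeZero m := ⟨by omega⟩
  have hw2 : w * w = 1 := by
    rw [← h]
    calc y * embG i (refG G e) * y⁻¹ * (y * embG i (refG G e) * y⁻¹)
        = y * (embG i (refG G e) * embG i (refG G e)) * y⁻¹ := by group
      _ = 1 := by rw [← map_mul, refG_sq he, map_one, mul_one, mul_inv_cancel]
  have hiso : IsIso G w := h ▸ isIso_conj hy (isIso_embG i (refG_mem hG he))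
  have hrank : ((w : Matrix (ι → Fin m) (ι → Fin m) F) - 1).rank = bdim ι m := by
    rw [← h, rank_conj_sub_one', Matrix.rank, range_refG_sub_one hG i he,
      finrank_block (fun h0 => he (by rw [h0, om_zero_left]))]
  obtain ⟨σ, hσ⟩ := hw
  by_cases hσ1 : σ = 1
  swap
  · obtain ⟨a, ha⟩ : ∃ a, σ a ≠ a := by
      by_contra! h0
      exact hσ1 (Equiv.ext h0)
    exact Or.inr (moved_pair hP hσ hw2 ha hrank.le)
  subst hσ1
  obtain ⟨gs, hgs⟩ := hσ
  rw [map_one, mul_one] at hgs
  have hsq : ∀ k, ∃ l : F, (gs k : Matrix (Fin m) (Fin m) F) * (gs k : Matrix (Fin m) (Fin m) F) = l • 1 := fun k => by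
    have h1 : PtG (1 : ι → GL (Fin m) F) = PtG (gs * gs) := by rw [map_one, map_mul, ← hgs, hw2]
    obtain ⟨l, -, hl⟩ := exists_smul_of_PtG_eq h1 k
    exact ⟨l, by simpa using hl⟩
  obtain ⟨j, hj⟩ : ∃ j, ∀ c : F, (gs j : Matrix (Fin m) (Fin m) F) ≠ c • 1 := by
    by_contra! h0
    choose c hc using h0
    set C := ∏ k, c k
    have hwC : (w : Matrix (ι → Fin m) (ι → Fin m) F) = C • 1 := by
      rw [hgs, PtG_val]
      simp only [hc]
      rw [Pt_smul]
      exact congrArg _ Pt_one
    rcases eq_or_ne C 1 with h1 | h1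
    · rw [hwC, h1, one_smul, sub_self, Matrix.rank_zero] at hrank
      exact (pow_pos (by omega : 0 < m) _).ne hrank
    · have h2 : (((w : Matrix (ι → Fin m) (ι → Fin m) F) - 1)).rank = Fintype.card (ι → Fin m) := by
        refine Matrix.rank_of_isUnit _ ?_
        rw [hwC, show C • (1 : Matrix (ι → Fin m) (ι → Fin m) F) - 1 = (C - 1) • 1 by rw [sub_smul, one_smul]]
        exact IsUnit.of_mul_eq_one ((C - 1)⁻¹ • 1) (by
          rw [Matrix.smul_mul, Matrix.mul_smul, one_mul, smul_smul, mul_inv_cancel₀ (sub_ne_zero.2 h1), one_smul])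
      obtain ⟨a, -⟩ := exists_ne i
      rw [hrank, Fintype.card_fun, Fintype.card_fin, bdim] at h2
      have := Nat.pow_right_injective (show 2 ≤ m by omega) h2
      have := Fintype.card_pos (α := ι)
      omega
  obtain ⟨l, hl⟩ := hsq j
  set A := (gs j : Matrix (Fin m) (Fin m) F)
  set B := Pt fun k : {k // k ≠ j} => (gs k : Matrix (Fin m) (Fin m) F)
  have hW : (w : Matrix (ι → Fin m) (ι → Fin m) F) = kr j A B := by rw [hgs, PtG_val, Pt_eq_kr _ j]
  by_cases hs : ∃ s : F, s * s = l
  swap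
  · push Not at hs
    exact absurd (rank_of_nonsquare hm j hs hl hW) (by rw [hrank]; exact lt_irrefl _)
  obtain ⟨s, hs⟩ := hs
  have hs0 : s ≠ 0 := fun h0 => by
    have h1 : A * A = 0 := by rw [hl, ← hs, h0, zero_mul, zero_smul]
    have h2 := ((gs j).isUnit.mul (gs j).isUnit)
    rw [show (gs j : Matrix (Fin m) (Fin m) F) * _ = 0 from h1] at h2
    exact not_isUnit_zero h2
  have hA' : (s⁻¹ • A) * (s⁻¹ • A) = 1 := by
    rw [Matrix.smul_mul, Matrix.mul_smul, hl, smul_smul, smul_smul, ← hs]
    field_simp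
    rw [one_smul]
  have hW' : (w : Matrix (ι → Fin m) (ι → Fin m) F) = kr j (s⁻¹ • A) (s • B) := by
    rw [hW, TWSp.kr_smul_left, TWSp.kr_smul_right, smul_smul, inv_mul_cancel₀ hs0, one_smul]
  have hB' : (s • B) * (s • B) = 1 := by
    have h1 := congrArg Units.val hw2
    rw [Units.val_mul, Units.val_one, hW', TWSp.kr_mul, hA', ← TWSp.kr_one j] at h1
    exact TWSp.kr_left_injective (one_ne_zero (α := Matrix (Fin m) (Fin m) F)) h1
  obtain ⟨a, ha⟩ := exists_emb_of_split hG hm j hA' hB' (fun k hk => hj (s * k) (by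
    rw [← smul_smul, ← hk, smul_smul, mul_inv_cancel₀ hs0, one_smul])) hW' hrank.le
  have ha2 : a * a = 1 := emb_injective j (by
    rw [emb_mul, ← ha, emb_one, ← Units.val_mul, hw2, Units.val_one])
  set g : GL (Fin m) F := ⟨a, a, ha2, ha2⟩
  have hwg : w = embG j g := Units.ext (by rw [ha, embG_val])
  have hgs' : g ∈ spG G := mem_spG_of_isIso hP (hwg ▸ hiso)
  obtain ⟨v, hv, h1, h2, -⟩ := exists_line_of_conj_refl hP hgs' (Units.ext ha2) he (h.trans hwg)
  exact Or.inl ⟨j, v, hv, hwg.trans (congrArg _ (eq_refG_of_line hv h1 h2))⟩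

end CfsgLib.TWOr
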