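import Cfsg.Agent.TensorWreathOrth.Rad

/-!
# Commutants of the reflections, and similitudes of the factors
-/

set_option autoImplicit false
set_option linter.unusedSectionVars false

namespace CfsgLib.TWOr

open Matrix Module CfsgLib.MaxSub CfsgLib.TWreath
open CfsgLib.TWSp (om kr gram proj cen wedge spG gsim IsIso om_add_left om_add_right om_smul_left om_smul_right
  axis_dot cen_mulVec mem_spG mem_spG_of_om om_of_mem_spG adj kr_mul emb_eq_kr emb_rest isIso_embG adj_smul adj_one)

variable {F : Type*} [Field F] {m : ℕ} {G : Matrix (Fin m) (Fin m) F} {d : F}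
  {ι : Type} [Fintype ι] [DecidableEq ι]

theorem adj_refM (hG : OForm G) (e : Fin m → F) : adj G (refM G e) = refM G e := by
  rw [refM, sub_eq_add_neg, ← neg_smul, TWSp.adj_add, adj_one hG.det, adj_smul, hG.adj_cen]

theorem refM_eq_sub {e : Fin m → F} (he : om G e e ≠ 0) (h2 : (2 : F) ≠ 0) :
    cen G e = (om G e e / 2) • (1 - refM G e) := by
  rw [refM, sub_sub_cancel, smul_smul, div_mul_div_comm, mul_comm (om G e e) 2, div_self (mul_ne_zero h2 he),
    one_smul]

variable [Finite F]

/-- An operator commuting with the reflections is scalar. -/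
theorem scalar_of_comm_refM (hP : Par G d) {X : Matrix (Fin m) (Fin m) F}
    (hX : ∀ e, Kap G d e → X * refM G e = refM G e * X) : ∃ k : F, X = k • 1 := by
  have hG := hP.form
  have h2 := hG.two
  have hd := hP.d_ne
  obtain ⟨c, δ, h⟩ := exists_hyp hP
  have heig : ∀ e, Kap G d e → ∃ l : F, X *ᵥ e = l • e := fun e he => by
    have h1 : X * cen G e = cen G e * X := by
      rw [refM_eq_sub he.ne h2, Matrix.mul_smul, Matrix.smul_mul, mul_sub, sub_mul, hX e he, mul_one, one_mul]
    have h3 := congrArg (· *ᵥ e) h1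
    simp only [← mulVec_mulVec, cen_mulVec, mulVec_smul] at h3
    exact ⟨(om G e e)⁻¹ * om G (X *ᵥ e) e, by rw [← smul_smul, ← h3, smul_smul, inv_mul_cancel₀ he.ne, one_smul]⟩
  choose! lam hlam using heig
  have share : ∀ a e, Kap G d a → Kap G d e → om G a e ≠ 0 → (∀ k : F, k • a ≠ e) → lam a = lam e := by
    intro a e ha he hne hind
    have h1 := congrArg (· *ᵥ e) (hX a ha)
    simp only [← mulVec_mulVec, hlam e he, mulVec_smul, refM_mulVec, mulVec_sub, hlam a ha] at h1
    have hk : 2 / om G a a * om G e a ≠ 0 := mul_ne_zero (div_ne_zero h2 ha.ne) (by rwa [hG.comm])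
    have h3 : (2 / om G a a * om G e a * (lam a - lam e)) • a = 0 := by
      linear_combination (norm := skip) -h1
      module
    have := (smul_eq_zero.1 h3).resolve_right ha.ne_zero
    exact sub_eq_zero.1 ((mul_eq_zero.1 this).resolve_left hk)
  set P : (Fin m → F) → Fin m → F := fun z => c + ((d - om G z z) / 2) • δ + z with hPd
  have hPk : ∀ z ∈ mid G c δ, Kap G d (P z) := fun z hz => by
    obtain ⟨zc, zd, cz, dz⟩ := h.om_mid hG hz
    refine Kap.of_value hd ?_
    simp only [hPd, om_add_left, om_add_right, om_smul_left, om_smul_right, h.c_iso, h.d_iso, h.dc, h.cd hG, zc,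
      zd, cz, dz]
    field_simp; ring
  obtain ⟨z0, hz0, hz00, hz2⟩ : ∃ z ∈ mid G c δ, om G z z ≠ 0 ∧ om G z z ≠ 2 * d := by
    rcases eq_or_ne m 3 with hm | hm
    · obtain ⟨z, hz, hzz⟩ := h.exists_mid_aniso hP
      obtain ⟨s, hs, hs1⟩ := exists_sq_ne (hP.five hm)
      by_cases hq : om G z z = 2 * d
      · refine ⟨s • z, Submodule.smul_mem _ _ hz, ?_, ?_⟩ <;>
          rw [om_smul_left, om_smul_right, ← mul_assoc, hq]
        · exact mul_ne_zero (mul_ne_zero hs hs) (mul_ne_zero h2 hd)
        · exact fun e => hs1 ((mul_eq_right₀ (mul_ne_zero h2 hd)).1 e)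
      · exact ⟨z, hz, hzz, hq⟩
    · obtain ⟨z, hz, -, hzd⟩ := exists_value hG (nonDeg_perp hG (h.nonDeg hG)) (show 2 ≤ _ from by
        have h1 := h.finrank_mid hG
        have := hP.three
        show 2 ≤ finrank F (mid G c δ)
        omega) hd
      refine ⟨z, hz, by rw [hzd]; exact hd, fun e => hd ?_⟩
      rw [hzd] at e
      linear_combination -e
  have hP0 : P 0 = c + (d / 2) • δ := by simp [hPd, om_zero_left]
  have hzero := hPk 0 (Submodule.zero_mem _)
  have hind : ∀ z ∈ mid G c δ, z ≠ 0 → ∀ k : F, k • P 0 ≠ P z := fun z hz hz0 k hk => by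
    obtain ⟨zc, zd, -, -⟩ := h.om_mid hG hz
    have h1 := congrArg (fun v => proj3 G c δ v) hk
    rw [hP0] at h1
    simp only [hPd, proj3, om_add_left, om_smul_left, h.c_iso, h.d_iso, h.dc, h.cd hG, zc, zd] at h1
    refine hz0 ?_
    linear_combination (norm := module) -h1
  have hval : ∀ z ∈ mid G c δ, om G (P 0) (P z) = (d - om G z z) / 2 + d / 2 := fun z hz => by
    obtain ⟨zc, zd, cz, dz⟩ := h.om_mid hG hz
    rw [hP0]
    simp only [hPd, om_add_left, om_add_right, om_smul_left, om_smul_right, h.c_iso, h.d_iso, h.dc, h.cd hG,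
      cz, dz]
    ring
  have hmain : ∀ z ∈ mid G c δ, z ≠ 0 → om G z z ≠ 2 * d →
      X *ᵥ (c + ((d - om G z z) / 2) • δ) = lam (P 0) • (c + ((d - om G z z) / 2) • δ) ∧
        X *ᵥ z = lam (P 0) • z := by
    intro z hz hz' hzd
    have key : ∀ w ∈ mid G c δ, w ≠ 0 → om G w w = om G z z → lam (P 0) = lam (P w) := fun w hw hw0 he =>
      share _ _ hzero (hPk w hw) (by
        rw [hval w hw, he]
        intro e
        field_simp at e
        exact hzd (by linear_combination -e)) (hind w hw hw0)
    have hq : om G (-z) (-z) = om G z z := by rw [om_neg_left, om_neg_right, neg_neg]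
    have e1 := hlam _ (hPk z hz)
    have e2 := hlam _ (hPk (-z) (Submodule.neg_mem _ hz))
    rw [← key z hz hz' rfl] at e1
    rw [← key (-z) (Submodule.neg_mem _ hz) (neg_ne_zero.2 hz') hq] at e2
    simp only [hPd, hq, mulVec_add, mulVec_neg] at e1 e2
    constructor
    · refine smul_right_injective _ h2 ?_
      simp only [mulVec_add]
      linear_combination (norm := skip) e1 + e2
      simp only [hPd, om_zero_left, sub_zero, add_zero]
      module
    · refine smul_right_injective _ h2 ?_
      linear_combination (norm := skip) e1 - e2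
      simp only [hPd, om_zero_left, sub_zero, add_zero]
      module
  set k := lam (P 0)
  have hz0' : z0 ≠ 0 := fun e => hz00 (by rw [e, om_zero_left])
  have e0 := hlam _ hzero
  rw [show lam (P 0) = k from rfl, hP0] at e0
  have e1 := (hmain z0 hz0 hz0' hz2).1
  have hδ : X *ᵥ δ = k • δ := by
    refine smul_right_injective _ (div_ne_zero hz00 h2) ?_
    simp only [mulVec_add, mulVec_smul] at e0 e1
    linear_combination (norm := skip) e0 - e1
    module
  have hc : X *ᵥ c = k • c := by
    rw [mulVec_add, mulVec_smul, hδ] at e0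
    linear_combination (norm := module) e0
  refine ⟨k, h.ext_hyp hG ?_ ?_ fun z hz => ?_⟩
  · rw [hc, smul_mulVec, one_mulVec]
  · rw [hδ, smul_mulVec, one_mulVec]
  rw [smul_mulVec, one_mulVec]
  rcases eq_or_ne z 0 with rfl | hz'
  · rw [mulVec_zero, smul_zero]
  by_cases hzd : om G z z = 2 * d
  swap
  · exact (hmain z hz hz' hzd).2
  -- the exceptional value is a sum of others
  obtain ⟨t, ht, hq⟩ : ∃ t : F, t ≠ 0 ∧ om G (z + t • z0) (z + t • z0) ≠ 2 * d := by
    by_contra! hall
    have e3 := hall 1 one_ne_zero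
    have e4 := hall (-1) (neg_ne_zero.2 one_ne_zero)
    simp only [om_add_left, om_add_right, om_smul_left, om_smul_right, hzd, hG.comm z0 z] at e3 e4
    exact hz00 ((mul_eq_zero.1 (show (2 : F) * om G z0 z0 = 0 by linear_combination e3 + e4)).resolve_left h2)
  have hmem : z + t • z0 ∈ mid G c δ := Submodule.add_mem _ hz (Submodule.smul_mem _ t hz0)
  have h5 : X *ᵥ (z + t • z0) = k • (z + t • z0) := by
    rcases eq_or_ne (z + t • z0) 0 with e | e
    · rw [e, mulVec_zero, smul_zero]
    · exact (hmain _ hmem e hq).2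
  rw [mulVec_add, mulVec_smul, (hmain z0 hz0 hz0' hz2).2] at h5
  linear_combination (norm := module) h5

/-- An operator commuting with the reflections of a factor. -/
theorem exists_kr_of_comm_refl (hP : Par G d) (j : ι) {C : Matrix (ι → Fin m) (ι → Fin m) F}
    (h : ∀ e, Kap G d e → C * emb j (refM G e) = emb j (refM G e) * C) : ∃ K, C = kr j 1 K := by
  have : NeZero m := ⟨by have := hP.three; omega⟩
  refine exists_kr_of_comm j fun X => ext_ent (j := j) fun r s => ?_
  obtain ⟨k, hk⟩ := scalar_of_comm_refM hP (X := ent j C r s) fun e he => by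
    have h1 := congrArg (fun A => ent j A r s) (h e he)
    simpa only [ent_mul_emb, ent_emb_mul] using h1
  rw [ent_mul_emb, ent_emb_mul, hk, Matrix.smul_mul, Matrix.mul_smul, Matrix.one_mul, Matrix.mul_one]

/-- Similitudes of the factor. -/
def IsSim (G : Matrix (Fin m) (Fin m) F) (h : GL (Fin m) F) : Prop :=
  ∃ k : F, k ≠ 0 ∧ ∀ x y, om G ((h : Matrix (Fin m) (Fin m) F) *ᵥ x) ((h : Matrix (Fin m) (Fin m) F) *ᵥ y) = k * om G x y

/-- A matrix conjugating reflections to isometries is a similitude. -/
theorem isSim_of_conj (hP : Par G d) {h : GL (Fin m) F}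
    (hh : ∀ e, Kap G d e → h * refG G e * h⁻¹ ∈ spG G) : IsSim G h := by
  have hG := hP.form
  set H := (h : Matrix (Fin m) (Fin m) F)
  set Hi := ((h⁻¹ : GL (Fin m) F) : Matrix (Fin m) (Fin m) F)
  have hHi : H * Hi = 1 := Units.mul_inv h
  have hiH : Hi * H = 1 := Units.inv_mul h
  obtain ⟨k, hk⟩ := scalar_of_comm_refM hP (X := adj G H * H) fun e he => by
    set r := refM G e
    have hg := hh e he
    have hinv : (h * refG G e * h⁻¹)⁻¹ = h * refG G e * h⁻¹ := by
      rw [_root_.mul_inv_rev, _root_.mul_inv_rev, inv_inv, refG_inv he.ne, mul_assoc]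
    have h1 := adj_of_mem_spG hG hg
    rw [hinv, Units.val_mul, Units.val_mul, refG_val he.ne, adj_mul hG.det, adj_mul hG.det, adj_refM hG] at h1
    have h3 := congrArg (fun A => adj G H * A * H) h1
    have e1 : adj G H * adj G Hi = 1 := by rw [← adj_mul hG.det, hiH, adj_one hG.det]
    calc adj G H * H * r = adj G H * (H * r * Hi) * H := by
          rw [show adj G H * (H * r * Hi) * H = adj G H * H * r * (Hi * H) by simp only [mul_assoc], hiH, mul_one]
      _ = adj G H * (adj G Hi * (r * adj G H)) * H := h3.symm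
      _ = r * (adj G H * H) := by
          rw [← mul_assoc (adj G H), e1, one_mul, mul_assoc]
  refine ⟨k, fun e => ?_, fun x y => ?_⟩
  · have hu : adj G H * H = 0 := by rw [hk, e, zero_smul]
    have h1 : adj G H = 0 := by
      have := congrArg (· * Hi) hu
      rwa [mul_assoc, hHi, mul_one, zero_mul] at this
    have h3 : adj G H * adj G Hi = 1 := by rw [← adj_mul hG.det, hiH, adj_one hG.det]
    rw [h1, zero_mul] at h3
    have := congrFun (congrFun h3 ⟨0, by have := hP.three; omega⟩) ⟨0, by have := hP.three; omega⟩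
    simp at this
  · show (H *ᵥ x) ⬝ᵥ G *ᵥ (H *ᵥ y) = k * (x ⬝ᵥ G *ᵥ y)
    rw [← TWSp.adj_dot hG.det, mulVec_mulVec _ (adj G H), hk, smul_mulVec, one_mulVec, mulVec_smul, dotProduct_smul,
      smul_eq_mul]

theorem IsSim.conj_refG (hP : Par G d) {h : GL (Fin m) F} (hh : IsSim G h) {e : Fin m → F} (he : Kap G d e) :
    h * refG G e * h⁻¹ = refG G ((h : Matrix (Fin m) (Fin m) F) *ᵥ e) ∧
      Kap G d ((h : Matrix (Fin m) (Fin m) F) *ᵥ e) := by
  have hG := hP.form
  obtain ⟨k, hk0, hk⟩ := hh
  set H := (h : Matrix (Fin m) (Fin m) F) with hH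
  have hkap : Kap G d (H *ᵥ e) := by
    refine ⟨by rw [hk]; exact mul_ne_zero hk0 he.ne, ?_⟩
    rcases Nat.even_or_odd m with hm | hm
    · exact Or.inl hm
    have hmat : Hᵀ * G * H = k • G := by
      ext p q
      have h1 := hk (Pi.single p 1) (Pi.single q 1)
      rw [om, om, mulVec_mulVec, dotProduct_comm, dotProduct_mulVec, ← mulVec_transpose, mulVec_mulVec,
        dotProduct_comm] at h1
      simpa [single_dotProduct, mulVec_single, transpose_mul, Matrix.mul_assoc] using h1
    have hdet := congrArg Matrix.det hmat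
    rw [det_mul, det_mul, det_transpose, det_smul, Fintype.card_fin] at hdet
    have hkm : k ^ m = H.det * H.det := mul_right_cancel₀ hG.det.ne_zero (by linear_combination -hdet)
    obtain ⟨n, hn⟩ := hm
    obtain ⟨r, hr⟩ := he.2.resolve_left (Nat.not_even_iff_odd.2 ⟨n, hn⟩)
    refine Or.inr ⟨H.det / k ^ n * r, ?_⟩
    rw [hk]
    have hk2 : k = H.det / k ^ n * (H.det / k ^ n) := by
      rw [div_mul_div_comm, ← hkm, hn, eq_div_iff (mul_ne_zero (pow_ne_zero n hk0) (pow_ne_zero n hk0))]
      ring
    calc k * om G e e * d = k * (om G e e * d) := by ring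
      _ = H.det / k ^ n * (H.det / k ^ n) * (r * r) := by rw [← hk2, hr]
      _ = _ := by ring
  refine ⟨Units.ext ?_, hkap⟩
  rw [Units.val_mul, Units.val_mul, ← hH, refG_val he.ne, refG_val hkap.ne]
  refine Matrix.ext_of_mulVec_single fun q => ?_
  set v : Fin m → F := Pi.single q 1
  set w := ((h⁻¹ : GL (Fin m) F) : Matrix (Fin m) (Fin m) F) *ᵥ v
  have hv : v = H *ᵥ w := by rw [mulVec_mulVec, hH, Units.mul_inv, one_mulVec]
  rw [← mulVec_mulVec, ← mulVec_mulVec, refM_mulVec, refM_mulVec, mulVec_sub, mulVec_smul, ← hv]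
  conv_rhs => rw [show om G v (H *ᵥ e) = k * om G w e by rw [hv, hk], hk]
  congr 2
  field_simp
  rfl

theorem kr_one_apply (i : ι) (L : Matrix (Rest i m) (Rest i m) F) (p q : Fin m) (r s : Rest i m) :
    kr i 1 L (extend i p r) (extend i q s) = (1 : Matrix (Fin m) (Fin m) F) p q * L r s := by
  rw [kr, extend_self, extend_self, extend_rest, extend_rest]

/-- An operator commuting with all factors but one lives on that factor. -/
theorem exists_emb_of_comm [NeZero m] (i : ι) {C : Matrix (ι → Fin m) (ι → Fin m) F}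
    (h : ∀ l, l ≠ i → ∀ X, C * emb l X = emb l X * C) : ∃ A, C = emb i A := by
  classical
  let r0 : Rest i m := fun _ => 0
  refine ⟨ent i C r0 r0, ext_ent (j := i) fun r s => ?_⟩
  set B : Fin m → Fin m → Matrix (Rest i m) (Rest i m) F := fun p q =>
    Matrix.of fun r s => C (extend i p r) (extend i q s)
  have hB : ∀ p q, ∃ k : F, B p q = k • 1 := fun p q => TWSp.scalar_of_comm_emb fun l X => by
    ext r s
    have h1 := congrFun (congrFun (h (l : ι) l.2 X) (extend i p r)) (extend i q s)
    rw [emb_rest i l X, mul_apply, mul_apply, ← (TWSp.splitEquiv i).symm.sum_comp,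
      ← (TWSp.splitEquiv i).symm.sum_comp, Fintype.sum_prod_type, Fintype.sum_prod_type] at h1
    change (∑ k, ∑ t, C (extend i p r) (extend i k t) * kr i 1 _ (extend i k t) (extend i q s)) =
      ∑ k, ∑ t, kr i 1 _ (extend i p r) (extend i k t) * C (extend i k t) (extend i q s) at h1
    simp only [kr_one_apply] at h1
    rw [Finset.sum_eq_single q (fun k _ hk => Finset.sum_eq_zero fun t _ => by
        rw [Matrix.one_apply_ne hk, zero_mul, mul_zero]) (by simp),
      Finset.sum_eq_single p (fun k _ hk => Finset.sum_eq_zero fun t _ => by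
        rw [Matrix.one_apply_ne hk.symm, zero_mul, zero_mul]) (by simp)] at h1
    simp only [Matrix.one_apply_eq, one_mul] at h1
    rw [mul_apply, mul_apply]
    exact h1
  choose k hk using hB
  rw [emb_eq_kr, ent_kr]
  ext p q
  have e1 : C (extend i p r) (extend i q s) = k p q * (1 : Matrix (Rest i m) (Rest i m) F) r s :=
    congrFun (congrFun (hk p q) r) s
  have e2 : C (extend i p r0) (extend i q r0) = k p q * (1 : Matrix (Rest i m) (Rest i m) F) r0 r0 :=
    congrFun (congrFun (hk p q) r0) r0
  rw [Matrix.one_apply_eq, mul_one] at e2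
  show C (extend i p r) (extend i q s) = (1 : Matrix (Rest i m) (Rest i m) F) r s * C (extend i p r0) (extend i q r0)
  rw [e1, e2, mul_comm]

end CfsgLib.TWOr
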