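import Cfsg.Agent.TensorWreathOrth.Fusion
import Cfsg.Agent.TensorSquareThree.Dihedral

/-!
# Centralisers of short products of reflections
-/

set_option autoImplicit false
set_option linter.unusedSectionVars false

namespace CfsgLib.TWOr

open Matrix Module CfsgLib.MaxSub CfsgLib.TWreath
open CfsgLib.TWSp (om cen spG gsim IsIso om_add_left om_add_right om_smul_left om_smul_right isIso_conj isIso_embG)

variable {F : Type*} [Field F] [Finite F] {m : ℕ} {G : Matrix (Fin m) (Fin m) F} {d : F}
  {ι : Type} [Fintype ι] [DecidableEq ι] {M : Subgroup (GL (ι → Fin m) F)}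

/-- The centraliser of `c` in `M` lies in the wreath group. -/
def Ctl (M : Subgroup (GL (ι → Fin m) F)) (c : GL (ι → Fin m) F) : Prop :=
  ∀ y ∈ M, Commute y c → y ∈ wreath ι m F

theorem Ctl.conj {c w : GL (ι → Fin m) F} (h : Ctl M c) (hw : w ∈ M) (hwW : w ∈ wreath ι m F) :
    Ctl M (w * c * w⁻¹) := fun y hy hc => by
  have h1 := h (w⁻¹ * y * w) (M.mul_mem (M.mul_mem (M.inv_mem hw) hy) hw) ((Commute.conj_iff w).1 (by
    simpa [mul_assoc] using hc))
  have h2 := (wreath ι m F).mul_mem ((wreath ι m F).mul_mem hwW h1) ((wreath ι m F).inv_mem hwW)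
  simpa [mul_assoc] using h2

/-- Only the value up to sign matters. -/
theorem Ctl.of_neg {c c' : GL (ι → Fin m) F} (h : Ctl M c)
    (hv : (c' : Matrix (ι → Fin m) (ι → Fin m) F) = -(c : Matrix (ι → Fin m) (ι → Fin m) F)) : Ctl M c' :=
  fun y hy hc => h y hy (Units.ext (by
    have h1 := congrArg Units.val hc.eq
    rw [Units.val_mul, Units.val_mul, hv, mul_neg, neg_mul, neg_inj] at h1
    rw [Units.val_mul, Units.val_mul, h1]))

/-! ### Linear algebra -/

theorem nonDeg_line (hG : OForm G) {g : Fin m → F} (hg : om G g g ≠ 0) : NonDeg G (Submodule.span F {g}) := by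
  simpa using nonDeg_sup hG nonDeg_bot hg (fun y hy => by rw [(Submodule.mem_bot F).1 hy, om_zero_right])

theorem exists_kap_orth (hP : Par G d) {e : Fin m → F} (he : Kap G d e) : ∃ h, Kap G d h ∧ om G h e = 0 := by
  obtain ⟨h, hk, hh⟩ := exists_kap_perp hP (nonDeg_line hP.form he.ne)
    (by rw [finrank_span_singleton he.ne_zero]; have := hP.three; omega)
  exact ⟨h, hk, hh e (Submodule.mem_span_singleton_self e)⟩

/-- Fewer than `m` vectors have a common orthogonal vector. -/
theorem exists_perp_of_lt {k : ℕ} (hk : k < m) (vs : Fin k → Fin m → F) :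
    ∃ x : Fin m → F, x ≠ 0 ∧ ∀ i, om G x (vs i) = 0 := by
  let f : (Fin m → F) →ₗ[F] (Fin k → F) :=
    { toFun := fun x i => om G x (vs i)
      map_add' := fun x y => by funext i; exact om_add_left x y (vs i)
      map_smul' := fun c x => by funext i; exact om_smul_left c x (vs i) }
  have hker : LinearMap.ker f ≠ ⊥ := LinearMap.ker_ne_bot_of_finrank_lt (by
    rw [Module.finrank_fin_fun, Module.finrank_fin_fun]; exact hk)
  obtain ⟨x, hx, hx0⟩ := Submodule.exists_mem_ne_zero_of_ne_bot hker
  exact ⟨x, hx0, fun i => congrFun hx i⟩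

theorem eq_one_of_smul_self {x : Fin m → F} (hx : x ≠ 0) {κ : F} (h : x = κ • x) : κ = 1 := by
  have h1 : (1 - κ) • x = 0 := by rw [sub_smul, one_smul, ← h, sub_self]
  exact (sub_eq_zero.1 ((smul_eq_zero.1 h1).resolve_right hx)).symm

theorem eq_zero_of_eq_neg (hG : OForm G) {x : Fin m → F} (h : x = -x) : x = 0 := by
  rw [eq_neg_iff_add_eq_zero, ← two_smul F] at h
  exact (smul_eq_zero.1 h).resolve_left hG.two

/-- Proportional reflections are equal. -/
theorem refG_eq_of_smul (hP : Par G d) {a b : Fin m → F} (ha : om G a a ≠ 0) (hb : om G b b ≠ 0) {κ : F}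
    (h : (refG G a : Matrix (Fin m) (Fin m) F) = κ • (refG G b : Matrix (Fin m) (Fin m) F)) :
    refG G a = refG G b := by
  obtain ⟨x, hx, hperp⟩ := exists_perp_of_lt (G := G) (show 2 < m from hP.three) ![a, b]
  have h1 := congrArg (· *ᵥ x) h
  simp only [refG_val ha, refG_val hb, smul_mulVec] at h1
  rw [refM_fix (show om G x a = 0 from hperp 0), refM_fix (show om G x b = 0 from hperp 1)] at h1
  exact Units.ext (by rw [h, eq_one_of_smul_self hx h1, one_smul])

/-- Distinct orthogonal reflections are distinct. -/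
theorem refG_ne_of_orth (hG : OForm G) {a b : Fin m → F} (ha : om G a a ≠ 0) (hb : om G b b ≠ 0)
    (hab : om G a b = 0) : refG G a ≠ refG G b := fun h => by
  obtain ⟨k, -, hk⟩ := exists_smul_of_refG_eq hG ha hb h
  rw [hk, om_smul_right, mul_eq_zero, or_iff_left ha] at hab
  exact hb (by rw [hk, hab, zero_smul, om_zero_left])

/-- The product of two orthogonal reflections is not scalar. -/
theorem refG_mul_ne_scalar (hP : Par G d) {e g : Fin m → F} (he : om G e e ≠ 0) (hg : om G g g ≠ 0)
    (heg : om G e g = 0) (k : F) :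
    ((refG G e * refG G g : GL (Fin m) F) : Matrix (Fin m) (Fin m) F) ≠ k • 1 := by
  intro h
  have hG := hP.form
  obtain ⟨x, hx, hperp⟩ := exists_perp_of_lt (G := G) (show 2 < m from hP.three) ![e, g]
  have h1 := congrArg (· *ᵥ x) h
  simp only [Units.val_mul, ← mulVec_mulVec, refG_val he, refG_val hg, smul_mulVec, one_mulVec] at h1
  rw [refM_fix (show om G x g = 0 from hperp 1), refM_fix (show om G x e = 0 from hperp 0)] at h1
  have h2 := congrArg (· *ᵥ e) h
  simp only [Units.val_mul, ← mulVec_mulVec, refG_val he, refG_val hg, one_mulVec, refM_fix heg,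
    refM_self he, eq_one_of_smul_self hx h1, one_smul] at h2
  exact he (by rw [eq_zero_of_eq_neg hG h2.symm, om_zero_left])

theorem two_eq_PtG {a b : ι} (hab : a ≠ b) (A B : GL (Fin m) F) :
    embG a A * embG b B = PtG (Function.update (Function.update 1 b B) a A) := by
  rw [embG_eq_PtG, embG_eq_PtG, ← map_mul]
  congr 1
  funext k
  rcases eq_or_ne k a with rfl | hk
  · simp [hab]
  · simp [hk]

theorem three_eq_PtG {a b q : ι} (hab : a ≠ b) (haq : a ≠ q) (hbq : b ≠ q) (A B C : GL (Fin m) F) :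
    embG a A * embG b B * embG q C =
      PtG (Function.update (Function.update (Function.update 1 q C) b B) a A) := by
  rw [embG_eq_PtG, embG_eq_PtG, embG_eq_PtG, ← map_mul, ← map_mul]
  congr 1
  funext k
  rcases eq_or_ne k a with rfl | hk
  · simp [hab, haq]
  · rcases eq_or_ne k b with rfl | hk'
    · simp [hbq, hk]
    · simp [hk, hk']

/-- Conjugation of a product by a monomial element. -/
theorem conj_PtG (gs : ι → GL (Fin m) F) (σ : Equiv.Perm ι) (cs : ι → GL (Fin m) F) :
    (PtG gs * pmG σ) * PtG cs * (PtG gs * pmG σ)⁻¹ =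
      PtG (fun k => gs k * cs (σ.symm k) * (gs k)⁻¹) := by
  rw [mul_assoc (PtG gs), pmG_mul_PtG, _root_.mul_inv_rev, ← mul_assoc, ← mul_assoc, mul_inv_cancel_right,
    ← map_inv, ← map_mul, ← map_mul]
  rfl

theorem conj_embG (gs : ι → GL (Fin m) F) (σ : Equiv.Perm ι) (a : ι) (A : GL (Fin m) F) :
    (PtG gs * pmG σ) * embG a A * (PtG gs * pmG σ)⁻¹ = embG (σ a) (gs (σ a) * A * (gs (σ a))⁻¹) := by
  rw [embG_eq_PtG, embG_eq_PtG, conj_PtG]
  congr 1
  funext k
  rcases eq_or_ne k (σ a) with rfl | hk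
  · simp
  · simp [hk, Equiv.symm_apply_eq]

theorem comp_smul_of_comm {gs : ι → GL (Fin m) F} {σ : Equiv.Perm ι} {cs : ι → GL (Fin m) F}
    (h : Commute (PtG gs * pmG σ) (PtG cs)) (k : ι) :
    ∃ κ : F, κ ≠ 0 ∧ ((gs k * cs (σ.symm k) * (gs k)⁻¹ : GL (Fin m) F) : Matrix (Fin m) (Fin m) F) =
      κ • (cs k : Matrix (Fin m) (Fin m) F) := by
  have h1 : PtG cs = PtG (fun k => gs k * cs (σ.symm k) * (gs k)⁻¹) := by
    rw [← conj_PtG, h.eq, mul_inv_cancel_right]
  exact exists_smul_of_PtG_eq h1 k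

namespace Core

variable (hC : Core G d M) [Nontrivial ι]
include hC

/-- The components of an element of `M` in the wreath group are similitudes. -/
theorem exists_monomial {z : GL (ι → Fin m) F} (hz : z ∈ M) (hzW : z ∈ wreath ι m F) :
    ∃ (σ : Equiv.Perm ι) (gs : ι → GL (Fin m) F), z = PtG gs * pmG σ ∧ ∀ k, IsSim G (gs k) := by
  have hP := hC.set.par
  obtain ⟨σ, gs, rfl⟩ := hzW
  refine ⟨σ, gs, rfl, fun k => isSim_of_conj hP fun e he => ?_⟩
  refine mem_spG_of_isIso hP (j := k) ?_
  have h1 := isIso_conj (hC.set.sim hz) (isIso_embG (σ.symm k) (refG_mem hP.form he.ne))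
  rwa [conj_embG, Equiv.apply_symm_apply] at h1

/-- A conjugate of a reflection in the wreath group is a reflection. -/
theorem refl_of_conj {y : GL (ι → Fin m) F} (hy : y ∈ M) {i : ι} {e : Fin m → F} (he : Kap G d e)
    (h : y * embG i (refG G e) * y⁻¹ ∈ wreath ι m F) :
    ∃ j g, Kap G d g ∧ y * embG i (refG G e) * y⁻¹ = embG j (refG G g) := by
  obtain ⟨σ, gs, rfl, hs⟩ := hC.exists_monomial hy (hC.mem_of_conj_refl hy he h)
  obtain ⟨e1, e2⟩ := IsSim.conj_refG hC.set.par (hs (σ i)) he
  exact ⟨σ i, _, e2, by rw [conj_embG, e1]⟩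

/-- Two reflections and an element commuting with a set: a reduction. -/
theorem split_step {y : GL (ι → Fin m) F} (hy : y ∈ M) (cs : Set (GL (ι → Fin m) F))
    (hyc : ∀ c ∈ cs, Commute y c) {a p : ι} {e h : Fin m → F} (he : Kap G d e) (hh : Kap G d h)
    (h1 : ∀ c ∈ cs, Commute (embG a (refG G e)) c) (h2 : ∀ c ∈ cs, Commute (embG p (refG G h)) c)
    (hconj : ∀ (σ : Equiv.Perm ι) (gs : ι → GL (Fin m) F), (∀ k, IsSim G (gs k)) →
      (∀ c ∈ cs, Commute (PtG gs * pmG σ) c) → σ a = p → gs p * refG G e * (gs p)⁻¹ = refG G h → False) :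
    y ∈ wreath ι m F ∨ ∃ q g, Kap G d g ∧ embG q (refG G g) ≠ embG a (refG G e) ∧
      Commute (embG q (refG G g)) (embG a (refG G e)) ∧ (∀ c ∈ cs, Commute (embG q (refG G g)) c) ∧
      Commute (y * embG p (refG G h) * y⁻¹) (embG a (refG G e) * embG q (refG G g)) ∧
      ∃ w ∈ M, ∃ i' g', Kap G d g' ∧
        embG a (refG G e) * embG q (refG G g) * (y * embG p (refG G h) * y⁻¹) =
          w * embG i' (refG G g') * w⁻¹ := by
  have hP := hC.set.par
  have hG := hP.form
  have : NeZero m := ⟨by have := hP.three; omega⟩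
  set d1 := embG a (refG G e) with hd1
  set d2 := embG p (refG G h) with hd2
  set t := y * d2 * y⁻¹ with ht
  by_cases htW : t ∈ wreath ι m F
  · exact Or.inl (hC.mem_of_conj_refl hy hh htW)
  have hd11 : d1 * d1 = 1 := by rw [hd1, ← map_mul, refG_sq he.ne, map_one]
  have htt : t * t = 1 := by
    rw [ht, show y * d2 * y⁻¹ * (y * d2 * y⁻¹) = y * (d2 * d2) * y⁻¹ by group, hd2, ← map_mul, refG_sq hh.ne,
      map_one, mul_one, mul_inv_cancel]
  have hd1M : d1 ∈ M := hC.set.refl a e he
  have htM : t ∈ M := hC.conj_refl_mem hy p hh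
  have htc : ∀ c ∈ cs, Commute t c := fun c hc =>
    ((hyc c hc).mul_left (h2 c hc)).mul_left (hyc c hc).inv_left
  have hK : Subgroup.closure {d1, t} ≤ M ⊓ Subgroup.centralizer cs := by
    rw [Subgroup.closure_le]
    rintro _ (rfl | rfl)
    · exact ⟨hd1M, Subgroup.mem_centralizer_iff.2 fun c hc => (h1 c hc).eq.symm⟩
    · exact ⟨htM, Subgroup.mem_centralizer_iff.2 fun c hc => (htc c hc).eq.symm⟩
  have hKc : ∀ {u}, u ∈ Subgroup.closure {d1, t} → ∀ c ∈ cs, Commute u c := fun hu c hc =>
    (Subgroup.mem_centralizer_iff.1 (hK hu).2 c hc).symm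
  rcases CfsgLib.TensorSquareThree.dihedral hd11 htt with ⟨z, hz, hze⟩ |
    ⟨c2, hc2, hc21, hc22, hc2d, hc2t, hca, hcb⟩
  · exfalso
    have hzM : y⁻¹ * z ∈ M := M.mul_mem (M.inv_mem hy) (hK hz).1
    have hzd : y⁻¹ * z * d1 * (y⁻¹ * z)⁻¹ = d2 := by
      rw [show y⁻¹ * z * d1 * (y⁻¹ * z)⁻¹ = y⁻¹ * (z * d1 * z⁻¹) * y by group, ← hze, ht]; group
    obtain ⟨σ, gs, hzeq, hs⟩ := hC.exists_monomial hzM (hC.mem_of_conj_refl hzM he (by
      rw [← hd1, hzd]; exact embG_mem _ _))
    have hcm : ∀ c ∈ cs, Commute (PtG gs * pmG σ) c := fun c hc =>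
      hzeq ▸ (hyc c hc).inv_left.mul_left (hKc hz c hc)
    rw [hzeq, hd1, conj_embG, hd2] at hzd
    obtain ⟨e1, e2⟩ := IsSim.conj_refG hP (hs (σ a)) he
    rw [e1] at hzd
    obtain ⟨hσ, -⟩ := embG_refG_inj hP e2.ne hzd
    refine hconj σ gs hs hcm hσ ?_
    rw [← hσ]
    exact embG_injective (σ a) (by rw [e1, hzd, hσ])
  · refine Or.inr ?_
    have hc2M : c2 ∈ M := (hK hc2).1
    have hW : c2 * d1 ∈ wreath ι m F :=
      (wreath ι m F).mul_mem (hC.mem_of_comm_refG he.ne hc2M hc2d) (embG_mem _ _)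
    obtain ⟨q, g, hg, hqg⟩ : ∃ q g, Kap G d g ∧ c2 * d1 = embG q (refG G g) := by
      rcases hca with ⟨w, hw, e1⟩ | ⟨w, hw, e1⟩
      · obtain ⟨q, g, hg, hqg⟩ := hC.refl_of_conj (hK hw).1 he (e1 ▸ hW)
        exact ⟨q, g, hg, e1.trans hqg⟩
      · have e3 : c2 * d1 = w * y * d2 * (w * y)⁻¹ := by rw [e1, ht]; group
        obtain ⟨q, g, hg, hqg⟩ := hC.refl_of_conj (M.mul_mem (hK hw).1 hy) hh (e3 ▸ hW)
        exact ⟨q, g, hg, e3.trans hqg⟩
    have hc2e : c2 = d1 * embG q (refG G g) := by
      rw [← hqg, ← mul_assoc, ← hc2d, mul_assoc, hd11, mul_one]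
    refine ⟨q, g, hg, fun h0 => hc21 (by rw [hc2e, h0, hd11]), ?_, fun c hc => ?_, ?_, ?_⟩
    · rw [← hqg]; exact Commute.mul_left hc2d (Commute.refl d1)
    · rw [← hqg]; exact (hKc hc2 c hc).mul_left (h1 c hc)
    · rw [← hc2e]; exact (show Commute c2 t from hc2t).symm
    · rw [← hc2e]
      rcases hcb with ⟨w, hw, e1⟩ | ⟨w, hw, e1⟩
      · exact ⟨w, (hK hw).1, a, e, he, e1⟩
      · exact ⟨w * y, M.mul_mem (hK hw).1 hy, p, h, hh, by rw [e1]; simp only [ht, hd2]; group⟩

/-- Two orthogonal reflections of one factor. -/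
theorem ctl_same {i : ι} {e g : Fin m → F} (he : Kap G d e) (hg : om G g g ≠ 0) (heg : om G e g = 0) :
    Ctl M (embG i (refG G e * refG G g)) := by
  intro y hy hc
  have hP := hC.set.par
  have hG := hP.form
  obtain ⟨r, hrperp, hrr⟩ : ∃ r ∈ perp G (Submodule.span F {e} ⊔ Submodule.span F {g}), om G r r ≠ 0 := by
    have hS : NonDeg G (Submodule.span F {e} ⊔ Submodule.span F {g}) :=
      nonDeg_sup hG (nonDeg_line hG he.ne) hg fun y hy => by
        obtain ⟨k, rfl⟩ := Submodule.mem_span_singleton.1 hy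
        rw [om_smul_right, hG.comm g e, heg, mul_zero]
    refine exists_aniso hG (nonDeg_perp hG hS) fun h0 => ?_
    have h1 := finrank_perp hG hS
    have h2 := finrank_sup_le (Submodule.span F {e}) g
    rw [finrank_span_singleton he.ne_zero] at h2
    rw [h0, finrank_bot] at h1
    have := hP.three
    omega
  have hre : om G r e = 0 :=
    (mem_perp hG).1 hrperp e (Submodule.mem_sup_left (Submodule.mem_span_singleton_self e))
  have hrg : om G r g = 0 :=
    (mem_perp hG).1 hrperp g (Submodule.mem_sup_right (Submodule.mem_span_singleton_self g))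
  set C := embG i (refG G e * refG G g) with hCdef
  refine hC.mem_of_conj_refl hy he (hC.fix_mem i _ _ rfl (nonDeg_line hG hrr)
    (fun h => hrr (by rw [(Submodule.span_singleton_eq_bot).1 h, om_zero_left])) _ (hC.conj_refl_mem hy i he) ?_)
  intro x hx u
  obtain ⟨k, rfl⟩ := Submodule.mem_span_singleton.1 hx
  set v := lift i (k • r) u
  have hCv : (C : Matrix (ι → Fin m) (ι → Fin m) F) *ᵥ v = v := by
    rw [hCdef, embG_val, emb_mulVec_lift, Units.val_mul, refG_val he.ne, refG_val hg, ← mulVec_mulVec,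
      refM_fix (e := g) (by rw [om_smul_left, hrg, mul_zero]),
      refM_fix (e := e) (by rw [om_smul_left, hre, mul_zero])]
  set v' := ((y⁻¹ : GL (ι → Fin m) F) : Matrix (ι → Fin m) (ι → Fin m) F) *ᵥ v
  have hCv' : (C : Matrix (ι → Fin m) (ι → Fin m) F) *ᵥ v' = v' := by
    have h1 := congrArg Units.val hc.inv_left.eq
    rw [Units.val_mul, Units.val_mul] at h1
    rw [mulVec_mulVec, ← h1, ← mulVec_mulVec, hCv]
  have hdv : emb i (refM G e) *ᵥ v' = v' := by
    have h2 : cen G e * (refM G e * refM G g) = -cen G e := by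
      refine Matrix.ext_of_mulVec_single fun q => ?_
      simp only [← mulVec_mulVec, neg_mulVec, TWSp.cen_mulVec, refM_mulVec, om_sub_left, om_smul_left,
        hG.comm g e, heg]
      rw [← neg_smul]
      congr 1
      have := he.ne
      field_simp
      ring
    have h4 : emb i (cen G e) * (C : Matrix (ι → Fin m) (ι → Fin m) F) = -emb i (cen G e) := by
      rw [hCdef, embG_val, Units.val_mul, refG_val he.ne, refG_val hg, ← emb_mul, h2, ← neg_one_smul F, emb_smul,
        neg_one_smul]
    have h1 := congrArg (emb i (cen G e) *ᵥ ·) hCv'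
    rw [mulVec_mulVec, h4, neg_mulVec, neg_eq_iff_add_eq_zero, ← two_smul F] at h1
    have h3 := (smul_eq_zero.1 h1).resolve_left hG.two
    rw [refM, emb_sub, emb_one, emb_smul, sub_mulVec, one_mulVec, smul_mulVec, h3, smul_zero, sub_zero]
  rw [Units.val_mul, Units.val_mul, ← mulVec_mulVec, ← mulVec_mulVec, embG_val, refG_val he.ne, hdv,
    mulVec_mulVec, Units.mul_inv, one_mulVec]

set_option maxHeartbeats 800000 in
/-- Two reflections of different factors, with companions in further factors. -/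
theorem ctl_clique {a : ι} {e : Fin m → F} (he : Kap G d e) :
    ∀ (n : ℕ) (K : Finset ι), Fintype.card ι - K.card = n → a ∉ K → K.Nonempty →
      ∀ f : ι → Fin m → F, (∀ j ∈ K, Kap G d (f j)) → ∀ y ∈ M,
        (∀ j ∈ K, Commute y (embG a (refG G e) * embG j (refG G (f j)))) → y ∈ wreath ι m F := by
  classical
  intro n
  induction n using Nat.strong_induction_on with
  | _ n IH =>
  intro K hn haK hK f hf y hy hyc
  have hP := hC.set.par
  have hG := hP.form
  have : NeZero m := ⟨by have := hP.three; omega⟩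
  obtain ⟨h, hh, hhe⟩ := exists_kap_orth hP he
  obtain ⟨j₀, hj₀⟩ := hK
  have hne : ∀ j ∈ K, a ≠ j := fun j hj e0 => haK (e0 ▸ hj)
  set d1 := embG a (refG G e) with hd1
  let cs : Set (GL (ι → Fin m) F) := {c | ∃ j ∈ K, c = d1 * embG j (refG G (f j))}
  have hd12 : Commute (embG a (refG G h)) d1 := (comm_refG_of_orth hG hh.ne he.ne hhe).map (embG a)
  have hd11 : d1 * d1 = 1 := by rw [hd1, ← map_mul, refG_sq he.ne, map_one]
  rcases hC.split_step hy cs (by rintro _ ⟨j, hj, rfl⟩; exact hyc j hj) he hh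
    (by rintro _ ⟨j, hj, rfl⟩; exact (Commute.refl d1).mul_right (embG_comm (hne j hj) _ _))
    (by rintro _ ⟨j, hj, rfl⟩; exact hd12.mul_right (embG_comm (hne j hj) _ _))
    (by
      intro σ gs hs hcm hσ hg
      have h1 := hcm _ ⟨j₀, hj₀, rfl⟩
      rw [hd1, two_eq_PtG (hne j₀ hj₀)] at h1
      obtain ⟨κ, -, hκ⟩ := comp_smul_of_comm h1 a
      rw [show σ.symm a = a from σ.symm_apply_eq.2 hσ.symm, Function.update_self, hg] at hκ
      exact refG_ne_of_orth hG hh.ne he.ne hhe (refG_eq_of_smul hP hh.ne he.ne hκ)) with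
    hW | ⟨q, g, hg, hne1, hcq, hcc, htc, w, hw, i', g', hg', hwe⟩
  · exact hW
  set t := y * embG a (refG G h) * y⁻¹
  have htM : t ∈ M := hC.conj_refl_mem hy a hh
  have htK : ∀ j ∈ K, Commute t (d1 * embG j (refG G (f j))) := fun j hj =>
    ((hyc j hj).mul_left (hd12.mul_right (embG_comm (hne j hj) _ _))).mul_left (hyc j hj).inv_left
  refine by_cases (fun hW : t ∈ wreath ι m F => hC.mem_of_conj_refl hy hh hW) fun htW => ?_
  exfalso
  by_cases hqa : q = a
  · subst hqa
    have h1 : Commute (refG G e) (refG G g) := embG_injective _ (by rw [map_mul, map_mul]; exact hcq.eq.symm)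
    rcases orth_or_eq_of_comm hG he.ne hg.ne h1 with h2 | h2
    · exact htW (hC.ctl_same he hg.ne h2 t htM (by rw [map_mul]; exact htc))
    · exact hne1 (by rw [h2])
  by_cases hqK : q ∈ K
  swap
  · refine htW (IH (Fintype.card ι - (insert q K).card) ?_ (insert q K) rfl
      (by simp [Finset.mem_insert, Ne.symm hqa, haK]) (Finset.insert_nonempty q K) (Function.update f q g) ?_ t htM ?_)
    · have h3 := Finset.card_le_univ (insert q K)
      rw [Finset.card_insert_of_notMem hqK] at h3 ⊢
      omega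
    · intro j hj
      rcases eq_or_ne j q with rfl | hjq
      · rw [Function.update_self]; exact hg
      · rw [Function.update_of_ne hjq]; exact hf j ((Finset.mem_insert.1 hj).resolve_left hjq)
    · intro j hj
      rcases eq_or_ne j q with rfl | hjq
      · rw [Function.update_self]; exact htc
      · rw [Function.update_of_ne hjq]; exact htK j ((Finset.mem_insert.1 hj).resolve_left hjq)
  set dq := embG q (refG G (f q)) with hdq
  have hcomm : Commute (refG G (f q)) (refG G g) := embG_injective q (by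
    have h1 := hcc _ ⟨q, hqK, rfl⟩
    have e1 : dq = d1 * (d1 * dq) := by rw [← mul_assoc, hd11, one_mul]
    have h2 : Commute (embG q (refG G g)) dq := by rw [e1]; exact hcq.mul_right h1
    rw [map_mul, map_mul]; exact h2.eq.symm)
  rcases orth_or_eq_of_comm hG (hf q hqK).ne hg.ne hcomm with h2 | h2
  · refine htW (hC.ctl_same (i := q) (hf q hqK) hg.ne h2 t htM ?_)
    have h3 := (htK q hqK).mul_right htc
    have e1 : d1 * dq * (d1 * embG q (refG G g)) = embG q (refG G (f q) * refG G g) := by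
      rw [map_mul, mul_assoc, ← mul_assoc dq, ← (embG_comm (hne q hqK) (refG G e) (refG G (f q))), mul_assoc,
        ← mul_assoc d1 d1, hd11, one_mul]
    rwa [e1] at h3
  rw [← h2] at hwe
  have e1 : y⁻¹ * w * embG i' (refG G g') * (y⁻¹ * w)⁻¹ = d1 * dq * embG a (refG G h) := by
    rw [show y⁻¹ * w * embG i' (refG G g') * (y⁻¹ * w)⁻¹ = y⁻¹ * (w * embG i' (refG G g') * w⁻¹) * y by group,
      ← hwe, show y⁻¹ * (d1 * dq * t) * y = (y⁻¹ * (d1 * dq) * y) * embG a (refG G h) by simp only [t]; group]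
    congr 1
    rw [mul_assoc, ← (hyc q hqK).eq, inv_mul_cancel_left]
  obtain ⟨j, u, hu, e2⟩ := hC.refl_of_conj (M.mul_mem (M.inv_mem hy) hw) hg'
    (by rw [e1]; exact (wreath ι m F).mul_mem ((wreath ι m F).mul_mem (embG_mem _ _) (embG_mem _ _)) (embG_mem _ _))
  have e3 : d1 * dq * embG a (refG G h) = embG a (refG G e * refG G h) * dq := by
    rw [mul_assoc, (embG_comm hqa (refG G (f q)) (refG G h) : dq * _ = _), ← mul_assoc, hd1, ← map_mul]
  rw [e1, e3, hdq, two_eq_PtG (Ne.symm hqa), embG_eq_PtG] at e2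
  have hjq : j = q := by
    by_contra hjq
    obtain ⟨κ, -, hκ⟩ := exists_smul_of_PtG_eq e2.symm q
    simp only [Function.update_of_ne (Ne.symm hjq), Function.update_of_ne hqa, Function.update_self, Pi.one_apply,
      Units.val_one] at hκ
    exact refG_ne_scalar hP (hf q hqK).ne κ hκ
  subst hjq
  obtain ⟨κ, -, hκ⟩ := exists_smul_of_PtG_eq e2.symm a
  simp only [Function.update_of_ne (Ne.symm hqa), Function.update_self, Pi.one_apply, Units.val_one] at hκ
  exact refG_mul_ne_scalar hP he.ne hh.ne (by rw [hG.comm]; exact hhe) κ hκ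

/-- Two reflections of different factors. -/
theorem ctl_cross {a b : ι} (hab : a ≠ b) {e f : Fin m → F} (he : Kap G d e) (hf : Kap G d f) :
    Ctl M (embG a (refG G e) * embG b (refG G f)) := fun y hy hc =>
  hC.ctl_clique he _ {b} rfl (by simpa using hab) (Finset.singleton_nonempty b) (fun _ => f) (fun _ _ => hf) y hy
    fun j hj => by rw [Finset.mem_singleton.1 hj]; exact hc

/-- Two commuting reflections. -/
theorem ctl_pair {a b : ι} {e f : Fin m → F} (he : Kap G d e) (hf : Kap G d f)
    (hne : embG b (refG G f) ≠ embG a (refG G e)) (hc : Commute (embG b (refG G f)) (embG a (refG G e))) :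
    Ctl M (embG a (refG G e) * embG b (refG G f)) := by
  have : NeZero m := ⟨by have := hC.set.par.three; omega⟩
  by_cases hab : a = b
  · subst hab
    have h1 : Commute (refG G e) (refG G f) := embG_injective _ (by rw [map_mul, map_mul]; exact hc.eq.symm)
    rcases orth_or_eq_of_comm hC.set.par.form he.ne hf.ne h1 with h2 | h2
    · rw [← map_mul]; exact hC.ctl_same he hf.ne h2
    · exact absurd (by rw [h2]) hne
  · exact hC.ctl_cross hab he hf

/-- An element commuting with two reflections not conjugate in its centraliser. -/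
theorem ctl_of_refl {c : GL (ι → Fin m) F} {a p : ι} {e h : Fin m → F} (he : Kap G d e) (hh : Kap G d h)
    (h1 : Commute (embG a (refG G e)) c) (h2 : Commute (embG p (refG G h)) c)
    (hconj : ∀ (σ : Equiv.Perm ι) (gs : ι → GL (Fin m) F), (∀ k, IsSim G (gs k)) →
      Commute (PtG gs * pmG σ) c → σ a = p → gs p * refG G e * (gs p)⁻¹ = refG G h → False) : Ctl M c := by
  intro y hy hc
  rcases hC.split_step hy {c} (by simpa using hc) he hh (by simpa using h1) (by simpa using h2)
    (fun σ gs hs hcm => hconj σ gs hs (hcm c rfl)) with hW | ⟨q, g, hg, hne1, hcq, -, htc, -⟩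
  · exact hW
  · exact hC.mem_of_conj_refl hy hh (hC.ctl_pair he hg hne1 hcq _ (hC.conj_refl_mem hy p hh) htc)

/-- Three reflections of different factors. -/
theorem ctl_three {a b q : ι} (hab : a ≠ b) (haq : a ≠ q) (hbq : b ≠ q) {e f k : Fin m → F} (he : Kap G d e) :
    Ctl M (embG a (refG G e) * embG b (refG G f) * embG q (refG G k)) := by
  have hP := hC.set.par
  have hG := hP.form
  obtain ⟨h, hh, hhe⟩ := exists_kap_orth hP he
  refine hC.ctl_of_refl (a := a) (p := a) he hh
    (((Commute.refl _).mul_right (embG_comm hab _ _)).mul_right (embG_comm haq _ _))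
    ((((comm_refG_of_orth hG hh.ne he.ne hhe).map (embG a)).mul_right (embG_comm hab _ _)).mul_right
      (embG_comm haq _ _)) fun σ gs hs hcm hσ hg => ?_
  rw [three_eq_PtG hab haq hbq] at hcm
  obtain ⟨κ, -, hκ⟩ := comp_smul_of_comm hcm a
  rw [show σ.symm a = a from σ.symm_apply_eq.2 hσ.symm, Function.update_self, hg] at hκ
  exact refG_ne_of_orth hG hh.ne he.ne hhe (refG_eq_of_smul hP hh.ne he.ne hκ)

/-- Two orthogonal reflections of one factor and one of another. -/
theorem ctl_asym {a b : ι} (hab : a ≠ b) {e g f : Fin m → F} (he : Kap G d e) (hg : Kap G d g)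
    (heg : om G e g = 0) (hf : Kap G d f) :
    Ctl M (embG a (refG G e * refG G g) * embG b (refG G f)) := by
  have hP := hC.set.par
  have hG := hP.form
  rcases eq_or_ne m 3 with hm | hm
  · obtain ⟨g'', hk'', h02, h12, hprod⟩ := exists_third hP hm he hg heg
    refine (hC.ctl_cross hab hk'' hf).of_neg ?_
    have e1 : refM G e * refM G g = -refM G g'' := by
      calc refM G e * refM G g = refM G e * refM G g * (refM G g'' * refM G g'') := by
            rw [refM_mul_self hk''.ne, mul_one]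
        _ = -refM G g'' := by rw [← mul_assoc, hprod, neg_one_mul]
    rw [Units.val_mul, Units.val_mul, embG_val, embG_val, embG_val, Units.val_mul, refG_val he.ne, refG_val hg.ne,
      refG_val hk''.ne, e1, ← neg_one_smul F (refM G g''), emb_smul, neg_one_smul, neg_mul]
  refine hC.ctl_of_refl (a := b) (p := a) hf he
    (Commute.mul_right (embG_comm hab.symm _ _) (Commute.refl _))
    ((((Commute.refl (refG G e)).mul_right (comm_refG_of_orth hG he.ne hg.ne heg)).map (embG a)).mul_right
      (embG_comm hab _ _)) fun σ gs hs hcm hσ _ => ?_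
  rw [two_eq_PtG hab] at hcm
  obtain ⟨κ, hκ0, hκ⟩ := comp_smul_of_comm hcm b
  simp only [Function.update_of_ne hab.symm, Function.update_self] at hκ
  by_cases hba : σ.symm b = a
  swap
  · rw [Function.update_of_ne hba,
      Function.update_of_ne (fun h => hab (hσ.symm.trans (σ.symm_apply_eq.1 h).symm)), Pi.one_apply, mul_one,
      mul_inv_cancel, Units.val_one] at hκ
    exact refG_ne_scalar hP hf.ne κ⁻¹ (by rw [hκ, smul_smul, inv_mul_cancel₀ hκ0, one_smul])
  obtain ⟨e1, e2⟩ := IsSim.conj_refG hP (hs b) he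
  obtain ⟨e3, e4⟩ := IsSim.conj_refG hP (hs b) hg
  rw [hba, Function.update_self,
    show gs b * (refG G e * refG G g) * (gs b)⁻¹ = (gs b * refG G e * (gs b)⁻¹) * (gs b * refG G g * (gs b)⁻¹) by
      group, e1, e3, Units.val_mul, refG_val e2.ne, refG_val e4.ne, refG_val hf.ne] at hκ
  obtain ⟨k, hk0, hk⟩ := hs b
  set u := (gs b : Matrix (Fin m) (Fin m) F) *ᵥ e
  set v := (gs b : Matrix (Fin m) (Fin m) F) *ᵥ g
  have huv : om G u v = 0 := by rw [hk, heg, mul_zero]
  obtain ⟨x, hx, hperp⟩ := exists_perp_of_lt (G := G) (show 3 < m by have := hP.three; omega) ![u, v, f]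
  have h1 := congrArg (· *ᵥ x) hκ
  simp only [← mulVec_mulVec, smul_mulVec, refM_fix (show om G x u = 0 from hperp 0),
    refM_fix (show om G x v = 0 from hperp 1), refM_fix (show om G x f = 0 from hperp 2)] at h1
  rw [eq_one_of_smul_self hx h1, one_smul] at hκ
  have hsolve : ∀ z, refM G f *ᵥ z = -z → z = (om G z f / om G f f) • f := fun z hz => by
    rw [refM_mulVec, sub_eq_iff_eq_add, ← sub_eq_iff_eq_add', sub_neg_eq_add, ← two_smul F] at hz
    refine smul_right_injective _ hG.two ?_
    show (2 : F) • z = (2 : F) • _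
    rw [hz, smul_smul]
    congr 1
    ring
  have hu : refM G f *ᵥ u = -u := by rw [← hκ, ← mulVec_mulVec, refM_fix huv, refM_self e2.ne]
  have hv : refM G f *ᵥ v = -v := by
    rw [← hκ, ← mulVec_mulVec, refM_self e4.ne, mulVec_neg, refM_fix (by rw [hG.comm]; exact huv)]
  rw [hsolve u hu, hsolve v hv, om_smul_left, om_smul_right, mul_eq_zero, mul_eq_zero] at huv
  rcases huv with h3 | h3 | h3
  · exact e2.ne (by rw [hsolve u hu, h3, zero_smul, om_zero_left])
  · exact e4.ne (by rw [hsolve v hv, h3, zero_smul, om_zero_left])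
  · exact hf.ne h3

/-- Two pairs of orthogonal reflections in two factors. -/
theorem ctl_quad {a b : ι} (hab : a ≠ b) {g g' h h' : Fin m → F} (hg : Kap G d g) (hg' : Kap G d g')
    (hgg : om G g g' = 0) (hh : Kap G d h) (hh' : Kap G d h') (hhh : om G h h' = 0) :
    Ctl M (embG a (refG G g * refG G g') * embG b (refG G h * refG G h')) := by
  have hP := hC.set.par
  have hG := hP.form
  rcases eq_or_ne m 3 with hm | hm
  · obtain ⟨g'', hk'', -, -, hprod⟩ := exists_third hP hm hg hg' hgg
    obtain ⟨h'', hl'', -, -, hprod'⟩ := exists_third hP hm hh hh' hhh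
    have key : ∀ {p q r : Fin m → F}, om G r r ≠ 0 → refM G p * refM G q * refM G r = -1 →
        refM G p * refM G q = -refM G r := fun {p q r} hr hp => by
      calc refM G p * refM G q = refM G p * refM G q * (refM G r * refM G r) := by
            rw [refM_mul_self hr, mul_one]
        _ = -refM G r := by rw [← mul_assoc, hp, neg_one_mul]
    have e : embG a (refG G g * refG G g') * embG b (refG G h * refG G h') =
        embG a (refG G g'') * embG b (refG G h'') := Units.ext (by
      rw [Units.val_mul, Units.val_mul, embG_val, embG_val, embG_val, embG_val, Units.val_mul, Units.val_mul,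
        refG_val hg.ne, refG_val hg'.ne, refG_val hh.ne, refG_val hh'.ne, refG_val hk''.ne, refG_val hl''.ne,
        key hk''.ne hprod, key hl''.ne hprod', ← neg_one_smul F (refM G g''), ← neg_one_smul F (refM G h''),
        emb_smul, emb_smul, smul_mul_smul_comm, neg_one_mul, neg_neg, one_smul])
    rw [e]
    exact hC.ctl_cross hab hk'' hl''
  have hg0 : om G g' g = 0 := by rw [hG.comm]; exact hgg
  have hS : NonDeg G (Submodule.span F {g} ⊔ Submodule.span F {g'}) :=
    nonDeg_sup hG (nonDeg_line hG hg.ne) hg'.ne fun y hy => by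
      obtain ⟨k, rfl⟩ := Submodule.mem_span_singleton.1 hy
      rw [om_smul_right, hg0, mul_zero]
  obtain ⟨z, hz, hzS⟩ := exists_kap_perp hP hS (by
    have h2 := finrank_sup_le (Submodule.span F {g}) g'
    rw [finrank_span_singleton hg.ne_zero] at h2
    have := hP.three
    omega)
  have hzg : om G z g = 0 := hzS g (Submodule.mem_sup_left (Submodule.mem_span_singleton_self g))
  have hzg' : om G z g' = 0 := hzS g' (Submodule.mem_sup_right (Submodule.mem_span_singleton_self g'))
  refine hC.ctl_of_refl (a := a) (p := a) hg hz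
    ((((Commute.refl _).mul_right (comm_refG_of_orth hG hg.ne hg'.ne hgg)).map (embG a)).mul_right
      (embG_comm hab _ _))
    ((((comm_refG_of_orth hG hz.ne hg.ne hzg).mul_right (comm_refG_of_orth hG hz.ne hg'.ne hzg')).map
      (embG a)).mul_right (embG_comm hab _ _)) fun σ gs hs hcm hσ hgz => ?_
  rw [two_eq_PtG hab] at hcm
  obtain ⟨κ, -, hκ⟩ := comp_smul_of_comm hcm a
  rw [show σ.symm a = a from σ.symm_apply_eq.2 hσ.symm, Function.update_self] at hκ
  obtain ⟨e1, e2⟩ := IsSim.conj_refG hP (hs a) hg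
  obtain ⟨e3, e4⟩ := IsSim.conj_refG hP (hs a) hg'
  set u := (gs a : Matrix (Fin m) (Fin m) F) *ᵥ g
  set v := (gs a : Matrix (Fin m) (Fin m) F) *ᵥ g'
  obtain ⟨k', -, hzu⟩ := exists_smul_of_refG_eq hG hz.ne e2.ne (hgz.symm.trans e1)
  have hug : om G u g = 0 := by rw [hzu, om_smul_left, hzg, mul_zero]
  have hug' : om G u g' = 0 := by rw [hzu, om_smul_left, hzg', mul_zero]
  obtain ⟨k, hk0, hk⟩ := hs a
  have huv : om G u v = 0 := by rw [hk, hgg, mul_zero]
  rw [show gs a * (refG G g * refG G g') * (gs a)⁻¹ = (gs a * refG G g * (gs a)⁻¹) * (gs a * refG G g' * (gs a)⁻¹) by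
    group, e1, e3, Units.val_mul, Units.val_mul, refG_val e2.ne, refG_val e4.ne, refG_val hg.ne,
    refG_val hg'.ne] at hκ
  have h1 := congrArg (· *ᵥ u) hκ
  simp only [← mulVec_mulVec, smul_mulVec, refM_fix huv, refM_self e2.ne, refM_fix hug', refM_fix hug] at h1
  have hκ1 : κ = -1 := by
    have h3 : (κ + 1) • u = 0 := by rw [add_smul, one_smul, ← h1, neg_add_cancel]
    exact eq_neg_of_add_eq_zero_left ((smul_eq_zero.1 h3).resolve_right e2.ne_zero)
  rw [hκ1, neg_one_smul] at hκ
  have hfix : refM G g *ᵥ (refM G g' *ᵥ v) = v := by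
    have h3 := congrArg (· *ᵥ v) hκ
    simp only [← mulVec_mulVec, neg_mulVec, refM_self e4.ne, mulVec_neg,
      refM_fix (show om G v u = 0 by rw [hG.comm]; exact huv)] at h3
    exact neg_inj.1 h3.symm
  have hvperp : om G v g = 0 ∧ om G v g' = 0 := by
    have h3 := congrArg (fun x => om G x g) hfix
    have h4 := congrArg (fun x => om G x g') hfix
    simp only [refM_mulVec, om_sub_left, om_smul_left, hgg, hg0, mul_zero, sub_zero] at h3 h4
    have := hg.ne
    have := hg'.ne
    field_simp at h3 h4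
    exact ⟨(mul_eq_zero.1 (show (2 : F) * om G v g = 0 by linear_combination -h3)).resolve_left hG.two,
      (mul_eq_zero.1 (show (2 : F) * om G v g' = 0 by linear_combination -h4)).resolve_left hG.two⟩
  rcases eq_or_ne m 4 with hm4 | hm4
  · refine plane_not_similar hP hm4 hg.ne hg'.ne hgg ⟨k, hk0, hk⟩ ?_ ?_
    · rintro x (rfl | rfl)
      · exact hug
      · exact hvperp.1
    · rintro x (rfl | rfl)
      · exact hug'
      · exact hvperp.2
  obtain ⟨x, hx, hperp⟩ := exists_perp_of_lt (G := G) (show 4 < m by have := hP.three; omega) ![u, v, g, g']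
  have h5 := congrArg (· *ᵥ x) hκ
  simp only [← mulVec_mulVec, neg_mulVec, refM_fix (show om G x u = 0 from hperp 0),
    refM_fix (show om G x v = 0 from hperp 1), refM_fix (show om G x g = 0 from hperp 2),
    refM_fix (show om G x g' = 0 from hperp 3)] at h5
  exact hx (eq_zero_of_eq_neg hG h5)

end Core

end CfsgLib.TWOr
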