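import Cfsg.Agent.TensorWreathOrth.Setting

/-!
# One factor: the group of reflections and Siegel elements, and operators fixed by a Siegel group
-/

set_option autoImplicit false
set_option linter.unusedSectionVars false

namespace CfsgLib.TWOr

open Matrix Module CfsgLib.MaxSub CfsgLib.TWreath
open CfsgLib.TWSp (om kr gram proj cen wedge spG gsim IsIso om_add_left om_add_right om_smul_left om_smul_right
  axis_dot cen_mulVec mem_spG mem_spG_of_om om_of_mem_spG adj)

variable {F : Type*} [Field F] {m : ℕ} {G : Matrix (Fin m) (Fin m) F} {d : F}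

/-- The group generated by the reflections and Siegel elements of one factor. -/
noncomputable def fgrp (G : Matrix (Fin m) (Fin m) F) (d : F) : Subgroup (GL (Fin m) F) :=
  Subgroup.closure ({g | ∃ e, Kap G d e ∧ g = refG G e} ∪
    {g | ∃ c z, om G c c = 0 ∧ om G z c = 0 ∧ g = sieG G c z})

theorem refG_mem_fgrp {e : Fin m → F} (h : Kap G d e) : refG G e ∈ fgrp G d :=
  Subgroup.subset_closure (Or.inl ⟨e, h, rfl⟩)

theorem sieG_mem_fgrp {c z : Fin m → F} (hc : om G c c = 0) (hz : om G z c = 0) : sieG G c z ∈ fgrp G d :=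
  Subgroup.subset_closure (Or.inr ⟨c, z, hc, hz, rfl⟩)

theorem fgrp_le (hG : OForm G) : fgrp G d ≤ spG G := by
  rw [fgrp, Subgroup.closure_le]
  rintro g (⟨e, he, rfl⟩ | ⟨c, z, hc, hz, rfl⟩)
  · exact refG_mem hG he.ne
  · exact sieG_mem hG hc hz

theorem Setting.mem [Finite F] {ι : Type} [Fintype ι] [DecidableEq ι] {M : Subgroup (GL (ι → Fin m) F)}
    (hS : Setting G d M) (i : ι) {h : GL (Fin m) F} (hh : h ∈ fgrp G d) : embG i h ∈ M := by
  have hle : fgrp G d ≤ M.comap (embG i) := by
    rw [fgrp, Subgroup.closure_le]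
    rintro g (⟨e, he, rfl⟩ | ⟨c, z, hc, hz, rfl⟩)
    · exact hS.refl i e he
    · exact hS.sieg i c z hc hz
  exact hle hh

/-- Conjugation on matrices. -/
def adM {n : Type*} [Fintype n] [DecidableEq n] (g : GL n F) : Matrix n n F →ₗ[F] Matrix n n F :=
  (LinearMap.mulLeft F (g : Matrix n n F)).comp (LinearMap.mulRight F ((g⁻¹ : GL n F) : Matrix n n F))

theorem adM_apply {n : Type*} [Fintype n] [DecidableEq n] (g : GL n F) (X : Matrix n n F) :
    adM g X = (g : Matrix n n F) * X * ((g⁻¹ : GL n F) : Matrix n n F) := (mul_assoc _ _ _).symm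

theorem adM_mul {n : Type*} [Fintype n] [DecidableEq n] (g h : GL n F) (X : Matrix n n F) :
    adM (g * h) X = adM g (adM h X) := by
  simp only [adM_apply, _root_.mul_inv_rev, Units.val_mul, mul_assoc]

theorem adM_one_right {n : Type*} [Fintype n] [DecidableEq n] (g : GL n F) : adM g (1 : Matrix n n F) = 1 := by
  rw [adM_apply, mul_one, Units.mul_inv]

theorem eq_of_adM {n : Type*} [Fintype n] [DecidableEq n] {g : GL n F} {X Y : Matrix n n F} (h : adM g X = Y) :
    (g : Matrix n n F) * X = Y * (g : Matrix n n F) := by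
  rw [← h, adM_apply, mul_assoc _ _ (g : Matrix n n F), Units.inv_mul, mul_one]

theorem adM_cen {h : GL (Fin m) F} (hh : h ∈ spG G) (c : Fin m → F) :
    adM h (cen G c) = cen G ((h : Matrix (Fin m) (Fin m) F) *ᵥ c) := by rw [adM_apply, TWSp.conj_cen hh]

theorem adM_wedge (hG : OForm G) {h : GL (Fin m) F} (hh : h ∈ spG G) (a b : Fin m → F) :
    adM h (wedge G a b) =
      wedge G ((h : Matrix (Fin m) (Fin m) F) *ᵥ a) ((h : Matrix (Fin m) (Fin m) F) *ᵥ b) := by
  rw [adM_apply, hG.conj_wedge hh]

theorem wedge_smul_left (k : F) (a b : Fin m → F) : wedge G (k • a) b = k • wedge G a b := by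
  rw [wedge, wedge, smul_vecMulVec, mulVec_smul, vecMulVec_smul, smul_sub]

theorem wedge_add_left (a a' b : Fin m → F) : wedge G (a + a') b = wedge G a b + wedge G a' b := by
  rw [wedge, wedge, wedge, mulVec_add, add_vecMulVec, vecMulVec_add]; abel

theorem wedge_sub_left (a a' b : Fin m → F) : wedge G (a - a') b = wedge G a b - wedge G a' b := by
  rw [sub_eq_add_neg, ← neg_one_smul F a', wedge_add_left, wedge_smul_left]; module

theorem cen_smul (k : F) (c : Fin m → F) : cen G (k • c) = (k * k) • cen G c := by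
  rw [cen, cen, mulVec_smul, smul_vecMulVec, vecMulVec_smul, smul_smul]

variable [Finite F]

theorem exists_sq_ne (h5 : 5 ≤ Nat.card F) : ∃ s : F, s ≠ 0 ∧ s * s ≠ 1 := by
  classical
  have := Fintype.ofFinite F
  by_contra! h
  have hs : (Finset.univ : Finset F) ⊆ {0, 1, -1} := fun s _ => by
    rcases eq_or_ne s 0 with rfl | hs
    · simp
    · rcases mul_self_eq_one_iff.1 (h s hs) with rfl | rfl <;> simp
  have := Finset.card_le_card hs
  have := Finset.card_le_three (a := (0 : F)) (b := 1) (c := -1)
  rw [Finset.card_univ, ← Nat.card_eq_fintype_card] at *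
  omega

namespace Hyp

variable {c δ : Fin m → F} (h : Hyp G c δ)
include h

theorem cd (hG : OForm G) : om G c δ = 1 := by rw [hG.comm, h.dc]

theorem om_mid (hG : OForm G) {z : Fin m → F} (hz : z ∈ mid G c δ) :
    om G z c = 0 ∧ om G z δ = 0 ∧ om G c z = 0 ∧ om G δ z = 0 := by
  obtain ⟨h1, h2⟩ := (mem_mid hG).1 hz
  exact ⟨h1, h2, by rw [hG.comm, h1], by rw [hG.comm, h2]⟩

theorem proj3_id (hG : OForm G) {z : Fin m → F} (hz : z ∈ mid G c δ) : proj3 G c δ z = z := by
  obtain ⟨h1, h2, -, -⟩ := h.om_mid hG hz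
  rw [proj3, h1, h2, zero_smul, zero_smul, sub_zero, sub_zero]

omit h in
theorem proj3_eq (x : Fin m → F) : x = om G x δ • c + om G x c • δ + proj3 G c δ x := by
  rw [proj3]; abel

theorem proj3_c (hG : OForm G) : proj3 G c δ c = 0 := by
  rw [proj3, h.cd hG, h.c_iso, one_smul, zero_smul, sub_self, sub_zero]

theorem proj3_d (hG : OForm G) : proj3 G c δ δ = 0 := by
  rw [proj3, h.d_iso, h.dc, zero_smul, one_smul, sub_zero, sub_self]

theorem ext_hyp (hG : OForm G) {A B : Matrix (Fin m) (Fin m) F} (hc : A *ᵥ c = B *ᵥ c) (hd : A *ᵥ δ = B *ᵥ δ)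
    (hz : ∀ z ∈ mid G c δ, A *ᵥ z = B *ᵥ z) : A = B := by
  refine Matrix.ext_of_mulVec_single fun k => ?_
  rw [Hyp.proj3_eq (G := G) (c := c) (δ := δ) (Pi.single k 1)]
  simp only [mulVec_add, mulVec_smul, hc, hd, hz _ (proj3_mem hG h _)]

/-- A second vector of the middle. -/
theorem exists_mid_perp (hP : Par G d) (hm : 4 ≤ m) {z : Fin m → F} (hz : z ∈ mid G c δ) (hzz : om G z z ≠ 0) :
    ∃ w ∈ mid G c δ, om G w w ≠ 0 ∧ om G w z = 0 := by
  have hG := hP.form
  have hS : NonDeg G (Submodule.span F {c} ⊔ Submodule.span F {δ} ⊔ Submodule.span F {z}) :=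
    nonDeg_sup hG (h.nonDeg hG) hzz ((mem_perp hG).1 hz)
  obtain ⟨w, hw, hww⟩ := exists_aniso hG (nonDeg_perp hG hS) fun h0 => by
    have h1 := finrank_perp hG hS
    have h2 := finrank_sup_le (Submodule.span F {c} ⊔ Submodule.span F {δ}) z
    have h3 := finrank_sup_le (Submodule.span F {c}) δ
    rw [finrank_span_singleton h.c_ne] at h3
    rw [h0, finrank_bot] at h1
    omega
  have hwS := (mem_perp hG).1 hw
  exact ⟨w, (mem_perp hG).2 fun y hy => hwS y (Submodule.mem_sup_left hy), hww,
    hwS z (Submodule.mem_sup_right (Submodule.mem_span_singleton_self z))⟩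

/-- In dimension three the middle is a line. -/
theorem mid_three (hP : Par G d) (hm : m = 3) {z : Fin m → F} (hz : z ∈ mid G c δ) (hzz : om G z z ≠ 0)
    {w : Fin m → F} (hw : w ∈ mid G c δ) : w = (om G w z / om G z z) • z := by
  have hG := hP.form
  have hS : NonDeg G (Submodule.span F {c} ⊔ Submodule.span F {δ} ⊔ Submodule.span F {z}) :=
    nonDeg_sup hG (h.nonDeg hG) hzz ((mem_perp hG).1 hz)
  set w' := w - (om G w z / om G z z) • z with hw'
  have hcd : (mid G c δ).carrier.Nonempty := ⟨z, hz⟩
  have hw'm : w' ∈ mid G c δ := Submodule.sub_mem _ hw (Submodule.smul_mem _ _ hz)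
  have hw'z : om G w' z = 0 := by rw [hw', om_sub_left, om_smul_left, div_mul_cancel₀ _ hzz, sub_self]
  by_contra hne
  have hne' : w' ≠ 0 := fun h0 => hne (sub_eq_zero.1 h0)
  -- a fourth independent direction
  have h1 := finrank_perp hG hS
  have hw'p : w' ∈ perp G (Submodule.span F {c} ⊔ Submodule.span F {δ} ⊔ Submodule.span F {z}) := by
    refine (mem_perp hG).2 fun y hy => ?_
    obtain ⟨a, ha, b, hb, rfl⟩ := Submodule.mem_sup.1 hy
    obtain ⟨r, rfl⟩ := Submodule.mem_span_singleton.1 hb
    rw [om_add_right, (mem_perp hG).1 hw'm a ha, om_smul_right, hw'z, mul_zero, add_zero]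
  have h2 : finrank F (perp G (Submodule.span F {c} ⊔ Submodule.span F {δ} ⊔ Submodule.span F {z})) ≠ 0 :=
    fun h0 => hne' (by
      rw [Submodule.finrank_eq_zero] at h0
      rw [h0, Submodule.mem_bot] at hw'p
      exact hw'p)
  have h3 : Submodule.span F {c} ⊔ Submodule.span F {δ} ≠
      Submodule.span F {c} ⊔ Submodule.span F {δ} ⊔ Submodule.span F {z} := fun he => hzz (by
    have hzS : z ∈ Submodule.span F {c} ⊔ Submodule.span F {δ} :=
      he.symm ▸ Submodule.mem_sup_right (Submodule.mem_span_singleton_self z)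
    exact (mem_perp hG).1 hz z hzS)
  have h4 := Submodule.finrank_lt_finrank_of_lt (lt_of_le_of_ne le_sup_left h3)
  have h5 : Submodule.span F {c} ≠ Submodule.span F {c} ⊔ Submodule.span F {δ} := fun he => by
    obtain ⟨r, hr⟩ := Submodule.mem_span_singleton.1
      (he.symm ▸ Submodule.mem_sup_right (Submodule.mem_span_singleton_self δ) :
        δ ∈ Submodule.span F {c})
    have := h.dc
    rw [← hr, om_smul_left, h.c_iso, mul_zero] at this
    exact zero_ne_one this
  have h6 := Submodule.finrank_lt_finrank_of_lt (lt_of_le_of_ne le_sup_left h5)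
  rw [finrank_span_singleton h.c_ne] at h6
  omega

/-- The torus element of a pair for a square ratio. -/
theorem exists_torus (hP : Par G d) {s : F} (hs : s ≠ 0) :
    ∃ τ ∈ fgrp G d, (τ : Matrix (Fin m) (Fin m) F) *ᵥ c = (s * s) • c ∧
      ∀ z ∈ mid G c δ, (τ : Matrix (Fin m) (Fin m) F) *ᵥ z = z := by
  have hG := hP.form
  have h2 := hG.two
  have hd := hP.d_ne
  set e1 := c + (d / 2) • δ with he1
  set e2 := c + (d / 2 / (s * s)) • δ with he2
  have q1 : om G e1 e1 = d := by
    rw [he1, om_add_left, om_add_right, om_add_right, om_smul_left, om_smul_right, om_smul_left, om_smul_right,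
      h.c_iso, h.d_iso, h.dc, h.cd hG]
    field_simp; ring
  have q2 : om G e2 e2 = d / (s * s) := by
    rw [he2, om_add_left, om_add_right, om_add_right, om_smul_left, om_smul_right, om_smul_left, om_smul_right,
      h.c_iso, h.d_iso, h.dc, h.cd hG]
    field_simp; ring
  have k1 : Kap G d e1 := Kap.of_value hd q1
  have k2 : Kap G d e2 := ⟨by rw [q2]; exact div_ne_zero hd (mul_ne_zero hs hs),
    Or.inr ⟨d / s, by rw [q2]; field_simp⟩⟩
  refine ⟨refG G e2 * refG G e1, (fgrp G d).mul_mem (refG_mem_fgrp k2) (refG_mem_fgrp k1), ?_, fun z hz => ?_⟩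
  · rw [Units.val_mul, refG_val k2.ne, refG_val k1.ne, ← mulVec_mulVec, refM_mulVec, refM_mulVec, q1, q2,
      he1, he2]
    simp only [om_sub_left, om_add_left, om_add_right, om_smul_left, om_smul_right, h.c_iso, h.d_iso, h.dc,
      h.cd hG]
    match_scalars <;> (field_simp; try ring)
  · obtain ⟨z1, z2, -, -⟩ := h.om_mid hG hz
    rw [Units.val_mul, refG_val k2.ne, refG_val k1.ne, ← mulVec_mulVec, refM_fix (e := e1), refM_fix (e := e2)]
    · rw [he2, om_add_right, om_smul_right, z1, z2, mul_zero, add_zero]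
    · rw [he1, om_add_right, om_smul_right, z1, z2, mul_zero, add_zero]

/-- A shifted operator has shift zero. -/
theorem shift_zero (hP : Par G d) (X : Matrix (Fin m) (Fin m) F) (χ : (Fin m → F) → F)
    (hX : ∀ z ∈ mid G c δ, sieM G c z * X = (X + χ z • 1) * sieM G c z) {z : Fin m → F}
    (hz : z ∈ mid G c δ) : χ z = 0 := by
  have hG := hP.form
  have h2 := hG.two
  set w := proj3 G c δ (X *ᵥ c) with hw
  have key : ∀ z ∈ mid G c δ, (2 * χ z) • z = om G z z • w := by
    intro z hz
    obtain ⟨zc, zd, -, dz⟩ := h.om_mid hG hz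
    set U := sieM G c z
    have h1 := hX z hz
    have h11 : U * U * X = (X + (χ z + χ z) • 1) * (U * U) := by
      rw [mul_assoc, h1, ← mul_assoc, mul_add, Matrix.mul_smul, mul_one, h1, ← mul_assoc]
      simp only [add_mul, add_smul, Matrix.smul_mul, one_mul, mul_assoc]
      abel
    have h3 : (U - 1) * (U - 1) * X - X * ((U - 1) * (U - 1)) = (χ z + χ z) • (U * (U - 1)) := by
      have e : (U - 1) * (U - 1) * X = U * U * X - (U * X + U * X) + X := by noncomm_ring
      rw [e, h11, h1]
      simp only [add_mul, mul_sub, mul_one, sub_mul, one_mul, Matrix.smul_mul, smul_sub, add_smul]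
      abel
    rw [sieM_sub_sq hG h.c_iso zc] at h3
    have h4 := congrArg (fun A : Matrix (Fin m) (Fin m) F => proj3 G c δ (A *ᵥ δ)) h3
    simp only [sub_mulVec, ← mulVec_mulVec, neg_mulVec, smul_mulVec, cen_mulVec, one_mulVec, mulVec_neg,
      mulVec_smul, mulVec_sub, h.dc, one_smul, U, sieM_mulVec, dz, h.c_iso] at h4
    have hlin : ∀ (a : F) (x y : Fin m → F), proj3 G c δ (a • x + y) = a • proj3 G c δ x + proj3 G c δ y :=
      fun a x y => by simp only [proj3, om_add_left, om_smul_left]; module
    have hz3 : proj3 G c δ (0 : Fin m → F) = 0 := by simp [proj3, om_zero_left]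
    have e1 : ∀ (a : F) (x : Fin m → F), proj3 G c δ (a • x) = a • proj3 G c δ x := fun a x => by
      have := hlin a x 0
      rwa [add_zero, hz3, add_zero] at this
    have e2 : ∀ x y : Fin m → F, proj3 G c δ (x + y) = proj3 G c δ x + proj3 G c δ y := fun x y => by
      have := hlin 1 x y
      rwa [one_smul, one_smul] at this
    have e3 : ∀ x y : Fin m → F, proj3 G c δ (x - y) = proj3 G c δ x - proj3 G c δ y := fun x y => by
      rw [sub_eq_add_neg, ← neg_one_smul F y, e2, e1]; module
    simp only [e1, e2, e3, h.proj3_c hG, h.proj3_d hG, h.proj3_id hG hz, om_add_left, h.dc, zc, ← neg_smul] at h4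
    rw [← hw] at h4
    simp only [smul_zero, sub_zero, add_zero, zero_sub, zero_smul] at h4
    linear_combination (norm := module) (-1 : F) • h4
  have h00 : χ 0 = 0 := by
    have := hX 0 (Submodule.zero_mem _)
    rw [sieM_zero, one_mul, mul_one, left_eq_add] at this
    exact (smul_eq_zero.1 this).resolve_right fun h0 => by
      obtain ⟨p, -, hp⟩ : ∃ p : Fin m, p ∈ Finset.univ ∧ True := ⟨⟨0, by have := hP.three; omega⟩, by simp⟩
      simpa using congrFun (congrFun h0 p) p
  rcases eq_or_ne z 0 with rfl | hz0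
  · exact h00
  obtain ⟨v, hv, hvv⟩ := h.exists_mid_aniso hP
  rcases eq_or_ne m 3 with hm | hm
  · -- the middle is a line
    obtain ⟨zc, zd, cz, dz⟩ := h.om_mid hG hz
    have hzz : om G z z ≠ 0 := fun h0 => hz0 (by
      have e := h.mid_three hP hm hv hvv hz
      rw [e, om_smul_left, om_smul_right, mul_eq_zero, mul_eq_zero, or_self_left, or_iff_left hvv] at h0
      rw [e, h0, zero_smul])
    have hsc : ∀ s : F, χ (s • z) = s * χ z := by
      intro s
      rcases eq_or_ne s 0 with rfl | hs
      · rw [zero_smul, h00, zero_mul]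
      have a1 := key z hz
      have a2 := key (s • z) (Submodule.smul_mem _ s hz)
      rw [om_smul_left, om_smul_right, smul_smul] at a2
      have hw' : w = (2 * χ z / om G z z) • z := by
        rw [div_eq_inv_mul, ← smul_smul, a1, smul_smul, inv_mul_cancel₀ hzz, one_smul]
      rw [hw', smul_smul] at a2
      have a3 := congrArg (fun x => om G x z) a2
      simp only [om_smul_left] at a3
      field_simp at a3
      exact a3
    obtain ⟨s, hs, hs1⟩ := exists_sq_ne (hP.five hm)
    have hdiff : ∀ t : F, (t + t) • (wedge G z c * X - X * wedge G z c) =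
        (t * χ z) • ((2 : F) • (1 : Matrix (Fin m) (Fin m) F) - (t * t * om G z z) • cen G c) := by
      intro t
      have p1 := hX (t • z) (Submodule.smul_mem _ t hz)
      have p2 := hX ((-t) • z) (Submodule.smul_mem _ _ hz)
      rw [hsc, sieM, wedge_smul_left, om_smul_left, om_smul_right] at p1 p2
      have e3 : -t * (-t * om G z z) / 2 = t * (t * om G z z) / 2 := by ring
      rw [e3] at p2
      simp only [add_mul, sub_mul, mul_add, mul_sub, one_mul, mul_one, Matrix.smul_mul, Matrix.mul_smul,
        smul_smul] at p1 p2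
      linear_combination (norm := skip) p1 - p2
      simp only [smul_sub, smul_smul]
      match_scalars <;> (field_simp; try ring)
    have f1 := hdiff 1
    have f2 := hdiff s
    have f3 : (s * χ z * (1 - s * s) * om G z z) • cen G c = 0 := by
      linear_combination (norm := skip) s • f1 - f2
      simp only [smul_sub, smul_smul]
      match_scalars <;> ring
    have hcen : cen G c ≠ 0 := fun h0 => by
      have := congrArg (· *ᵥ δ) h0
      simp only [cen_mulVec, h.dc, one_smul, zero_mulVec] at this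
      exact h.c_ne this
    have := (smul_eq_zero.1 f3).resolve_right hcen
    simp only [mul_eq_zero, hs, hzz, or_false, false_or, sub_eq_zero] at this
    exact this.resolve_right (Ne.symm hs1)
  · have hm4 : 4 ≤ m := by have := hP.three; omega
    obtain ⟨v', hv', hvv', hperp⟩ := h.exists_mid_perp hP hm4 hv hvv
    have a1 := key v hv
    have a2 := key v' hv'
    have b1 := congrArg (fun x => om G x v) a2
    simp only [om_smul_left, hperp, mul_zero] at b1
    have b2 : om G w v = 0 := (mul_eq_zero.1 b1.symm).resolve_left hvv'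
    have b3 := congrArg (fun x => om G x v) a1
    simp only [om_smul_left, b2, mul_zero, mul_eq_zero, hvv, or_false, h2, false_or] at b3
    rw [b3, mul_zero, zero_smul, eq_comm, smul_eq_zero, or_iff_right hvv] at a1
    have a3 := key z hz
    rw [a1, smul_zero, smul_eq_zero, or_iff_left hz0, mul_eq_zero] at a3
    exact a3.resolve_left h2

/-- An operator fixed by the Siegel group. -/
theorem fix_form (hG : OForm G) (X : Matrix (Fin m) (Fin m) F)
    (hX : ∀ z ∈ mid G c δ, sieM G c z * X = X * sieM G c z) (hex : ∃ z ∈ mid G c δ, om G z z ≠ 0) :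
    X = om G (X *ᵥ δ) c • 1 + om G (X *ᵥ δ) δ • cen G c + wedge G (proj3 G c δ (X *ᵥ δ)) c := by
  have h2 := hG.two
  have hW : ∀ z ∈ mid G c δ, wedge G z c * X = X * wedge G z c := fun z hz => by
    have p1 := hX z hz
    have p2 := hX ((-1 : F) • z) (Submodule.smul_mem _ _ hz)
    rw [sieM, wedge_smul_left, om_smul_left, om_smul_right] at p2
    rw [show (-1 : F) * (-1 * om G z z) / 2 = om G z z / 2 by ring] at p2
    rw [sieM] at p1
    refine smul_right_injective _ h2 ?_
    simp only [add_mul, sub_mul, mul_add, mul_sub, one_mul, mul_one, Matrix.smul_mul, Matrix.mul_smul] at p1 p2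
    linear_combination (norm := module) p1 - p2
  obtain ⟨z0, hz0, hzz⟩ := hex
  have hC : cen G c * X = X * cen G c := by
    have p := hX z0 hz0
    have z1 := (h.om_mid hG hz0).1
    have e : (sieM G c z0 - 1) * (sieM G c z0 - 1) * X = X * ((sieM G c z0 - 1) * (sieM G c z0 - 1)) := by
      have e1 : (sieM G c z0 - 1) * X = X * (sieM G c z0 - 1) := by rw [sub_mul, mul_sub, p, one_mul, mul_one]
      rw [mul_assoc, e1, ← mul_assoc, e1, mul_assoc]
    rw [sieM_sub_sq hG h.c_iso z1, neg_mul, mul_neg, neg_inj, Matrix.smul_mul, Matrix.mul_smul] at e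
    exact smul_right_injective _ hzz e
  have hc : X *ᵥ c = om G (X *ᵥ δ) c • c := by
    have := congrArg (· *ᵥ δ) hC
    simp only [← mulVec_mulVec, cen_mulVec, h.dc, one_smul] at this
    exact this.symm
  refine h.ext_hyp hG ?_ ?_ fun z hz => ?_
  · rw [hc]
    simp only [add_mulVec, smul_mulVec, one_mulVec, cen_mulVec, h.c_iso, zero_smul, smul_zero, add_zero,
      wedge_mulVec, ((mem_mid hG).1 (proj3_mem hG h (X *ᵥ δ))).1, hG.comm c (proj3 G c δ _), sub_zero]
  · simp only [add_mulVec, smul_mulVec, one_mulVec, cen_mulVec, h.dc, one_smul, wedge_mulVec,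
      hG.comm δ (proj3 G c δ _), ((mem_mid hG).1 (proj3_mem hG h (X *ᵥ δ))).2, zero_smul, sub_zero]
    conv_lhs => rw [Hyp.proj3_eq (G := G) (c := c) (δ := δ) (X *ᵥ δ)]
    abel
  · obtain ⟨zc, zd, cz, dz⟩ := h.om_mid hG hz
    have p := congrArg (· *ᵥ δ) (hW z hz)
    simp only [← mulVec_mulVec, wedge_mulVec, h.dc, dz, one_smul, zero_smul, sub_zero] at p
    rw [← p]
    simp only [add_mulVec, smul_mulVec, one_mulVec, cen_mulVec, wedge_mulVec, zc, zero_smul, smul_zero, add_zero,
      zero_sub]
    have e : om G z (proj3 G c δ (X *ᵥ δ)) = om G (X *ᵥ δ) z := by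
      rw [hG.comm, proj3, om_sub_left, om_sub_left, om_smul_left, om_smul_left, cz, dz]; ring
    rw [e, ← sub_eq_add_neg]

/-- A space containing the differences of the conjugates of `cen` contains it. -/
theorem cen_mem (hP : Par G d) {W : Submodule F (Matrix (Fin m) (Fin m) F)}
    (hW : ∀ g ∈ fgrp G d, cen G ((g : Matrix (Fin m) (Fin m) F) *ᵥ c) - cen G c ∈ W) : cen G c ∈ W := by
  have hG := hP.form
  have h2 := hG.two
  by_cases hs : ∃ s : F, s ≠ 0 ∧ s * s * (s * s) ≠ 1
  · obtain ⟨s, hs0, hs1⟩ := hs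
    obtain ⟨τ, hτ, hτc, -⟩ := h.exists_torus hP hs0
    have h1 := hW τ hτ
    rw [hτc, cen_smul] at h1
    have h3 : (s * s * (s * s) - 1) • cen G c ∈ W := by rwa [sub_smul, one_smul]
    exact (W.smul_mem_iff (sub_ne_zero.2 hs1)).1 h3
  push Not at hs
  set a := -(d / 2) with ha
  have ha0 : a ≠ 0 := neg_ne_zero.2 (div_ne_zero hP.d_ne h2)
  set e := c - a • δ with he
  have qe : om G e e = d := by
    rw [he, om_sub_left, om_sub_right, om_sub_right, om_smul_left, om_smul_right, om_smul_left, om_smul_right,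
      h.c_iso, h.d_iso, h.dc, h.cd hG, ha]
    field_simp; ring
  have ke : Kap G d e := Kap.of_value hP.d_ne qe
  have hre : (refG G e : Matrix (Fin m) (Fin m) F) *ᵥ c = a • δ := by
    rw [refG_val ke.ne, refM_mulVec, qe, he, om_sub_right, om_smul_right, h.c_iso, h.cd hG, ha]
    match_scalars <;> (field_simp; have := hP.d_ne; field_simp; try ring)
  set φ : (Fin m → F) → Matrix (Fin m) (Fin m) F := fun w => cen G (sieM G c w *ᵥ δ)
  have hφ : ∀ w ∈ mid G c δ, φ w - φ 0 ∈ W := by
    intro w hw
    have key : ∀ u ∈ mid G c δ, (a * a) • φ u - cen G c ∈ W := fun u hu => by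
      have h1 := hW (sieG G c u * refG G e)
        ((fgrp G d).mul_mem (sieG_mem_fgrp h.c_iso (h.om_mid hG hu).1) (refG_mem_fgrp ke))
      rwa [Units.val_mul, ← mulVec_mulVec, hre, mulVec_smul, cen_smul, sieG_val hG h.c_iso (h.om_mid hG hu).1] at h1
    have h1 := W.sub_mem (key w hw) (key 0 (Submodule.zero_mem _))
    rw [sub_sub_sub_cancel_right, ← smul_sub] at h1
    exact (W.smul_mem_iff (mul_ne_zero ha0 ha0)).1 h1
  set E : (Fin m → F) → Matrix (Fin m) (Fin m) F := fun w => φ w - φ 0 + (φ ((-1 : F) • w) - φ 0)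
  have hE : ∀ w ∈ mid G c δ, E w ∈ W := fun w hw =>
    W.add_mem (hφ w hw) (hφ _ (Submodule.smul_mem _ _ hw))
  have hval : ∀ w ∈ mid G c δ, E w = (2 : F) • cen G w - om G w w • (vecMulVec δ (G *ᵥ c) + vecMulVec c (G *ᵥ δ))
      + (om G w w * om G w w / 2) • cen G c := by
    intro w hw
    obtain ⟨-, -, -, dw⟩ := h.om_mid hG hw
    simp only [E, φ, sieM_mulVec, h.dc, dw, om_smul_left, om_smul_right, om_zero_left, om_zero_right, zero_smul, smul_zero,
      cen, mulVec_add, mulVec_sub, mulVec_smul, mulVec_zero, add_vecMulVec, sub_vecMulVec, vecMulVec_add,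
      vecMulVec_sub, smul_vecMulVec, vecMulVec_smul, zero_vecMulVec, vecMulVec_zero, one_smul]
    match_scalars <;> (field_simp; try ring)
  obtain ⟨z, hz, hzz⟩ := h.exists_mid_aniso hP
  by_cases h3 : (3 : F) = 0
  · have hm : 4 ≤ m := by
      by_contra hm
      have hm3 : m = 3 := by have := hP.three; omega
      -- then the field has at most five elements
      classical
      have := Fintype.ofFinite F
      have h5 := hP.five hm3
      have hsub : (Finset.univ : Finset F) ⊆ insert 0 ((Polynomial.X ^ 4 - 1 : Polynomial F).roots.toFinset) :=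
        fun s _ => by
        rcases eq_or_ne s 0 with rfl | hs0
        · simp
        · refine Finset.mem_insert_of_mem (Multiset.mem_toFinset.2 ?_)
          rw [Polynomial.mem_roots (by
            intro h0
            have := congrArg (Polynomial.eval 0) h0
            simp at this)]
          simp only [Polynomial.IsRoot, Polynomial.eval_sub, Polynomial.eval_pow, Polynomial.eval_X,
            Polynomial.eval_one]
          linear_combination hs s hs0
      have hdeg : (Polynomial.X ^ 4 - 1 : Polynomial F).natDegree = 4 := by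
        rw [← map_one Polynomial.C, Polynomial.natDegree_X_pow_sub_C]
      have hc4 := (Finset.card_le_card hsub).trans ((Finset.card_insert_le _ _).trans
        (Nat.add_le_add_right ((Multiset.toFinset_card_le _).trans
          ((Polynomial.card_roots' _).trans hdeg.le)) 1))
      rw [Finset.card_univ, ← Nat.card_eq_fintype_card] at hc4
      have hq : Nat.card F = 5 := by omega
      have h50 : (5 : F) = 0 := by
        have := Nat.cast_card_eq_zero F
        rw [← Nat.card_eq_fintype_card, hq] at this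
        exact_mod_cast this
      exact one_ne_zero (show (1 : F) = 0 by linear_combination (2 : F) * h3 - h50)
    obtain ⟨w, hw, hww, hwz⟩ := h.exists_mid_perp hP hm hz hzz
    have hM := W.sub_mem (W.add_mem (hE _ (Submodule.add_mem _ hz hw)) (hE _ (Submodule.sub_mem _ hz hw)))
      (W.add_mem (W.smul_mem (2 : F) (hE z hz)) (W.smul_mem (2 : F) (hE w hw)))
    rw [hval _ (Submodule.add_mem _ hz hw), hval _ (Submodule.sub_mem _ hz hw), hval z hz, hval w hw] at hM
    have e : (2 * (om G z z * om G w w)) • cen G c ∈ W := by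
      convert hM using 1
      simp only [om_add_left, om_add_right, om_sub_left, om_sub_right, hG.comm z w, hwz, cen, mulVec_add,
        mulVec_sub, add_vecMulVec, sub_vecMulVec, vecMulVec_add, vecMulVec_sub]
      match_scalars <;> (field_simp; try ring)
    exact (W.smul_mem_iff (mul_ne_zero h2 (mul_ne_zero hzz hww))).1 e
  · have hM := W.sub_mem (hE _ (Submodule.smul_mem _ (2 : F) hz)) (W.smul_mem (4 : F) (hE z hz))
    rw [hval _ (Submodule.smul_mem _ _ hz), hval z hz] at hM
    have e : (2 * 3 * (om G z z * om G z z)) • cen G c ∈ W := by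
      convert hM using 1
      simp only [om_smul_left, om_smul_right, cen, mulVec_smul, smul_vecMulVec, vecMulVec_smul]
      match_scalars <;> (field_simp; try ring)
    exact (W.smul_mem_iff (mul_ne_zero (mul_ne_zero h2 h3) (mul_ne_zero hzz hzz))).1 e

end Hyp

end CfsgLib.TWOr
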