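import Cfsg.Agent.TensorWreathOrth.Slice
import Cfsg.Agent.TensorSquareThree.Dihedral

/-!
# Pointwise stabilisers of slices
-/

set_option autoImplicit false
set_option linter.unusedSectionVars false

namespace CfsgLib.TWOr

open Matrix Module CfsgLib.MaxSub CfsgLib.TWreath
open CfsgLib.TWSp (om kr gram proj cen wedge spG gsim IsIso om_add_left om_add_right om_smul_left om_smul_right
  axis_dot cen_mulVec mem_spG mem_spG_of_om om_of_mem_spG adj kr_mul emb_eq_kr emb_rest kr_mulVec_lift form_lift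
  isIso_embG isIso_conj mem_gsim)

variable {F : Type*} [Field F] [Finite F] {m : ℕ} {G : Matrix (Fin m) (Fin m) F} {d : F}
  {ι : Type} [Fintype ι] [DecidableEq ι] {M : Subgroup (GL (ι → Fin m) F)}

/-- A unipotent isometry fixing a space of codimension at most two is trivial. -/
theorem eq_one_of_fix_plane (hP : Par G d) {p k : ℕ} [Fact p.Prime] [CharP F p] {S : Submodule F (Fin m → F)}
    (hS : NonDeg G S) (h2 : finrank F (perp G S) ≤ 2) {a : GL (Fin m) F} (ha : a ∈ spG G)
    (hap : a ^ p ^ k = 1) (haS : ∀ s ∈ S, (a : Matrix (Fin m) (Fin m) F) *ᵥ s = s) : a = 1 := by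
  have hG := hP.form
  have : NeZero m := ⟨by have := hP.three; omega⟩
  set A := (a : Matrix (Fin m) (Fin m) F)
  set N := A - 1
  by_contra hne
  obtain ⟨e, he⟩ : ∃ e, N *ᵥ e ≠ 0 := by
    by_contra! h
    refine hne (Units.ext (sub_eq_zero.1 (Matrix.ext_of_mulVec_single fun k => ?_)))
    rw [Units.val_one, zero_mulVec]
    exact h _
  have hN : N ^ p ^ k = 0 := by
    rw [sub_pow_char_pow_of_commute (p := p) (h := Commute.one_right _), one_pow, ← Units.val_pow_eq_pow_val, hap,
      Units.val_one, sub_self]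
  obtain ⟨r, hr0, hr⟩ := exists_last hN he
  set v := (N ^ r) *ᵥ (N *ᵥ e)
  have hvN : v = N *ᵥ ((N ^ r) *ᵥ e) := by
    rw [mulVec_mulVec, ← pow_succ', pow_succ, ← mulVec_mulVec]
  have hav : A *ᵥ v = v := by rwa [sub_mulVec, one_mulVec, sub_eq_zero] at hr
  have hperp : ∀ u, A *ᵥ u = u → om G v u = 0 := fun u hu => by
    rw [hvN, sub_mulVec, one_mulVec, om_sub_left]
    conv_lhs => arg 1; rw [← hu]
    rw [om_of_mem_spG ha, sub_self]
  have hvP : v ∈ perp G S := (mem_perp hG).2 fun s hs => hperp s (haS s hs)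
  obtain ⟨δ0, hd1, hd2⟩ := hG.exists_partner hr0 (hperp v hav)
  obtain ⟨s, hs, t, ht, hst⟩ := Submodule.mem_sup.1
    (show δ0 ∈ S ⊔ perp G S by rw [(isCompl_perp hG hS).sup_eq_top]; trivial)
  set δ := t - (om G t t / 2) • v with hδ
  have htv : om G t v = 1 := by
    have h1 := hd2
    rw [← hst, om_add_left, hG.comm s, (mem_perp hG).1 hvP s hs, zero_add] at h1
    exact h1
  have hδP : δ ∈ perp G S := Submodule.sub_mem _ ht (Submodule.smul_mem _ _ hvP)
  have h : Hyp G v δ := by
    have h2' := hG.two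
    refine ⟨hperp v hav, ?_, ?_⟩
    · rw [hδ, om_sub_left, om_sub_right, om_sub_right, om_smul_left, om_smul_left, om_smul_right, om_smul_right,
        hperp v hav, hG.comm v t, htv]
      field_simp
      ring
    · rw [hδ, om_sub_left, om_smul_left, hperp v hav, mul_zero, sub_zero, htv]
  have hplane : Submodule.span F {v} ⊔ Submodule.span F {δ} = perp G S := by
    refine Submodule.eq_of_le_of_finrank_le (sup_le ((Submodule.span_singleton_le_iff_mem _ _).2 hvP)
      ((Submodule.span_singleton_le_iff_mem _ _).2 hδP)) (h2.trans ?_)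
    have hlt : Submodule.span F {v} < Submodule.span F {v} ⊔ Submodule.span F {δ} := by
      refine left_lt_sup.2 fun hle => ?_
      obtain ⟨k, hk⟩ := Submodule.mem_span_singleton.1 (hle (Submodule.mem_span_singleton_self δ))
      have h1 := h.dc
      rw [← hk, om_smul_left, h.c_iso, mul_zero] at h1
      exact zero_ne_one h1
    have := Submodule.finrank_lt_finrank_of_lt hlt
    rw [finrank_span_singleton h.c_ne] at this
    omega
  have haδ : A *ᵥ δ = δ := by
    set w := A *ᵥ δ with hw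
    have w1 : om G w v = 1 := by rw [← hav, hw, om_of_mem_spG ha, h.dc]
    have w2 : w ∈ perp G S := (mem_perp hG).2 fun s hs => by
      rw [← haS s hs, hw, om_of_mem_spG ha]; exact (mem_perp hG).1 hδP s hs
    have w3 : om G w w = 0 := by rw [hw, om_of_mem_spG ha, h.d_iso]
    rw [← hplane] at w2
    obtain ⟨_, hx, _, hy, hxy⟩ := Submodule.mem_sup.1 w2
    obtain ⟨α, rfl⟩ := Submodule.mem_span_singleton.1 hx
    obtain ⟨β, rfl⟩ := Submodule.mem_span_singleton.1 hy
    rw [← hxy] at w1 w3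
    simp only [om_add_left, om_add_right, om_smul_left, om_smul_right, h.c_iso, h.d_iso, h.dc, h.cd hG, mul_zero,
      mul_one, zero_add, add_zero] at w1 w3
    subst w1
    have hα : α = 0 := (mul_eq_zero.1 (show (2 : F) * α = 0 by linear_combination w3)).resolve_left hG.two
    rw [← hxy, hα, zero_smul, zero_add, one_smul]
  refine hne (Units.ext (Matrix.ext_of_mulVec_single fun q => ?_))
  obtain ⟨s', hs', t', ht', hq⟩ := Submodule.mem_sup.1
    (show (Pi.single q 1 : Fin m → F) ∈ S ⊔ perp G S by rw [(isCompl_perp hG hS).sup_eq_top]; trivial)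
  rw [← hplane] at ht'
  obtain ⟨_, hx, _, hy, rfl⟩ := Submodule.mem_sup.1 ht'
  obtain ⟨α, rfl⟩ := Submodule.mem_span_singleton.1 hx
  obtain ⟨β, rfl⟩ := Submodule.mem_span_singleton.1 hy
  rw [Units.val_one, one_mulVec, ← hq]
  show A *ᵥ _ = _
  simp only [mulVec_add, mulVec_smul, haS s' hs', hav, haδ]

/-- A scalar unipotent element is trivial. -/
theorem eq_one_of_scalar_ppower {p k : ℕ} [Fact p.Prime] [CharP F p] {c : F} (h : c ^ p ^ k = 1) : c = 1 := by
  have h1 : (c - 1) ^ p ^ k = 0 := by rw [sub_pow_char_pow, h, one_pow, sub_self]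
  exact sub_eq_zero.1 ((pow_eq_zero_iff (pow_ne_zero k (Fact.out : p.Prime).ne_zero)).1 h1)

namespace Core

variable (hC : Core G d M) [Nontrivial ι]
include hC

set_option maxHeartbeats 800000 in
/-- The stabiliser of a further slice. -/
theorem slice_step {i : ι} {S : Submodule F (Fin m → F)} {e₀ : Fin m → F} (he₀ : e₀ ∈ S)
    (he₀0 : om G e₀ e₀ ≠ 0) {f : Fin m → F} (hf : om G f f ≠ 0)
    (hK : ∀ x ∈ M, x ∈ fixSl i (S ⊔ Submodule.span F {f}) → x ∈ wreath ι m F) {y : GL (ι → Fin m) F} (hy : y ∈ M)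
    (hyS : y ∈ fixSl i S) (hst : ∀ u, (y : Matrix (ι → Fin m) (ι → Fin m) F) *ᵥ lift i f u ∈ block i f) :
    y ∈ wreath ι m F := by
  classical
  have hP := hC.set.par
  have hG := hP.form
  have : NeZero m := ⟨by have := hP.three; omega⟩
  obtain ⟨p, hp'⟩ := CharP.exists F
  have : Fact p.Prime := ⟨CharP.char_is_prime F p⟩
  have hf0 : f ≠ 0 := fun e => hf (by rw [e, om_zero_left])
  have he00 : e₀ ≠ 0 := fun e => he₀0 (by rw [e, om_zero_left])
  obtain ⟨c, δ, h⟩ := exists_hyp hP
  obtain ⟨l₀, hl₀⟩ := exists_ne i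
  let l : {j // j ≠ i} := ⟨l₀, hl₀⟩
  set X := stabImage (M ⊓ fixSl i S) i f with hXdef
  have hlift : ∀ (g : GL (Fin m) F) u, (embG (l : ι) g : Matrix (ι → Fin m) (ι → Fin m) F) *ᵥ
      lift i f u = lift i f ((embG l g : Matrix (Rest i m) (Rest i m) F) *ᵥ u) := fun g u => by
    rw [embG_val, emb_rest i l, kr_mulVec_lift, one_mulVec, embG_val]
  -- an element of the image commuting with a regular element
  have key : ∀ (y' : GL (ι → Fin m) F) (ψ : GL (Rest i m) F), y' ∈ M → y' ∈ fixSl i S →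
      (∀ u, (y' : Matrix (ι → Fin m) (ι → Fin m) F) *ᵥ lift i f u = lift i f ((ψ : Matrix _ _ F) *ᵥ u)) →
      ∀ z ∈ mid G c δ, om G z z ≠ 0 → ψ * embG l (sieG G c z) = embG l (sieG G c z) * ψ →
      y' ∈ wreath ι m F ∧ ∃ k : F, ∀ u, (ψ : Matrix (Rest i m) (Rest i m) F) *ᵥ u = k • u := by
    intro y' ψ hy' hy'S hψ z hz hzz hc
    have zc := (h.om_mid hG hz).1
    set u₀ := embG (l : ι) (sieG G c z) with hu₀
    have hu₀M : u₀ ∈ M := hC.set.sieg _ c z h.c_iso zc
    set x := y' * u₀ * y'⁻¹ * u₀⁻¹ with hx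
    have hyi : ∀ u, ((y'⁻¹ : GL (ι → Fin m) F) : Matrix (ι → Fin m) (ι → Fin m) F) *ᵥ lift i f u =
        lift i f (((ψ⁻¹ : GL (Rest i m) F) : Matrix (Rest i m) (Rest i m) F) *ᵥ u) := fun u => by
      refine mulVec_injective_iff_isUnit.mpr y'.isUnit ?_
      show (y' : Matrix (ι → Fin m) (ι → Fin m) F) *ᵥ _ = (y' : Matrix (ι → Fin m) (ι → Fin m) F) *ᵥ _
      rw [mulVec_mulVec, Units.mul_inv, one_mulVec, hψ, mulVec_mulVec, Units.mul_inv, one_mulVec]
    have hxf : ∀ w, (x : Matrix (ι → Fin m) (ι → Fin m) F) *ᵥ lift i f w = lift i f w := fun w => by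
      simp only [hx, Units.val_mul, ← mulVec_mulVec, hu₀, ← map_inv, hlift, hyi, hψ]
      simp only [mulVec_mulVec, ← Units.val_mul, map_inv]
      rw [← mul_assoc, hc]
      group
      simp
    have hxS : x ∈ fixSl i S := by
      have h2 := (Subgroup.mem_normalizer_iff.1 (embG_mem_normalizer_fixSl i l (sieG G c z) S) y'⁻¹).1
        ((fixSl i S).inv_mem hy'S)
      rw [hx, show y' * u₀ * y'⁻¹ * u₀⁻¹ = y' * (u₀ * y'⁻¹ * u₀⁻¹) by group]
      exact (fixSl i S).mul_mem hy'S h2
    have hxM : x ∈ M := M.mul_mem (M.mul_mem (M.mul_mem hy' hu₀M) (M.inv_mem hy')) (M.inv_mem hu₀M)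
    obtain ⟨a, ha, hae⟩ := exists_embG_of_fix (by have := hP.three; omega) he00
      (hK x hxM (mem_fixSl_sup i hxS hxf)) (hxS e₀ he₀)
    have hiso : IsIso G x := (isIso_conj (hC.set.sim hy')
      (isIso_embG _ (sieG_mem hG h.c_iso zc))).mul (isIso_embG _ (sieG_mem hG h.c_iso zc)).inv
    have has : a ∈ spG G := mem_spG_of_isIso hP (by rw [← ha]; exact hiso)
    have e : y' * u₀ * y'⁻¹ = embG i a * u₀ := by rw [← ha, hx, inv_mul_cancel_right]
    have ha1 := eq_one_of_conj_sieG (p := p) hP (Ne.symm l.2) has he₀0 hae h hz hzz e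
    rw [ha1, map_one, one_mul, mul_inv_eq_iff_eq_mul] at e
    have hy'W := hC.mem_of_comm_sieG h hz hzz hy' e
    obtain ⟨a', rfl, -⟩ := exists_embG_of_fix (by have := hP.three; omega) he00 hy'W (hy'S e₀ he₀)
    obtain ⟨χ, hχ⟩ := exists_dot_eq_one hf0
    refine ⟨hy'W, χ ⬝ᵥ ((a' : Matrix (Fin m) (Fin m) F) *ᵥ f), fun u => funext fun q => ?_⟩
    have h1 := congrFun (congrArg (ctr i χ) (hψ u)) (extend i 0 q)
    rw [embG_val, emb_mulVec_lift, ctr_lift, ctr_lift, extend_rest, hχ, one_mul] at h1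
    rw [← h1, Pi.smul_apply, smul_eq_mul]
  -- the Siegel group normalises the image
  have hnorm : ∀ z ∈ mid G c δ, embG l (sieG G c z) ∈ Subgroup.normalizer (X : Set (GL (Rest i m) F)) := by
    intro z hz
    have zc := (h.om_mid hG hz).1
    have k1 : ∀ z, om G z c = 0 → ∀ ψ ∈ X, embG l (sieG G c z) * ψ * (embG l (sieG G c z))⁻¹ ∈ X := by
      rintro z zc ψ ⟨y', ⟨hy'M, hy'S⟩, hψ⟩
      refine ⟨embG (l : ι) (sieG G c z) * y' * (embG (l : ι) (sieG G c z))⁻¹,
        ⟨M.mul_mem (M.mul_mem (hC.set.sieg _ c z h.c_iso zc) hy'M) (M.inv_mem (hC.set.sieg _ c z h.c_iso zc)),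
          (Subgroup.mem_normalizer_iff.1 (embG_mem_normalizer_fixSl i l _ S) y').1 hy'S⟩, fun u => ?_⟩
      simp only [Units.val_mul, ← mulVec_mulVec, ← map_inv, hlift, hψ]
    refine Subgroup.mem_normalizer_iff.2 fun ψ => ⟨k1 z zc ψ, fun h1 => ?_⟩
    have h2 := k1 (-z) (by rw [om_neg_left, zc, neg_zero]) _ h1
    rw [← sieG_inv hG h.c_iso zc, map_inv] at h2
    simpa [mul_assoc] using h2
  have hX : ¬ p ∣ Nat.card X := by
    intro hdiv
    let φ : Multiplicative (mid G c δ) →* GL (Rest i m) F :=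
      MonoidHom.mk' (fun z => embG l (sieG G c (z.toAdd : Fin m → F))) fun a b => by
        rw [← map_mul, sieG_mul hG h.c_iso (h.om_mid hG a.toAdd.2).1 (h.om_mid hG b.toAdd.2).1]
        rfl
    have hR : IsPGroup p φ.range := by
      rintro ⟨_, x, rfl⟩
      refine ⟨1, Subtype.ext ?_⟩
      show φ x ^ p ^ 1 = 1
      rw [pow_one]
      show (embG l (sieG G c (x.toAdd : Fin m → F))) ^ p = 1
      rw [← map_pow, sieG_pow hG h.c_iso (h.om_mid hG x.toAdd.2).1, CharP.cast_eq_zero, zero_smul,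
        sieG_zero hG h.c_iso, map_one]
    obtain ⟨ψ, ⟨y', ⟨hy'M, hy'S⟩, hψ⟩, hψ1, ⟨k, hk⟩, hψc⟩ := CfsgLib.TensorSympOrth.exists_fixed_pelement hR
      (fun _ ⟨x, hx⟩ => hx ▸ hnorm _ x.toAdd.2) hdiv
    obtain ⟨z, hz, hzz⟩ := h.exists_mid_aniso hP
    obtain ⟨-, c', hc'⟩ := key y' ψ hy'M hy'S hψ z hz hzz
      (hψc _ ⟨Multiplicative.ofAdd ⟨z, hz⟩, rfl⟩).symm
    have hpow : ∀ (n : ℕ) u, ((ψ ^ n : GL (Rest i m) F) : Matrix (Rest i m) (Rest i m) F) *ᵥ u = c' ^ n • u := by
      intro n
      induction n with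
      | zero => intro u; rw [pow_zero, pow_zero, Units.val_one, one_mulVec, one_smul]
      | succ n ih => intro u; rw [pow_succ, Units.val_mul, ← mulVec_mulVec, hc', mulVec_smul, ih, smul_smul, ← pow_succ']
    have h1 := congrFun (hpow (p ^ k) fun _ => 1) fun _ => 0
    rw [hk, Units.val_one, one_mulVec, Pi.smul_apply, smul_eq_mul, mul_one] at h1
    have hc1 := eq_one_of_scalar_ppower h1.symm
    refine hψ1 (Units.ext (Matrix.ext_of_mulVec_single fun q => ?_))
    rw [hc', hc1, one_smul, Units.val_one, one_mulVec]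
  obtain ⟨ψ, hψ⟩ := exists_slice_map hf0 hst
  have hψX : ψ ∈ X := ⟨y, ⟨hy, hyS⟩, hψ⟩
  obtain ⟨z, hz, hzz⟩ := h.exists_mid_aniso hP
  have hcen := le_of_regular hP (D := Subgroup.centralizer {embG l (sieG G c z)}) hX l h hnorm
    (fun ψ' ⟨y', ⟨h1, h2⟩, h3⟩ z' hz' hzz' hc' => by
      obtain ⟨-, k, hk⟩ := key y' ψ' h1 h2 h3 z' hz' hzz' hc'
      refine Subgroup.mem_centralizer_iff.2 fun g hg => ?_
      rw [Set.mem_singleton_iff.1 hg]
      refine Units.ext (Matrix.ext_of_mulVec_single fun q => ?_)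
      rw [Units.val_mul, Units.val_mul, ← mulVec_mulVec, ← mulVec_mulVec, hk, hk, mulVec_smul]) hψX
  exact (key y ψ hy hyS hψ z hz hzz (Subgroup.mem_centralizer_iff.1 hcen _ rfl).symm).1

end Core

/-- An involution conjugate to a reflection is a reflection. -/
theorem exists_line_of_conj_refl (hP : Par G d) {i l : ι} {a : GL (Fin m) F} (ha : a ∈ spG G) (ha2 : a * a = 1)
    {e : Fin m → F} (he : om G e e ≠ 0) {y : GL (ι → Fin m) F} (h : y * embG l (refG G e) * y⁻¹ = embG i a) :
    ∃ g, om G g g ≠ 0 ∧ (a : Matrix (Fin m) (Fin m) F) *ᵥ g = -g ∧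
      (∀ x, om G x g = 0 → (a : Matrix (Fin m) (Fin m) F) *ᵥ x = x) ∧
      LinearMap.range (((embG i a : GL (ι → Fin m) F) : Matrix (ι → Fin m) (ι → Fin m) F) - 1).mulVecLin = block i g := by
  classical
  have hG := hP.form
  have h2 := hG.two
  have : NeZero m := ⟨by have := hP.three; omega⟩
  set A := (a : Matrix (Fin m) (Fin m) F)
  have he0 : e ≠ 0 := fun h => he (by rw [h, om_zero_left])
  have hrank : finrank F (LinearMap.range
      (((embG i a : GL (ι → Fin m) F) : Matrix (ι → Fin m) (ι → Fin m) F) - 1).mulVecLin) = bdim ι m := by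
    show Matrix.rank _ = _
    rw [← h, rank_conj_sub_one', Matrix.rank, range_refG_sub_one hG l he, finrank_block he0]
  have hb : ∀ v, A *ᵥ v - v ≠ 0 → block i (A *ᵥ v - v) = LinearMap.range
      (((embG i a : GL (ι → Fin m) F) : Matrix (ι → Fin m) (ι → Fin m) F) - 1).mulVecLin := by
    intro v hv
    refine Submodule.eq_of_le_of_finrank_le (fun x hx => ?_) (by rw [hrank, finrank_block hv])
    obtain ⟨w, rfl⟩ := exists_lift_of_mem_block hv hx
    exact ⟨lift i v w, by rw [mulVecLin_apply, embG_val, ← emb_one (F := F) (m := m) i, ← emb_sub, emb_mulVec_lift,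
      sub_mulVec, one_mulVec]⟩
  obtain ⟨v, hv⟩ : ∃ v, A *ᵥ v - v ≠ 0 := by
    by_contra! h0
    have e1 : a = 1 := Units.ext (Matrix.ext_of_mulVec_single fun q => by
      rw [Units.val_one, one_mulVec]; exact sub_eq_zero.1 (h0 _))
    rw [e1, map_one, Units.val_one, sub_self, Matrix.mulVecLin_zero, LinearMap.range_zero, finrank_bot] at hrank
    exact (pow_pos (by have := hP.three; omega : 0 < m) _).ne hrank
  set g := A *ᵥ v - v with hg
  have hA2 : ∀ x, A *ᵥ (A *ᵥ x) = x := fun x => by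
    rw [mulVec_mulVec, ← Units.val_mul, ha2, Units.val_one, one_mulVec]
  have hAg : A *ᵥ g = -g := by rw [hg, mulVec_sub, hA2]; abel
  have hpar : ∀ x, ∃ k : F, A *ᵥ x - x = k • g := by
    intro x
    obtain ⟨χ, hχ⟩ := exists_dot_eq_one hv
    rcases eq_or_ne (A *ᵥ x - x) 0 with h0 | h0
    · exact ⟨0, by rw [h0, zero_smul]⟩
    obtain ⟨ω, hω⟩ := exists_dot_eq_one h0
    have h1 : lift i (A *ᵥ x - x) (fun _ => 1) ∈ block i g := by rw [hb v hv, ← hb x h0]; exact lift_mem_block _ _ _
    obtain ⟨w, hw⟩ := exists_lift_of_mem_block hv h1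
    refine ⟨w fun _ => 0, funext fun q => ?_⟩
    have := congrFun hw (extend i q fun _ => 0)
    rw [lift_apply, lift_apply, extend_self, extend_rest, mul_one] at this
    rw [this, Pi.smul_apply, smul_eq_mul, mul_comm]
  have hfix : ∀ x, om G x g = 0 → A *ᵥ x = x := by
    intro x hx
    obtain ⟨k, hk⟩ := hpar x
    have h1 := om_of_mem_spG ha x g
    rw [show A *ᵥ x = x + k • g by rw [← hk]; abel, hAg, om_neg_right, om_add_left, hx, om_smul_left, zero_add] at h1
    rcases eq_or_ne (om G g g) 0 with hgg | hgg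
    · exfalso
      refine hv (hG.ext fun z => ?_)
      obtain ⟨k', hk'⟩ := hpar z
      have h3 := om_of_mem_spG ha z g
      rw [show A *ᵥ z = z + k' • g by rw [← hk']; abel, hAg, om_neg_right, om_add_left, om_smul_left, hgg, mul_zero,
        add_zero] at h3
      rw [om_zero_right]
      exact (mul_eq_zero.1 (show (2 : F) * om G z g = 0 by linear_combination -h3)).resolve_left h2
    rw [neg_eq_zero] at h1
    rw [(mul_eq_zero.1 h1).resolve_right hgg, zero_smul] at hk
    exact sub_eq_zero.1 hk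
  refine ⟨g, fun hgg => hv ?_, hAg, hfix, (hb v hv).symm⟩
  refine (?_ : g = 0)
  have : A *ᵥ g = g := hfix g hgg
  rw [hAg, neg_eq_iff_add_eq_zero, ← two_smul F] at this
  exact (smul_eq_zero.1 this).resolve_left h2

namespace Core

variable (hC : Core G d M) [Nontrivial ι]
include hC

/-- The stabiliser of the slices through a non-degenerate subspace lies in the wreath group. -/
theorem fix_mem (i : ι) : ∀ (n : ℕ) (S : Submodule F (Fin m → F)), finrank F (perp G S) = n → NonDeg G S → S ≠ ⊥ →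
    ∀ y ∈ M, y ∈ fixSl i S → y ∈ wreath ι m F := by
  classical
  intro n
  induction n using Nat.strong_induction_on with
  | _ n IH =>
  intro S hn hS hSne y₀ hy₀M hy₀S
  have hP := hC.set.par
  have hG := hP.form
  have hm := hP.three
  have : NeZero m := ⟨by omega⟩
  obtain ⟨p, hp'⟩ := CharP.exists F
  have : Fact p.Prime := ⟨CharP.char_is_prime F p⟩
  obtain ⟨c, δ, h⟩ := exists_hyp hP
  obtain ⟨z, hz, hzz⟩ := h.exists_mid_aniso hP
  have zc := (h.om_mid hG hz).1
  obtain ⟨l₀, hl₀⟩ := exists_ne i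
  let l : {j // j ≠ i} := ⟨l₀, hl₀⟩
  obtain ⟨e₀, he₀, he₀0⟩ := exists_aniso hG hS hSne
  have he00 : e₀ ≠ 0 := fun e => he₀0 (by rw [e, om_zero_left])
  set Y := M ⊓ fixSl i S with hY
  have hnorm : ∀ z, om G z c = 0 → embG (l : ι) (sieG G c z) ∈ Subgroup.normalizer (Y : Set (GL (ι → Fin m) F)) := by
    intro z zc
    have hu := hC.set.sieg (l : ι) c z h.c_iso zc
    have hN := Subgroup.mem_normalizer_iff.1 (embG_mem_normalizer_fixSl i l (sieG G c z) S)
    refine Subgroup.mem_normalizer_iff.2 fun x => ⟨fun hx => ⟨M.mul_mem (M.mul_mem hu hx.1) (M.inv_mem hu),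
      (hN x).1 hx.2⟩, fun hx => ⟨?_, (hN x).2 hx.2⟩⟩
    have := M.mul_mem (M.mul_mem (M.inv_mem hu) hx.1) hu
    simpa [mul_assoc] using this
  have hemb : ∀ x ∈ Y, x ∈ wreath ι m F →
      ∃ a, x = embG i a ∧ ∀ s ∈ S, (a : Matrix (Fin m) (Fin m) F) *ᵥ s = s := by
    intro x hx hxW
    obtain ⟨a, rfl, -⟩ := exists_embG_of_fix (by omega) he00 hxW (hx.2 e₀ he₀)
    refine ⟨a, rfl, fun s hs => ?_⟩
    have h1 := hx.2 s hs (Pi.single (fun _ => 0) 1)
    rw [embG_val, emb_mulVec_lift] at h1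
    funext q
    simpa [lift_apply, extend_self, extend_rest] using congrFun h1 (extend i q fun _ => 0)
  rcases le_or_gt n 2 with hn2 | hn3
  · refine hC.le_wreath_of_pprime (p := p) (X := Y) inf_le_left (fun hdiv => ?_) (l : ι) h
      (fun z hz => hnorm z (h.om_mid hG hz).1) ⟨hy₀M, hy₀S⟩
    set u := embG (l : ι) (sieG G c z) with hu
    have hup : u ^ p = 1 := by
      rw [hu, ← map_pow, sieG_pow hG h.c_iso zc, CharP.cast_eq_zero, zero_smul, sieG_zero hG h.c_iso, map_one]
    have hR : IsPGroup p (Subgroup.zpowers u) := by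
      rintro ⟨_, k, rfl⟩
      refine ⟨1, Subtype.ext ?_⟩
      show (u ^ k) ^ p ^ 1 = 1
      rw [pow_one, ← zpow_natCast, ← _root_.zpow_mul, mul_comm, _root_.zpow_mul, zpow_natCast, hup,
        _root_.one_zpow]
    obtain ⟨x, hx, hx1, ⟨k, hk⟩, hxc⟩ := CfsgLib.TensorSympOrth.exists_fixed_pelement hR
      (Subgroup.zpowers_le.2 (hnorm z zc)) hdiv
    have hxc' := (hxc u (Subgroup.mem_zpowers u)).symm
    obtain ⟨a, rfl, haS⟩ := hemb x hx (hC.mem_of_comm_sieG h hz hzz hx.1 hxc')
    have has : a ∈ spG G := by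
      obtain ⟨μ, -, he⟩ := mem_gsim.mp (hC.set.sim hx.1)
      refine mem_spG_of_isIso hP (j := i) ?_
      suffices μ = 1 by rw [IsIso, he, this, one_smul]
      obtain ⟨q0, r0, hqr⟩ : ∃ q r, gram {j // j ≠ i} G q r ≠ 0 := by
        by_contra! h0
        have hu := oForm_det (ι := {j // j ≠ i}) hG
        rw [show gram {j // j ≠ i} G = 0 from Matrix.ext h0] at hu
        have : Nonempty (Rest i m) := ⟨fun _ => 0⟩
        rw [det_zero] at hu
        exact not_isUnit_zero hu
      have h1 := congrArg (fun X => lift i e₀ (Pi.single q0 1) ⬝ᵥ X *ᵥ lift i e₀ (Pi.single r0 1)) he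
      simp only [smul_mulVec, dotProduct_smul, smul_eq_mul] at h1
      rw [← mulVec_mulVec, ← mulVec_mulVec, dotProduct_mulVec (lift i e₀ (Pi.single q0 1)), vecMul_transpose,
        hx.2 e₀ he₀, hx.2 e₀ he₀, form_lift, mulVec_single_one, single_dotProduct, one_mul] at h1
      exact mul_right_cancel₀ (mul_ne_zero he₀0 hqr) (h1.symm.trans (one_mul _).symm)
    refine hx1 ?_
    rw [eq_one_of_fix_plane hP (k := k) hS (by omega) has (embG_injective i (by rw [map_pow, hk, map_one])) haS,
      map_one]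
  -- a larger subspace
  set P := perp G S with hPdef
  have hPnd : NonDeg G P := nonDeg_perp hG hS
  have hbig : ∀ f ∈ P, om G f f ≠ 0 → ∀ x ∈ M, x ∈ fixSl i (S ⊔ Submodule.span F {f}) → x ∈ wreath ι m F := by
    intro f hf hff
    have hS' : NonDeg G (S ⊔ Submodule.span F {f}) := nonDeg_sup hG hS hff ((mem_perp hG).1 hf)
    refine IH _ ?_ _ rfl hS' (ne_bot_of_le_ne_bot hSne le_sup_left)
    have h1 := finrank_perp hG hS
    have h2 := finrank_perp hG hS'
    have h3 : finrank F S < finrank F (S ⊔ Submodule.span F {f} : Submodule F (Fin m → F)) := by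
      refine Submodule.finrank_lt_finrank_of_lt (left_lt_sup.2 fun hle => hff ?_)
      exact (mem_perp hG).1 hf f (hle (Submodule.mem_span_singleton_self f))
    rw [← hPdef] at h1
    omega
  have hstab : ∀ f ∈ P, om G f f ≠ 0 → ∀ x ∈ Y,
      (∀ u, (x : Matrix (ι → Fin m) (ι → Fin m) F) *ᵥ lift i f u ∈ block i f) → x ∈ wreath ι m F :=
    fun f hf hff x hx hst => hC.slice_step he₀ he₀0 hff (hbig f hf hff) hx.1 hx.2 hst
  have hdfY : ∀ f ∈ P, Kap G d f → embG i (refG G f) ∈ Y := fun f hf hk => ⟨hC.set.refl i f hk, fun e he w => by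
    rw [embG_val, emb_mulVec_lift, refG_val hk.ne, refM_fix (by rw [hG.comm]; exact (mem_perp hG).1 hf e he)]⟩
  -- a reflection sent into the wreath group
  have hline : ∀ (f : Fin m → F), om G f f ≠ 0 → ∀ (x w : GL (ι → Fin m) F), w ∈ gsim ι G → x ∈ Y →
      x ∈ wreath ι m F → w * embG i (refG G f) * w⁻¹ = x →
      ∃ g ∈ P, om G g g ≠ 0 ∧ x = embG i (refG G g) := by
    intro f hff x w hw hx hxW e
    obtain ⟨a, rfl, haS⟩ := hemb x hx hxW
    have has : a ∈ spG G := mem_spG_of_isIso hP (e ▸ isIso_conj hw (isIso_embG i (refG_mem hG hff)))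
    have ha2 : a * a = 1 := embG_injective i (by
      rw [map_mul, ← e, map_one]
      calc w * embG i (refG G f) * w⁻¹ * (w * embG i (refG G f) * w⁻¹)
          = w * (embG i (refG G f) * embG i (refG G f)) * w⁻¹ := by group
        _ = 1 := by rw [← map_mul, refG_sq hff, map_one, mul_one, mul_inv_cancel])
    obtain ⟨g, hgg, hag, hfix, -⟩ := exists_line_of_conj_refl hP has ha2 hff e
    refine ⟨g, (mem_perp hG).2 fun s hs => ?_, hgg, congrArg _ (Units.ext (Matrix.ext_of_mulVec_single fun q => ?_))⟩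
    · have h1 := om_of_mem_spG has g s
      rw [hag, haS s hs, om_neg_left] at h1
      exact (mul_eq_zero.1 (show (2 : F) * om G g s = 0 by linear_combination -h1)).resolve_left hG.two
    · set x := (Pi.single q 1 : Fin m → F)
      rw [refG_val hgg, refM_mulVec]
      set k := om G x g / om G g g with hk
      have h1 : om G (x - k • g) g = 0 := by rw [om_sub_left, om_smul_left, hk, div_mul_cancel₀ _ hgg, sub_self]
      have h2 := hfix _ h1
      rw [mulVec_sub, mulVec_smul, hag] at h2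
      rw [sub_eq_iff_eq_add] at h2
      rw [h2, hk, show 2 / om G g g * om G x g = 2 * (om G x g / om G g g) by ring]
      module
  have hblock : ∀ (g : Fin m → F), om G g g ≠ 0 → ∀ x : GL (ι → Fin m) F,
      Commute x (embG i (refG G g)) → ∀ u, (x : Matrix (ι → Fin m) (ι → Fin m) F) *ᵥ lift i g u ∈ block i g := by
    intro g hg x hx u
    set R := (embG i (refG G g) : Matrix (ι → Fin m) (ι → Fin m) F) - 1
    obtain ⟨v, hv⟩ : lift i g u ∈ LinearMap.range R.mulVecLin := by
      rw [range_refG_sub_one hG i hg]; exact lift_mem_block i g u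
    rw [← range_refG_sub_one hG i hg, ← hv]
    refine ⟨(x : Matrix (ι → Fin m) (ι → Fin m) F) *ᵥ v, ?_⟩
    rw [mulVecLin_apply, mulVecLin_apply, mulVec_mulVec, mulVec_mulVec, sub_mul, mul_sub, one_mul, mul_one,
      ← Units.val_mul, ← Units.val_mul, hx.eq]
  have hcY : ∀ f ∈ P, Kap G d f → ∀ x ∈ Y, Commute x (embG i (refG G f)) → x ∈ wreath ι m F :=
    fun f hf hk x hx hc => hstab f hf hk.ne x hx (hblock f hk.ne x hc)
  -- the trick
  have hT : ∀ f ∈ P, Kap G d f → ∀ x ∈ Y, x * embG i (refG G f) * x⁻¹ ∈ wreath ι m F → x ∈ wreath ι m F := by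
    intro f hf hk x hx hW
    have hdY : x * embG i (refG G f) * x⁻¹ ∈ Y := Y.mul_mem (Y.mul_mem hx (hdfY f hf hk)) (Y.inv_mem hx)
    obtain ⟨g, hgP, hgg, hge⟩ := hline f hk.ne _ x (hC.set.sim hx.1) hdY hW rfl
    set u := embG (l : ι) (sieG G c z) with hu
    have cu : ∀ a : GL (Fin m) F, Commute u (embG i a) := fun a => embG_comm l.2 _ _
    have hm' : x * u * x⁻¹ * u⁻¹ ∈ Y := by
      rw [show x * u * x⁻¹ * u⁻¹ = x * (u * x⁻¹ * u⁻¹) by group]
      exact Y.mul_mem hx ((Subgroup.mem_normalizer_iff.1 (hnorm z zc) _).1 (Y.inv_mem hx))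
    have hc : Commute (x * u * x⁻¹ * u⁻¹) (embG i (refG G g)) := by
      have h1 : Commute (x * u * x⁻¹) (embG i (refG G g)) := by
        rw [← hge]; exact (Commute.conj_iff x).2 (cu _)
      exact h1.mul_left (cu _).inv_left
    obtain ⟨a, ha, haS⟩ := hemb _ hm' (hstab g hgP hgg _ hm' (hblock g hgg _ hc))
    have has : a ∈ spG G := mem_spG_of_isIso hP (ha ▸ (isIso_conj (hC.set.sim hx.1)
      (isIso_embG _ (sieG_mem hG h.c_iso zc))).mul (isIso_embG _ (sieG_mem hG h.c_iso zc)).inv)
    have e : x * u * x⁻¹ = embG i a * u := by rw [← ha, inv_mul_cancel_right]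
    have ha1 := eq_one_of_conj_sieG (p := p) hP (Ne.symm l.2) has he₀0 (haS e₀ he₀) h hz hzz e
    rw [ha1, map_one, one_mul, mul_inv_eq_iff_eq_mul] at e
    exact hC.mem_of_comm_sieG h hz hzz hx.1 e
  -- products of two orthogonal reflections
  have hpair : ∀ f ∈ P, ∀ g ∈ P, Kap G d f → om G g g ≠ 0 → om G f g = 0 → ∀ x ∈ Y,
      Commute x (embG i (refG G f) * embG i (refG G g)) → x ∈ wreath ι m F := by
    intro f hf g hg hk hgg hfg x hx hc
    set T := S ⊔ Submodule.span F {f} ⊔ Submodule.span F {g}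
    have hT1 : NonDeg G (S ⊔ Submodule.span F {f}) := nonDeg_sup hG hS hk.ne ((mem_perp hG).1 hf)
    have hT2 : NonDeg G T := nonDeg_sup hG hT1 hgg fun y hy => by
      obtain ⟨s, hs, t, ht, rfl⟩ := Submodule.mem_sup.1 hy
      obtain ⟨k', rfl⟩ := Submodule.mem_span_singleton.1 ht
      rw [om_add_right, om_smul_right, (mem_perp hG).1 hg s hs, hG.comm g f, hfg, mul_zero, add_zero]
    obtain ⟨r, hr, hrr⟩ := exists_aniso hG (nonDeg_perp hG hT2) fun h0 => by
      have h1 := finrank_perp hG hT2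
      have h2 := finrank_sup_le (S ⊔ Submodule.span F {f}) g
      have h3 := finrank_sup_le S f
      have h4 := finrank_perp hG hS
      rw [h0, finrank_bot] at h1
      change finrank F T ≤ _ at h2
      rw [← hPdef] at h4
      omega
    have hrT := (mem_perp hG).1 hr
    have hrP : r ∈ P := (mem_perp hG).2 fun s hs => hrT s (Submodule.mem_sup_left (Submodule.mem_sup_left hs))
    have hrf : om G r f = 0 := hrT f (Submodule.mem_sup_left (Submodule.mem_sup_right (Submodule.mem_span_singleton_self f)))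
    have hrg : om G r g = 0 := hrT g (Submodule.mem_sup_right (Submodule.mem_span_singleton_self g))
    refine hT f hf hk x hx (hbig r hrP hrr _ (M.mul_mem (M.mul_mem hx.1 (hC.set.refl i f hk)) (M.inv_mem hx.1))
      (mem_fixSl_sup i (Y.mul_mem (Y.mul_mem hx (hdfY f hf hk)) (Y.inv_mem hx)).2 fun w => ?_))
    -- the reflection fixes the fixed space of the product
    set C := embG i (refG G f) * embG i (refG G g) with hCdef
    set v := ((x⁻¹ : GL (ι → Fin m) F) : Matrix (ι → Fin m) (ι → Fin m) F) *ᵥ lift i r w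
    have hCr : (C : Matrix (ι → Fin m) (ι → Fin m) F) *ᵥ lift i r w = lift i r w := by
      rw [hCdef, Units.val_mul, ← mulVec_mulVec, embG_val, embG_val, emb_mulVec_lift, emb_mulVec_lift, refG_val hgg,
        refM_fix hrg, refG_val hk.ne, refM_fix hrf]
    have hCv : (C : Matrix (ι → Fin m) (ι → Fin m) F) *ᵥ v = v := by
      show _ *ᵥ (_ *ᵥ _) = _
      rw [mulVec_mulVec, ← Units.val_mul, ← hc.inv_left.eq, Units.val_mul, ← mulVec_mulVec, hCr]
    have hdv : (embG i (refG G f) : Matrix (ι → Fin m) (ι → Fin m) F) *ᵥ v = v := by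
      have h1 := congrArg (emb i (cen G f) *ᵥ ·) hCv
      have h2 : cen G f * ((refG G f : Matrix (Fin m) (Fin m) F) * (refG G g : Matrix (Fin m) (Fin m) F)) = -cen G f := by
        refine Matrix.ext_of_mulVec_single fun q => ?_
        rw [refG_val hk.ne, refG_val hgg, ← mulVec_mulVec, ← mulVec_mulVec, neg_mulVec, cen_mulVec, cen_mulVec,
          refM_mulVec, refM_mulVec]
        simp only [om_sub_left, om_smul_left, hG.comm g f, hfg]
        rw [← neg_smul]
        congr 1
        have := hk.ne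
        field_simp
        ring
      have h4 : emb i (cen G f) * (C : Matrix (ι → Fin m) (ι → Fin m) F) = -emb i (cen G f) := by
        rw [hCdef, Units.val_mul, embG_val, embG_val, ← emb_mul, ← emb_mul, h2, ← neg_one_smul F, emb_smul,
          neg_one_smul]
      rw [mulVec_mulVec, h4, neg_mulVec, neg_eq_iff_add_eq_zero, ← two_smul F] at h1
      have h3 := (smul_eq_zero.1 h1).resolve_left hG.two
      rw [embG_val, refG_val hk.ne, refM, emb_sub, emb_one, emb_smul, sub_mulVec, one_mulVec, smul_mulVec, h3,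
        smul_zero, sub_zero]
    rw [Units.val_mul, Units.val_mul, ← mulVec_mulVec, ← mulVec_mulVec]
    show _ *ᵥ (_ *ᵥ v) = _
    rw [hdv]
    show _ *ᵥ (_ *ᵥ _) = _
    rw [mulVec_mulVec, Units.mul_inv, one_mulVec]
  -- the main step
  obtain ⟨f, hf, hk⟩ := exists_kap hP hPnd (show 2 ≤ finrank F P by omega)
  have hS1 : NonDeg G (S ⊔ Submodule.span F {f}) := nonDeg_sup hG hS hk.ne ((mem_perp hG).1 hf)
  obtain ⟨g, hg, hgk⟩ := exists_kap hP (nonDeg_perp hG hS1) (by
    have h1 := finrank_perp hG hS1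
    have h2 := finrank_sup_le S f
    have h3 := finrank_perp hG hS
    rw [← hPdef] at h3
    omega)
  have hgP : g ∈ P := (mem_perp hG).2 fun s hs => (mem_perp hG).1 hg s (Submodule.mem_sup_left hs)
  have hgf : om G g f = 0 := (mem_perp hG).1 hg f (Submodule.mem_sup_right (Submodule.mem_span_singleton_self f))
  set df := embG i (refG G f) with hdf
  have hdfI : df ∈ Y := hdfY f hf hk
  have hdf2 : df * df = 1 := by rw [hdf, ← map_mul, refG_sq hk.ne, map_one]
  -- a product of two reflections from an involution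
  have hprod : ∀ c ∈ Y, c ≠ 1 → c * c = 1 → Commute c df →
      (∃ w ∈ M, ∃ f' : Fin m → F, om G f' f' ≠ 0 ∧ c * df = w * embG i (refG G f') * w⁻¹) →
      ∀ x ∈ Y, Commute x c → x ∈ wreath ι m F := by
    rintro c hcY' hc1 hcc hcd ⟨w, hw, f', hf', hwe⟩ x hx hxc
    obtain ⟨g', hg'P, hg', hge⟩ := hline f' hf' (c * df) w (hC.set.sim hw) (Y.mul_mem hcY' hdfI)
      ((wreath ι m F).mul_mem (hcY f hf hk c hcY' hcd) (embG_mem _ _)) hwe.symm
    have hce : c = embG i (refG G g') * df := by
      rw [← hge, mul_assoc, hdf2, mul_one]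
    have hcomm : Commute (refG G g') (refG G f) := by
      refine embG_injective i ?_
      rw [map_mul, map_mul, ← hge, mul_assoc, hdf2, mul_one]
      show c = df * (c * df)
      rw [← mul_assoc, ← hcd.eq, mul_assoc, hdf2, mul_one]
    have h1 := congrArg (fun X : GL (Fin m) F => (X : Matrix (Fin m) (Fin m) F) *ᵥ f) hcomm.eq
    simp only [Units.val_mul, ← mulVec_mulVec, refG_val hk.ne, refG_val hg', refM_self hk.ne, mulVec_neg,
      refM_mulVec, om_sub_left, om_smul_left, hG.comm g' f] at h1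
    have hfg' : om G f g' = 0 := by
      by_contra hne
      refine hc1 ?_
      have := hk.ne
      have h5 : (2 * (2 / om G g' g' * om G f g')) • g' =
          (2 * (2 / om G g' g' * om G f g') * (om G f g' / om G f f)) • f := by
        linear_combination (norm := (match_scalars <;> field_simp <;> ring)) h1
      have hs : 2 * (2 / om G g' g' * om G f g') ≠ 0 :=
        mul_ne_zero hG.two (mul_ne_zero (div_ne_zero hG.two hg') hne)
      have hgf' : g' = (om G f g' / om G f f) • f := by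
        refine smul_right_injective _ hs ?_
        show _ • g' = _ • _ • f
        rw [h5, smul_smul]
      have e : refG G g' = refG G f := Units.ext (by
        rw [refG_val hg', refG_val hk.ne, hgf', refM_smul _ (div_ne_zero hne hk.ne)])
      rw [hce, e, ← hdf, hdf2]
    refine hpair f hf g' hg'P hk hg' hfg' x hx ?_
    rw [hce, ← map_mul, hcomm.eq, map_mul] at hxc
    exact hxc
  -- a mixed product
  have hmixed : ∀ h₀, Kap G d h₀ → ∀ x ∈ Y, Commute x (df * embG (l : ι) (refG G h₀)) → x ∈ wreath ι m F := by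
    intro h₀ hk₀ x hx hxc
    set cc := df * embG (l : ι) (refG G h₀) with hcc
    set dg := embG i (refG G g) with hdg
    have hdgY : dg ∈ Y := hdfY g hgP hgk
    have hdgf : Commute dg df := by
      show embG i (refG G g) * embG i (refG G f) = embG i (refG G f) * embG i (refG G g)
      rw [← map_mul, ← map_mul]
      congr 1
      refine Units.ext (Matrix.ext_of_mulVec_single fun q => ?_)
      simp only [Units.val_mul, ← mulVec_mulVec, refG_val hk.ne, refG_val hgk.ne, refM_mulVec, om_sub_left,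
        om_smul_left, hgf, hG.comm f g]
      module
    have hdgc : Commute dg cc := hdgf.mul_right (embG_comm (Ne.symm l.2) _ _)
    have hdfc : Commute df cc := (Commute.refl df).mul_right (embG_comm (Ne.symm l.2) _ _)
    set Z := Y ⊓ Subgroup.centralizer {cc}
    have hZ : ∀ {v}, v ∈ Y → Commute v cc → v ∈ Z := fun hv hc =>
      ⟨hv, Subgroup.mem_centralizer_iff.2 fun _ hb => by rw [Set.mem_singleton_iff.1 hb]; exact hc.eq.symm⟩
    have hZc : ∀ {v}, v ∈ Z → Commute v cc := fun hv => (Subgroup.mem_centralizer_iff.1 hv.2 _ rfl).symm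
    set d' := x * dg * x⁻¹ with hd'
    have hd'Z : d' ∈ Z := Z.mul_mem (Z.mul_mem (hZ hx hxc) (hZ hdgY hdgc)) (Z.inv_mem (hZ hx hxc))
    refine hT g hgP hgk x hx ?_
    by_contra hd'W
    have hd2 : d' * d' = 1 := by
      rw [hd', show x * dg * x⁻¹ * (x * dg * x⁻¹) = x * (dg * dg) * x⁻¹ by group, hdg, ← map_mul, refG_sq hgk.ne,
        map_one, mul_one, mul_inv_cancel]
    have hK : Subgroup.closure {df, d'} ≤ Z := by
      rw [Subgroup.closure_le]
      rintro _ (rfl | rfl)
      · exact hZ hdfI hdfc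
      · exact hd'Z
    rcases CfsgLib.TensorSquareThree.dihedral hdf2 hd2 with ⟨w, hw, hwe⟩ | ⟨c2, hc2, hc21, hc22, hc2f, hc2d, hcase, -⟩
    · have hwZ := hK hw
      set w' := x⁻¹ * w with hw'
      have hw'Z : w' ∈ Z := Z.mul_mem (Z.inv_mem (hZ hx hxc)) hwZ
      have he : w' * df * w'⁻¹ = dg := by
        rw [hw', show x⁻¹ * w * df * (x⁻¹ * w)⁻¹ = x⁻¹ * (w * df * w⁻¹) * x by group, ← hwe, hd']; group
      obtain ⟨a, ha, -⟩ := hemb w' hw'Z.1 (hT f hf hk w' hw'Z.1 (by rw [he]; exact embG_mem _ _))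
      have hadf : Commute w' df := by
        have h1 := hZc hw'Z
        have h2 : Commute w' (embG (l : ι) (refG G h₀)) := by rw [ha]; exact embG_comm (Ne.symm l.2) _ _
        have h3 := h1.mul_right h2
        rwa [hcc, mul_assoc, ← map_mul, refG_sq hk₀.ne, map_one, mul_one] at h3
      have e2 : dg = df := by rw [← he, hadf.eq, mul_inv_cancel_right]
      have h4 := congrArg (fun X : GL (Fin m) F => (X : Matrix (Fin m) (Fin m) F) *ᵥ f) (embG_injective i e2)
      simp only [refG_val hk.ne, refG_val hgk.ne, refM_self hk.ne,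
        refM_fix (show om G f g = 0 by rw [hG.comm]; exact hgf)] at h4
      rw [eq_neg_iff_add_eq_zero, ← two_smul F] at h4
      exact hk.ne_zero ((smul_eq_zero.1 h4).resolve_left hG.two)
    · refine hd'W (hprod c2 (hK hc2).1 hc21 hc22 hc2f ?_ d' hd'Z.1 hc2d.symm)
      rcases hcase with ⟨w, hw, e⟩ | ⟨w, hw, e⟩
      · exact ⟨w, (hK hw).1.1, f, hk.ne, e⟩
      · refine ⟨w * x, M.mul_mem (hK hw).1.1 hx.1, g, hgk.ne, ?_⟩
        rw [e, hd', hdg]; group
  have hyY : y₀ ∈ Y := ⟨hy₀M, hy₀S⟩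
  refine hC.mem_of_comm_sieG h hz hzz hy₀M (?_ : y₀ * embG (l : ι) (sieG G c z) = _)
  obtain ⟨K, hKe⟩ := exists_kr_of_comm_refl hP (l : ι) (C := (y₀ : Matrix (ι → Fin m) (ι → Fin m) F)) fun h₀ hk₀ => by
    set dl := embG (l : ι) (refG G h₀) with hdl
    have hdlM : dl ∈ M := hC.set.refl _ _ hk₀
    have hdl2 : dl * dl = 1 := by rw [hdl, ← map_mul, refG_sq hk₀.ne, map_one]
    have hdli : dl⁻¹ = dl := inv_eq_of_mul_eq_one_right hdl2
    have hdlN : ∀ v, v ∈ Y → dl * v * dl⁻¹ ∈ Y := fun v hv =>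
      ⟨M.mul_mem (M.mul_mem hdlM hv.1) (M.inv_mem hdlM),
        (Subgroup.mem_normalizer_iff.1 (embG_mem_normalizer_fixSl i l (refG G h₀) S) v).1 hv.2⟩
    have cdl : ∀ a : GL (Fin m) F, Commute (embG i a) dl := fun a => embG_comm (Ne.symm l.2) _ _
    have hdlY : dl ∉ Y := fun hY' => by
      have h1 := hY'.2 e₀ he₀
      simp only [hdl, embG_val, emb_rest i l, kr_mulVec_lift, one_mulVec] at h1
      have h2 : emb l (refG G h₀ : Matrix (Fin m) (Fin m) F) = emb l 1 := by
        rw [emb_one]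
        refine Matrix.ext_of_mulVec_single fun q => ?_
        rw [one_mulVec]
        exact lift_injective he00 (h1 _)
      have h3 := congrArg (· *ᵥ h₀) (emb_injective l h2)
      simp only [refG_val hk₀.ne, refM_self hk₀.ne, one_mulVec] at h3
      rw [neg_eq_iff_add_eq_zero, ← two_smul F] at h3
      exact hk₀.ne_zero ((smul_eq_zero.1 h3).resolve_left hG.two)
    set x' := y₀ * dl * y₀⁻¹ with hx'
    have hx'Y : x' * dl ∈ Y := by
      rw [hx', show y₀ * dl * y₀⁻¹ * dl = y₀ * (dl * y₀⁻¹ * dl⁻¹) by rw [hdli]; group]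
      exact Y.mul_mem hyY (hdlN _ (Y.inv_mem hyY))
    have hx'2 : x' * x' = 1 := by
      rw [hx', show y₀ * dl * y₀⁻¹ * (y₀ * dl * y₀⁻¹) = y₀ * (dl * dl) * y₀⁻¹ by group, hdl2, mul_one,
        mul_inv_cancel]
    suffices hW : x' ∈ wreath ι m F by
      obtain ⟨a, ha, -⟩ := hemb _ hx'Y ((wreath ι m F).mul_mem hW (embG_mem _ _))
      have e : x' = embG i a * dl := by rw [← ha, mul_assoc, hdl2, mul_one]
      have ha2 : a * a = 1 := embG_injective i (by
        have h1 := hx'2
        rw [e, (cdl a).symm.mul_mul_mul_comm, hdl2, mul_one, ← map_mul] at h1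
        rw [h1, map_one])
      have ha1 := eq_one_of_conj_refl hG hm l ha2 hk₀.ne hk₀.ne e
      rw [ha1, map_one, one_mul, hx', mul_inv_eq_iff_eq_mul] at e
      have h1 := congrArg Units.val e
      simpa only [hdl, Units.val_mul, embG_val, refG_val hk₀.ne] using h1
    by_contra hx'W
    let Yh : Subgroup (GL (ι → Fin m) F) :=
      { carrier := {v | v ∈ Y ∨ v * dl ∈ Y}
        one_mem' := Or.inl Y.one_mem
        mul_mem' := by
          rintro a b (ha | ha) (hb | hb)
          · exact Or.inl (Y.mul_mem ha hb)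
          · exact Or.inr (by rw [mul_assoc]; exact Y.mul_mem ha hb)
          · refine Or.inr ?_
            have := Y.mul_mem ha (hdlN b hb)
            rw [hdli] at this
            simpa [mul_assoc, ← mul_assoc dl dl, hdl2] using this
          · refine Or.inl ?_
            have := Y.mul_mem ha (hdlN _ hb)
            rw [hdli] at this
            simpa [mul_assoc, ← mul_assoc dl dl, hdl2] using this
        inv_mem' := by
          rintro a (ha | ha)
          · exact Or.inl (Y.inv_mem ha)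
          · refine Or.inr ?_
            have := hdlN _ (Y.inv_mem ha)
            rw [hdli] at this
            simpa [mul_assoc, ← mul_assoc dl dl, hdl2, hdli] using this }
    have hx'h : x' ∈ Yh := Or.inr hx'Y
    have hx'Yn : x' ∉ Y := fun h1 => hdlY (by
      have := Y.mul_mem (Y.inv_mem h1) hx'Y
      rwa [inv_mul_cancel_left] at this)
    have hK : Subgroup.closure {df, x'} ≤ Yh := by
      rw [Subgroup.closure_le]
      rintro _ (rfl | rfl)
      · exact Or.inl hdfI
      · exact hx'h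
    have hcoset : ∀ v ∈ Yh, ∀ w ∈ Y, v * w * v⁻¹ ∈ Y := by
      rintro v (hv | hv) w hw
      · exact Y.mul_mem (Y.mul_mem hv hw) (Y.inv_mem hv)
      · have := Y.mul_mem (Y.mul_mem hv (hdlN w hw)) (Y.inv_mem hv)
        rw [hdli] at this
        simpa [mul_assoc, ← mul_assoc dl dl, hdl2, hdli] using this
    have hYhM : ∀ {v}, v ∈ Yh → v ∈ M := by
      rintro v (hv | hv)
      · exact hv.1
      · have := M.mul_mem hv.1 hdlM
        rwa [mul_assoc, hdl2, mul_one] at this
    rcases CfsgLib.TensorSquareThree.dihedral hdf2 hx'2 with ⟨w, hw, hwe⟩ | ⟨cv, hcv, hc1, hcc, hcf, hcd, hca, hcb⟩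
    · exact hx'Yn (hwe ▸ hcoset w (hK hw) df hdfI)
    have hcf' : Commute cv df := hcf
    have hcd' : Commute cv x' := hcd
    rcases hK hcv with hcY1 | hcY1
    · have hcW := hcY f hf hk cv hcY1 hcf'
      obtain ⟨a, ha, -⟩ := hemb cv hcY1 hcW
      have hfd : ∃ w ∈ M, ∃ f' : Fin m → F, om G f' f' ≠ 0 ∧ cv * df = w * embG i (refG G f') * w⁻¹ := by
        rcases hca with ⟨w, hw, e⟩ | ⟨w, hw, e⟩
        · exact ⟨w, hYhM (hK hw), f, hk.ne, e⟩
        · refine absurd ?_ hx'Yn
          have h1 := hcoset _ (Yh.inv_mem (hK hw)) _ (Y.mul_mem hcY1 hdfI)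
          rw [e, inv_inv] at h1
          simpa [mul_assoc] using h1
      have hcl : Commute cv dl := ha ▸ cdl a
      have h2 := hprod cv hcY1 hc1 hcc hcf' hfd (x' * dl) hx'Y (hcd'.symm.mul_left hcl.symm)
      have := (wreath ι m F).mul_mem h2 (embG_mem (l : ι) (refG G h₀))
      rw [mul_assoc, hdl2, mul_one] at this
      exact hx'W this
    · have hdd : Commute df dl := cdl _
      have hc0f : Commute (cv * dl) df := hcf'.mul_left hdd.symm
      obtain ⟨a, ha, -⟩ := hemb _ hcY1 (hcY f hf hk _ hcY1 hc0f)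
      have hcv' : cv = embG i a * dl := by rw [← ha, mul_assoc, hdl2, mul_one]
      have ha2 : a * a = 1 := embG_injective i (by
        have h1 := hcc
        rw [hcv', (cdl a).symm.mul_mul_mul_comm, hdl2, mul_one, ← map_mul] at h1
        rw [h1, map_one])
      have haf : Commute a (refG G f) := embG_injective i (by
        rw [map_mul, map_mul, ← ha]; exact hc0f.eq)
      have hb : a = refG G f := by
        have hb2 : (a * refG G f) * (a * refG G f) = 1 := by
          rw [haf.symm.mul_mul_mul_comm, ha2, refG_sq hk.ne, mul_one]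
        rcases hca with ⟨w, hw, e⟩ | ⟨w, hw, e⟩
        · refine absurd ?_ hdlY
          have h1 : cv * df ∈ Y := e ▸ hcoset w (hK hw) df hdfI
          have h2 := Y.mul_mem (Y.inv_mem hcY1) (Y.mul_mem h1 (Y.inv_mem hdfI))
          rw [mul_inv_cancel_right, _root_.mul_inv_rev, hdli, inv_mul_cancel_right] at h2
          exact h2
        · have e' : (w * y₀) * embG (l : ι) (refG G h₀) * (w * y₀)⁻¹ =
              embG i (a * refG G f) * embG (l : ι) (refG G h₀) := by
            rw [map_mul, ← hdf, ← hdl, mul_assoc (embG i a), hdd.eq, ← mul_assoc, ← hcv', e, hx']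
            group
          have h1 := eq_one_of_conj_refl hG hm l hb2 hk₀.ne hk₀.ne e'
          rw [← refG_inv hk.ne]
          exact eq_inv_of_mul_eq_one_left h1
      have hcc' : cv = df * dl := by rw [hcv', hb, hdf]
      have hx'' : cv * x' ∈ Y := by
        rcases Yh.mul_mem (hK hcv) hx'h with h1 | h1
        · exact h1
        · exfalso
          refine hdlY ?_
          have h2 := hdlN _ hx'Y
          rw [hdli] at h2
          have h3 : (cv * dl) * (dl * (x' * dl) * dl) = cv * x' := by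
            rw [show (cv * dl) * (dl * (x' * dl) * dl) = cv * (dl * dl) * x' * (dl * dl) by group, hdl2, mul_one, mul_one]
          have h4 : cv * x' ∈ Y := h3 ▸ Y.mul_mem hcY1 h2
          have h5 := Y.mul_mem (Y.inv_mem h4) h1
          rwa [inv_mul_cancel_left] at h5
      have hW := hmixed h₀ hk₀ (cv * x') hx'' (by
        rw [← hcc']; exact (Commute.refl cv).mul_left hcd'.symm)
      refine hx'W ?_
      have hcvW : cv ∈ wreath ι m F := by
        rw [hcc']; exact (wreath ι m F).mul_mem (embG_mem _ _) (embG_mem _ _)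
      have := (wreath ι m F).mul_mem hcvW hW
      rwa [← mul_assoc, hcc, one_mul] at this
  refine Units.ext ?_
  rw [Units.val_mul, Units.val_mul, hKe, embG_val, emb_eq_kr, kr_mul, kr_mul, Matrix.one_mul, Matrix.mul_one,
    Matrix.one_mul, Matrix.mul_one]

/-- The stabiliser of the block of a non-singular vector. -/
theorem aniso_stab_mem {i : ι} {f : Fin m → F} (hf : om G f f ≠ 0) {y : GL (ι → Fin m) F} (hy : y ∈ M)
    (hst : ∀ u, (y : Matrix (ι → Fin m) (ι → Fin m) F) *ᵥ lift i f u ∈ block i f) : y ∈ wreath ι m F := by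
  have hG := hC.set.par.form
  have hnd : NonDeg G (Submodule.span F {f}) := by
    simpa using nonDeg_sup hG nonDeg_bot hf (fun y hy => by rw [(Submodule.mem_bot F).1 hy, om_zero_right])
  exact hC.slice_mem hf (fun x hx hxS => hC.fix_mem i _ _ rfl hnd
    (fun h => hf (by rw [(Submodule.span_singleton_eq_bot).1 h, om_zero_left])) x hx hxS) hy hst

/-- The centraliser of a reflection of one factor. -/
theorem mem_of_comm_refG {i : ι} {f : Fin m → F} (hf : om G f f ≠ 0) {y : GL (ι → Fin m) F} (hy : y ∈ M)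
    (hc : y * embG i (refG G f) = embG i (refG G f) * y) : y ∈ wreath ι m F := by
  refine hC.aniso_stab_mem (i := i) hf hy fun u => ?_
  have hG := hC.set.par.form
  obtain ⟨v, hv⟩ : lift i f u ∈ LinearMap.range
      ((embG i (refG G f) : Matrix (ι → Fin m) (ι → Fin m) F) - 1).mulVecLin := by
    rw [range_refG_sub_one hG i hf]; exact lift_mem_block i f u
  rw [← range_refG_sub_one hG i hf, ← hv]
  refine ⟨(y : Matrix (ι → Fin m) (ι → Fin m) F) *ᵥ v, ?_⟩
  rw [mulVecLin_apply, mulVecLin_apply, mulVec_mulVec, mulVec_mulVec, sub_mul, mul_sub, one_mul, mul_one,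
    ← Units.val_mul, ← Units.val_mul, hc]

end Core

end CfsgLib.TWOr
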