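import Cfsg.Agent.TensorWreathSp.Unipotent

/-!
# Orthogonal factors: reflections, Siegel elements and the form on the tensor power

`G` is the Gram matrix of a symmetric form on `F^m`, the characteristic is odd.
-/

set_option autoImplicit false
set_option linter.unusedSectionVars false

namespace CfsgLib.TWOr

open Matrix CfsgLib.MaxSub CfsgLib.TWreath
open CfsgLib.TWSp (om kr gram proj cen wedge spG gsim IsIso om_add_left om_add_right om_smul_left om_smul_right
  axis_dot cen_mulVec mem_spG mem_spG_of_om om_of_mem_spG adj)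

variable {F : Type*} [Field F] {m : ℕ} {G : Matrix (Fin m) (Fin m) F}

/-- A non-degenerate symmetric Gram matrix in odd characteristic. -/
structure OForm (G : Matrix (Fin m) (Fin m) F) : Prop where
  symm : Gᵀ = G
  det : IsUnit G.det
  two : (2 : F) ≠ 0

theorem om_neg_left (x y : Fin m → F) : om G (-x) y = -om G x y := by
  rw [← neg_one_smul F x, om_smul_left, neg_one_mul]

theorem om_neg_right (x y : Fin m → F) : om G x (-y) = -om G x y := by
  rw [← neg_one_smul F y, om_smul_right, neg_one_mul]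

theorem om_sub_left (x y z : Fin m → F) : om G (x - y) z = om G x z - om G y z := by
  rw [sub_eq_add_neg, om_add_left, om_neg_left, sub_eq_add_neg]

theorem om_sub_right (x y z : Fin m → F) : om G x (y - z) = om G x y - om G x z := by
  rw [sub_eq_add_neg, om_add_right, om_neg_right, sub_eq_add_neg]

theorem om_zero_left (y : Fin m → F) : om G 0 y = 0 := zero_dotProduct _

theorem om_zero_right (x : Fin m → F) : om G x 0 = 0 := by rw [om, mulVec_zero, dotProduct_zero]

theorem wedge_mulVec (c e x : Fin m → F) : wedge G c e *ᵥ x = om G x e • c - om G x c • e := by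
  rw [wedge, sub_mulVec, vecMulVec_mulVec', vecMulVec_mulVec', axis_dot, axis_dot]

namespace OForm

variable (hG : OForm G)
include hG

theorem comm (x y : Fin m → F) : om G x y = om G y x := by
  rw [om, om, dotProduct_mulVec x, dotProduct_comm, ← mulVec_transpose, hG.symm]

theorem inj : Function.Injective G.mulVec :=
  mulVec_injective_iff_isUnit.mpr ((Matrix.isUnit_iff_isUnit_det G).mpr hG.det)

theorem axis_ne {c : Fin m → F} (hc : c ≠ 0) : G *ᵥ c ≠ 0 := fun h => hc (hG.inj (h.trans (mulVec_zero G).symm))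

theorem exists_axis (φ : Fin m → F) : ∃ c, G *ᵥ c = φ :=
  mulVec_surjective_iff_isUnit.mpr ((Matrix.isUnit_iff_isUnit_det G).mpr hG.det) φ

theorem exists_one {c : Fin m → F} (hc : c ≠ 0) : ∃ x, om G x c = 1 := by
  obtain ⟨x, hx⟩ := exists_dot_eq_one (hG.axis_ne hc)
  exact ⟨x, hx⟩

theorem ext {v w : Fin m → F} (h : ∀ x, om G x v = om G x w) : v = w := by
  by_contra hne
  obtain ⟨x, hx⟩ := hG.exists_one (sub_ne_zero.mpr hne)
  rw [om_sub_right, h, sub_self] at hx
  exact zero_ne_one hx

/-- A singular vector has a singular partner. -/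
theorem exists_partner {c : Fin m → F} (hc : c ≠ 0) (hcc : om G c c = 0) :
    ∃ d, om G d d = 0 ∧ om G d c = 1 := by
  have := hG.two
  obtain ⟨x, hx⟩ := hG.exists_one hc
  refine ⟨x - (om G x x / 2) • c, ?_, ?_⟩
  · rw [om_sub_left, om_sub_right, om_sub_right, om_smul_left, om_smul_left, om_smul_right, om_smul_right, hcc,
      hG.comm c x, hx]
    field_simp
    ring
  · rw [om_sub_left, om_smul_left, hcc, hx, mul_zero, sub_zero]

/-- Adjoint of a split rank one matrix. -/
theorem adj_vecMulVec (a b : Fin m → F) : adj G (vecMulVec a (G *ᵥ b)) = vecMulVec b (G *ᵥ a) := by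
  rw [adj, transpose_vecMulVec, mul_vecMulVec, vecMulVec_mul]
  congr 1
  · rw [mulVec_mulVec, nonsing_inv_mul G hG.det, one_mulVec]
  · rw [← mulVec_transpose, hG.symm]

theorem adj_cen (c : Fin m → F) : adj G (cen G c) = cen G c := hG.adj_vecMulVec c c

theorem adj_wedge (c e : Fin m → F) : adj G (wedge G c e) = -wedge G c e := by
  rw [wedge, adj, transpose_sub, Matrix.mul_sub, Matrix.sub_mul]
  show adj G (vecMulVec c (G *ᵥ e)) - adj G (vecMulVec e (G *ᵥ c)) = _
  rw [hG.adj_vecMulVec, hG.adj_vecMulVec, neg_sub]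

theorem conj_vecMulVec {h : GL (Fin m) F} (hh : h ∈ spG G) (a b : Fin m → F) :
    (h : Matrix (Fin m) (Fin m) F) * vecMulVec a (G *ᵥ b) * ((h⁻¹ : GL (Fin m) F) : Matrix (Fin m) (Fin m) F) =
      vecMulVec ((h : Matrix (Fin m) (Fin m) F) *ᵥ a) (G *ᵥ ((h : Matrix (Fin m) (Fin m) F) *ᵥ b)) := by
  rw [mul_vecMulVec, vecMulVec_mul, TWSp.vecMul_inv_of_mem_spG hh]

theorem conj_wedge {h : GL (Fin m) F} (hh : h ∈ spG G) (a b : Fin m → F) :
    (h : Matrix (Fin m) (Fin m) F) * wedge G a b * ((h⁻¹ : GL (Fin m) F) : Matrix (Fin m) (Fin m) F) =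
      wedge G ((h : Matrix (Fin m) (Fin m) F) *ᵥ a) ((h : Matrix (Fin m) (Fin m) F) *ᵥ b) := by
  rw [wedge, mul_sub, sub_mul, hG.conj_vecMulVec hh, hG.conj_vecMulVec hh, wedge]

end OForm

theorem cen_mul_cen (c d : Fin m → F) : cen G c * cen G d = om G d c • vecMulVec c (G *ᵥ d) := by
  rw [cen, cen, vecMulVec_mul_vecMulVec, axis_dot, vecMulVec_smul]

theorem cen_sq {c : Fin m → F} (hc : om G c c = 0) : cen G c * cen G c = 0 := by
  rw [cen_mul_cen, hc, zero_smul]

theorem wedge_mul_wedge (c e c' : Fin m → F) (hG : OForm G) (hce : om G c e = 0) (hce' : om G c' e = 0) :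
    wedge G c e * wedge G c' e = -(om G c c' • cen G e) - om G e e • vecMulVec c (G *ᵥ c') := by
  refine Matrix.ext_of_mulVec_single fun k => ?_
  simp only [← mulVec_mulVec, sub_mulVec, neg_mulVec, smul_mulVec, wedge_mulVec, cen_mulVec, vecMulVec_mulVec',
    axis_dot, om_sub_left, om_smul_left, hce', hG.comm e c, hce, hG.comm c' c]
  match_scalars <;> ring

theorem wedge_sq (hG : OForm G) {c e : Fin m → F} (hc : om G c c = 0) (hce : om G c e = 0) :
    wedge G c e * wedge G c e = -(om G e e • cen G c) := by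
  rw [wedge_mul_wedge c e c hG hce hce, hc, zero_smul, neg_zero, zero_sub]
  rfl

/-! ### Reflections -/

/-- The matrix of the reflection in `e`. -/
def refM (G : Matrix (Fin m) (Fin m) F) (e : Fin m → F) : Matrix (Fin m) (Fin m) F :=
  1 - (2 / om G e e) • cen G e

theorem refM_mulVec (e x : Fin m → F) : refM G e *ᵥ x = x - (2 / om G e e * om G x e) • e := by
  rw [refM, sub_mulVec, one_mulVec, smul_mulVec, cen_mulVec, smul_smul]

theorem refM_fix {e x : Fin m → F} (h : om G x e = 0) : refM G e *ᵥ x = x := by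
  rw [refM_mulVec, h, mul_zero, zero_smul, sub_zero]

theorem refM_self {e : Fin m → F} (he : om G e e ≠ 0) : refM G e *ᵥ e = -e := by
  rw [refM_mulVec, div_mul_cancel₀ _ he, two_smul]; abel

theorem refM_mul_self {e : Fin m → F} (he : om G e e ≠ 0) : refM G e * refM G e = 1 := by
  refine Matrix.ext_of_mulVec_single fun k => ?_
  rw [← mulVec_mulVec, one_mulVec, refM_mulVec e (refM G e *ᵥ _), refM_mulVec, om_sub_left, om_smul_left]
  match_scalars <;> (field_simp; try ring)

theorem refM_smul (k : F) (hk : k ≠ 0) (e : Fin m → F) : refM G (k • e) = refM G e := by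
  rw [refM, refM, cen, cen, mulVec_smul, smul_vecMulVec, vecMulVec_smul, smul_smul, smul_smul, om_smul_left,
    om_smul_right]
  congr 2
  field_simp

/-- The reflection in `e`. -/
noncomputable def refG (G : Matrix (Fin m) (Fin m) F) (e : Fin m → F) : GL (Fin m) F :=
  open Classical in if h : IsUnit (refM G e) then h.unit else 1

theorem refG_val {e : Fin m → F} (he : om G e e ≠ 0) :
    (refG G e : Matrix (Fin m) (Fin m) F) = refM G e := by
  rw [refG, dif_pos (IsUnit.of_mul_eq_one _ (refM_mul_self he))]; rfl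

theorem refG_mem (hG : OForm G) {e : Fin m → F} (he : om G e e ≠ 0) : refG G e ∈ spG G := by
  refine mem_spG_of_om fun x y => ?_
  rw [refG_val he, refM_mulVec, refM_mulVec]
  simp only [om_sub_left, om_sub_right, om_smul_left, om_smul_right, hG.comm e y]
  field_simp
  ring

theorem refG_sq {e : Fin m → F} (he : om G e e ≠ 0) : refG G e * refG G e = 1 :=
  Units.ext (by rw [Units.val_mul, refG_val he, refM_mul_self he, Units.val_one])

theorem refG_inv {e : Fin m → F} (he : om G e e ≠ 0) : (refG G e)⁻¹ = refG G e :=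
  inv_eq_of_mul_eq_one_right (refG_sq he)

theorem conj_refG {h : GL (Fin m) F} (hh : h ∈ spG G) {e : Fin m → F} (he : om G e e ≠ 0) :
    h * refG G e * h⁻¹ = refG G ((h : Matrix (Fin m) (Fin m) F) *ᵥ e) := by
  have he' : om G ((h : Matrix (Fin m) (Fin m) F) *ᵥ e) ((h : Matrix (Fin m) (Fin m) F) *ᵥ e) ≠ 0 := by
    rwa [om_of_mem_spG hh]
  refine Units.ext ?_
  rw [Units.val_mul, Units.val_mul, refG_val he, refG_val he', refM, refM, mul_sub, sub_mul, mul_one,
    Units.mul_inv, Matrix.mul_smul, Matrix.smul_mul, TWSp.conj_cen hh, om_of_mem_spG hh]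

/-! ### Siegel elements -/

/-- The matrix of the Siegel element at the singular vector `c` with parameter `z`. -/
def sieM (G : Matrix (Fin m) (Fin m) F) (c z : Fin m → F) : Matrix (Fin m) (Fin m) F :=
  1 + wedge G z c - (om G z z / 2) • cen G c

theorem sieM_mulVec (c z x : Fin m → F) :
    sieM G c z *ᵥ x = x + om G x c • z - om G x z • c - (om G z z / 2 * om G x c) • c := by
  rw [sieM, sub_mulVec, add_mulVec, one_mulVec, smul_mulVec, cen_mulVec, wedge_mulVec, smul_smul]
  abel

theorem sieM_zero (c : Fin m → F) : sieM G c 0 = 1 :=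
  Matrix.ext_of_mulVec_single fun k => by
    rw [sieM_mulVec, one_mulVec]
    simp [om_zero_left, om_zero_right]

theorem sieM_mul (hG : OForm G) {c z z' : Fin m → F} (hc : om G c c = 0) (hz : om G z c = 0)
    (hz' : om G z' c = 0) : sieM G c z * sieM G c z' = sieM G c (z + z') := by
  have := hG.two
  refine Matrix.ext_of_mulVec_single fun k => ?_
  rw [← mulVec_mulVec, sieM_mulVec, sieM_mulVec, sieM_mulVec]
  simp only [om_sub_left, om_add_left, om_add_right, om_smul_left, hc, hz', hG.comm c z, hz, hG.comm z' z]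
  match_scalars <;> (field_simp; try ring)

theorem sieM_mul_neg (hG : OForm G) {c z : Fin m → F} (hc : om G c c = 0) (hz : om G z c = 0) :
    sieM G c z * sieM G c (-z) = 1 := by
  rw [sieM_mul hG hc hz (by rw [om_neg_left, hz, neg_zero]), add_neg_cancel, sieM_zero]

/-- The Siegel element at `c` with parameter `z`. -/
noncomputable def sieG (G : Matrix (Fin m) (Fin m) F) (c z : Fin m → F) : GL (Fin m) F :=
  open Classical in if h : IsUnit (sieM G c z) then h.unit else 1

theorem sieG_val (hG : OForm G) {c z : Fin m → F} (hc : om G c c = 0) (hz : om G z c = 0) :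
    (sieG G c z : Matrix (Fin m) (Fin m) F) = sieM G c z := by
  rw [sieG, dif_pos (IsUnit.of_mul_eq_one _ (sieM_mul_neg hG hc hz))]; rfl

theorem sieG_mem (hG : OForm G) {c z : Fin m → F} (hc : om G c c = 0) (hz : om G z c = 0) :
    sieG G c z ∈ spG G := by
  have := hG.two
  refine mem_spG_of_om fun x y => ?_
  rw [sieG_val hG hc hz, sieM_mulVec, sieM_mulVec]
  simp only [om_sub_left, om_sub_right, om_add_left, om_add_right, om_smul_left, om_smul_right, hc, hz,
    hG.comm c z, hG.comm c y, hG.comm z y]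
  field_simp
  ring

theorem sieG_mul (hG : OForm G) {c z z' : Fin m → F} (hc : om G c c = 0) (hz : om G z c = 0)
    (hz' : om G z' c = 0) : sieG G c z * sieG G c z' = sieG G c (z + z') :=
  Units.ext (by rw [Units.val_mul, sieG_val hG hc hz, sieG_val hG hc hz', sieM_mul hG hc hz hz',
    sieG_val hG hc (by rw [om_add_left, hz, hz', add_zero])])

theorem sieG_zero (hG : OForm G) {c : Fin m → F} (hc : om G c c = 0) : sieG G c 0 = 1 :=
  Units.ext (by rw [sieG_val hG hc (om_zero_left c), sieM_zero, Units.val_one])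

theorem sieG_inv (hG : OForm G) {c z : Fin m → F} (hc : om G c c = 0) (hz : om G z c = 0) :
    (sieG G c z)⁻¹ = sieG G c (-z) :=
  inv_eq_of_mul_eq_one_right (Units.ext (by
    rw [Units.val_mul, sieG_val hG hc hz, sieG_val hG hc (by rw [om_neg_left, hz, neg_zero]),
      sieM_mul_neg hG hc hz, Units.val_one]))

theorem conj_sieG (hG : OForm G) {h : GL (Fin m) F} (hh : h ∈ spG G) {c z : Fin m → F} (hc : om G c c = 0)
    (hz : om G z c = 0) :
    h * sieG G c z * h⁻¹ =
      sieG G ((h : Matrix (Fin m) (Fin m) F) *ᵥ c) ((h : Matrix (Fin m) (Fin m) F) *ᵥ z) := by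
  refine Units.ext ?_
  rw [Units.val_mul, Units.val_mul, sieG_val hG hc hz,
    sieG_val hG (by rwa [om_of_mem_spG hh]) (by rwa [om_of_mem_spG hh]), sieM, sieM, mul_sub, sub_mul, mul_add,
    add_mul, mul_one, Units.mul_inv, Matrix.mul_smul, Matrix.smul_mul, TWSp.conj_cen hh, hG.conj_wedge hh,
    om_of_mem_spG hh]

theorem sieM_fix {c z x : Fin m → F} (hxc : om G x c = 0) (hxz : om G x z = 0) : sieM G c z *ᵥ x = x := by
  rw [sieM_mulVec, hxc, hxz]; simp

/-! ### The power -/

variable {ι : Type} [Fintype ι] [DecidableEq ι]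

theorem oForm_det (hG : OForm G) : IsUnit (gram ι G).det := TWSp.gram_det_unit hG.det

theorem gram_symm (hG : OForm G) : (gram ι G)ᵀ = gram ι G := by
  ext a b
  show ∏ k, G (b k) (a k) = ∏ k, G (a k) (b k)
  refine Finset.prod_congr rfl fun k _ => ?_
  exact congrFun (congrFun hG.symm (a k)) (b k)

theorem form_comm (hG : OForm G) (u v : (ι → Fin m) → F) : u ⬝ᵥ gram ι G *ᵥ v = v ⬝ᵥ gram ι G *ᵥ u := by
  rw [dotProduct_mulVec u, dotProduct_comm, ← mulVec_transpose, gram_symm hG]

/-- The form against a split tensor. -/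
theorem form_proj (hG : OForm G) (i : ι) (x : Fin m → F) (u : Rest i m → F) (v : (ι → Fin m) → F) :
    lift i x u ⬝ᵥ gram ι G *ᵥ v = u ⬝ᵥ gram {j // j ≠ i} G *ᵥ proj i (G *ᵥ x) v := by
  have e : G *ᵥ x = ∑ k, (G *ᵥ x) k • (Pi.single k (1 : F) : Fin m → F) := by
    funext q; simp [Finset.sum_apply, Pi.single_apply]
  conv_rhs => rw [e, TWSp.proj_sum_axis, mulVec_sum, dotProduct_sum]
  conv_lhs => rw [TWSp.eq_sum_lift i v, mulVec_sum, dotProduct_sum]
  refine Finset.sum_congr rfl fun k _ => ?_
  rw [TWSp.form_lift, TWSp.proj_smul_axis, mulVec_smul, dotProduct_smul, smul_eq_mul]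
  congr 1
  rw [hG.comm, om, single_dotProduct, one_mul]

/-- Vectors orthogonal to a block are sums of split tensors orthogonal to `c`. -/
theorem ortho_induction (i : ι) {c d : Fin m → F} (hd : om G d c = 1) {v : (ι → Fin m) → F}
    (hv : proj i (G *ᵥ c) v = 0) :
    ∃ ys : Fin m → Fin m → F, (∀ k, om G (ys k) c = 0) ∧
      v = ∑ k, lift i (ys k) (proj i (Pi.single k 1) v) := by
  refine ⟨fun k => Pi.single k 1 - (G *ᵥ c) k • d, fun k => ?_, ?_⟩
  · show om G (Pi.single k 1 - (G *ᵥ c) k • d) c = 0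
    rw [om_sub_left, om_smul_left, hd, om, single_dotProduct]
    ring
  · have h0 : ∑ k, lift i ((G *ᵥ c) k • d) (proj i (Pi.single k 1) v) = 0 := by
      rw [Finset.sum_congr rfl fun k (_ : k ∈ Finset.univ) =>
        show lift i ((G *ᵥ c) k • d) (proj i (Pi.single k 1) v) =
            lift i d (proj i ((G *ᵥ c) k • Pi.single k 1) v) by
          rw [lift_smul_left, ← map_smul, ← TWSp.proj_smul_axis],
        ← map_sum, ← TWSp.proj_sum_axis]
      rw [show ∑ k, (G *ᵥ c) k • (Pi.single k 1 : Fin m → F) = G *ᵥ c by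
        funext q; simp [Finset.sum_apply, Pi.single_apply], hv, map_zero]
    conv_lhs => rw [TWSp.eq_sum_lift i v]
    have h1 : ∀ k, lift i (Pi.single k 1) (proj i (Pi.single k 1) v) =
        lift i (Pi.single k 1 - (G *ᵥ c) k • d) (proj i (Pi.single k 1) v) +
          lift i ((G *ᵥ c) k • d) (proj i (Pi.single k 1) v) := fun k => by
      rw [← lift_add_left, sub_add_cancel]
    simp only [h1, Finset.sum_add_distrib, h0, add_zero]

end CfsgLib.TWOr
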