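import Cfsg.Agent.TensorWreathOrth.FixSlices

/-!
# Orthogonal frames and products of one-factor operators
-/

set_option autoImplicit false
set_option linter.unusedSectionVars false

namespace CfsgLib.TWOr

open Matrix Module CfsgLib.MaxSub CfsgLib.TWreath
open CfsgLib.TWSp (om spG om_add_left om_add_right om_smul_left om_smul_right axis_dot)

variable {F : Type*} [Field F] [Finite F] {m : ℕ} {G : Matrix (Fin m) (Fin m) F} {d : F}
  {ι : Type} [Fintype ι] [DecidableEq ι]

/-- The components of a product of one-factor operators are determined up to scalars. -/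
theorem exists_smul_of_PtG_eq {cs cs' : ι → GL (Fin m) F} (h : PtG cs = PtG cs') (k : ι) :
    ∃ κ : F, κ ≠ 0 ∧ (cs' k : Matrix (Fin m) (Fin m) F) = κ • (cs k : Matrix (Fin m) (Fin m) F) := by
  classical
  rcases Nat.eq_zero_or_pos m with hm | hm
  · exact ⟨1, one_ne_zero, Matrix.ext fun q => absurd q.2 (by omega)⟩
  set B := ((cs k)⁻¹ * cs' k : GL (Fin m) F)
  have hpar : ∀ x, ∃ κ : F, (B : Matrix (Fin m) (Fin m) F) *ᵥ x = κ • x := by
    intro x
    rcases eq_or_ne x 0 with rfl | hx
    · exact ⟨0, by rw [mulVec_zero, zero_smul]⟩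
    set xs : ι → Fin m → F := fun _ => x
    have h1 := congrArg (fun g : GL (ι → Fin m) F => (g : Matrix (ι → Fin m) (ι → Fin m) F) *ᵥ pten xs) h
    simp only [PtG_val, Pt_mulVec_pten] at h1
    obtain ⟨c, -, hc⟩ := prop_of_pten_eq (pten_ne_zero fun l h0 => hx
      (mulVec_injective_iff_isUnit.mpr (cs l).isUnit (h0.trans (mulVec_zero _).symm))) h1 k
    refine ⟨c, ?_⟩
    rw [Units.val_mul, ← mulVec_mulVec, show xs k = x from rfl] at *
    rw [hc, mulVec_smul, mulVec_mulVec, Units.inv_mul, one_mulVec]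
  obtain ⟨κ, hκ⟩ := exists_smul_of_parallel hpar
  have e : (B : Matrix (Fin m) (Fin m) F) = κ • 1 := Matrix.ext_of_mulVec_single fun q => by
    rw [hκ, smul_mulVec, one_mulVec]
  have e2 : (cs' k : Matrix (Fin m) (Fin m) F) = κ • (cs k : Matrix (Fin m) (Fin m) F) := by
    have : cs' k = cs k * B := by rw [mul_inv_cancel_left]
    rw [this, Units.val_mul, e, Matrix.mul_smul, mul_one]
  refine ⟨κ, fun h0 => ?_, e2⟩
  have : Nonempty (Fin m) := ⟨⟨0, hm⟩⟩
  have h3 := (cs' k).isUnit
  rw [e2, h0, zero_smul] at h3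
  exact not_isUnit_zero h3

/-- A reflection is not a scalar. -/
theorem refG_ne_scalar (hP : Par G d) {e : Fin m → F} (he : om G e e ≠ 0) (k : F) :
    (refG G e : Matrix (Fin m) (Fin m) F) ≠ k • 1 := by
  intro h
  have hG := hP.form
  have he0 : e ≠ 0 := fun h0 => he (by rw [h0, om_zero_left])
  have h1 := congrArg (· *ᵥ e) h
  simp only [refG_val he, refM_self he, smul_mulVec, one_mulVec] at h1
  obtain ⟨φ, hφ, hφe⟩ := exists_ortho (show 2 ≤ m by have := hP.three; omega) (G *ᵥ e)
  have hφ' : om G φ e = 0 := hφe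
  have h2 := congrArg (· *ᵥ φ) h
  simp only [refG_val he, refM_fix hφ', smul_mulVec, one_mulVec] at h2
  obtain ⟨q, hq⟩ := Function.ne_iff.mp hφ
  have hk : k = 1 := by
    have := congrFun h2 q
    rw [Pi.smul_apply, smul_eq_mul] at this
    exact (mul_right_cancel₀ (show φ q ≠ 0 from hq) (by rw [one_mul]; exact this.symm))
  rw [hk, one_smul, neg_eq_iff_add_eq_zero, ← two_smul F] at h1
  exact he0 ((smul_eq_zero.1 h1).resolve_left hG.two)

/-- A reflection determines its line. -/
theorem exists_smul_of_refG_eq (hG : OForm G) {e g : Fin m → F} (he : om G e e ≠ 0) (hg : om G g g ≠ 0)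
    (h : refG G e = refG G g) : ∃ k : F, k ≠ 0 ∧ g = k • e := by
  have h1 := congrArg (fun X : GL (Fin m) F => (X : Matrix (Fin m) (Fin m) F) *ᵥ g) h
  simp only [refG_val he, refG_val hg, refM_self hg, refM_mulVec] at h1
  have hg0 : g ≠ 0 := fun h0 => hg (by rw [h0, om_zero_left])
  refine ⟨om G g e / om G e e, fun h0 => ?_, ?_⟩
  · have : om G g e = 0 := (div_eq_zero_iff.1 h0).resolve_right he
    rw [this, mul_zero, zero_smul, sub_zero, eq_neg_iff_add_eq_zero, ← two_smul F] at h1
    exact hg0 ((smul_eq_zero.1 h1).resolve_left hG.two)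
  · refine smul_right_injective _ hG.two ?_
    show (2 : F) • g = (2 : F) • _
    rw [smul_smul]
    linear_combination (norm := (match_scalars <;> field_simp <;> ring)) h1

/-- One-factor operators of different factors agree only if they are scalar. -/
theorem scalar_of_embG_eq [NeZero m] {i j : ι} (hij : i ≠ j) {A B : GL (Fin m) F} (h : embG i A = embG j B) :
    ∃ k : F, (A : Matrix (Fin m) (Fin m) F) = k • 1 := by
  rw [embG_eq_PtG, embG_eq_PtG] at h
  obtain ⟨κ, hκ, hk⟩ := exists_smul_of_PtG_eq h i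
  rw [Function.update_self, Function.update_of_ne hij, Pi.one_apply, Units.val_one] at hk
  exact ⟨κ⁻¹, by rw [hk, smul_smul, inv_mul_cancel₀ hκ, one_smul]⟩

theorem embG_refG_inj (hP : Par G d) {i j : ι} {e g : Fin m → F} (he : om G e e ≠ 0)
    (h : embG i (refG G e) = embG j (refG G g)) : i = j ∧ refG G e = refG G g := by
  have : NeZero m := ⟨by have := hP.three; omega⟩
  by_cases hij : i = j
  · subst hij
    exact ⟨rfl, embG_injective i h⟩
  · obtain ⟨k, hk⟩ := scalar_of_embG_eq hij h
    exact absurd hk (refG_ne_scalar hP he k)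

/-- An isometry negating a vector and fixing its orthogonal space is the reflection. -/
theorem eq_refG_of_line {g : Fin m → F} (hg : om G g g ≠ 0) {a : GL (Fin m) F}
    (hag : (a : Matrix (Fin m) (Fin m) F) *ᵥ g = -g)
    (hfix : ∀ x, om G x g = 0 → (a : Matrix (Fin m) (Fin m) F) *ᵥ x = x) : a = refG G g := by
  refine Units.ext (Matrix.ext_of_mulVec_single fun q => ?_)
  set x := (Pi.single q 1 : Fin m → F)
  rw [refG_val hg, refM_mulVec]
  set k := om G x g / om G g g with hk
  have h1 : om G (x - k • g) g = 0 := by rw [om_sub_left, om_smul_left, hk, div_mul_cancel₀ _ hg, sub_self]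
  have h2 := hfix _ h1
  rw [mulVec_sub, mulVec_smul, hag, sub_eq_iff_eq_add] at h2
  rw [h2, hk, show 2 / om G g g * om G x g = 2 * (om G x g / om G g g) by ring]
  module

/-- In dimension three two orthogonal vectors of `Kap` extend to a frame. -/
theorem exists_third (hP : Par G d) (hm : m = 3) {g g' : Fin m → F} (hk : Kap G d g) (hk' : Kap G d g')
    (hgg : om G g g' = 0) :
    ∃ g'', Kap G d g'' ∧ om G g g'' = 0 ∧ om G g' g'' = 0 ∧ refM G g * refM G g' * refM G g'' = -1 := by
  subst hm
  have hG := hP.form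
  have hS1 : NonDeg G (Submodule.span F {g}) := by
    simpa using nonDeg_sup hG nonDeg_bot hk.ne (fun y hy => by rw [(Submodule.mem_bot F).1 hy, om_zero_right])
  have hd1 : finrank F (Submodule.span F {g}) = 1 := finrank_span_singleton hk.ne_zero
  have h10 : om G g' g = 0 := by rw [hG.comm, hgg]
  have hg' : ∀ y ∈ Submodule.span F {g}, om G g' y = 0 := fun y hy => by
    obtain ⟨k, rfl⟩ := Submodule.mem_span_singleton.1 hy
    rw [om_smul_right, h10, mul_zero]
  have hS2 : NonDeg G (Submodule.span F {g} ⊔ Submodule.span F {g'}) := nonDeg_sup hG hS1 hk'.ne hg'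
  obtain ⟨g'', hg'', hg''0⟩ := exists_aniso hG (nonDeg_perp hG hS2) fun h0 => by
    have h1 := finrank_perp hG hS2
    have h2 := finrank_sup_le (Submodule.span F {g}) g'
    rw [h0, finrank_bot] at h1
    omega
  have h20 : om G g'' g = 0 := (mem_perp hG).1 hg'' g (Submodule.mem_sup_left (Submodule.mem_span_singleton_self g))
  have h21 : om G g'' g' = 0 := (mem_perp hG).1 hg'' g' (Submodule.mem_sup_right (Submodule.mem_span_singleton_self g'))
  have h01 : om G g g' = 0 := by rw [hG.comm, h10]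
  have h02 : om G g g'' = 0 := by rw [hG.comm, h20]
  have h12 : om G g' g'' = 0 := by rw [hG.comm, h21]
  let vs : Fin 3 → Fin 3 → F := ![g, g', g'']
  let P : Matrix (Fin 3) (Fin 3) F := Matrix.of fun r s => vs s r
  have hcol : ∀ s, P *ᵥ Pi.single s 1 = vs s := fun s => by rw [mulVec_single_one]; rfl
  have hgram : Pᵀ * G * P = Matrix.diagonal fun s => om G (vs s) (vs s) := by
    refine Matrix.ext fun r s => ?_
    have e : (Pᵀ * G * P) r s = om G (vs r) (vs s) := by
      have h1 : (Pᵀ * G * P) r s = Pi.single r 1 ⬝ᵥ (Pᵀ * G * P) *ᵥ Pi.single s 1 := by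
        rw [mulVec_single_one, single_dotProduct, one_mul]; rfl
      rw [h1, ← mulVec_mulVec, ← mulVec_mulVec, dotProduct_mulVec (Pi.single r 1), vecMul_transpose, hcol, hcol]
      rfl
    rw [e]
    fin_cases r <;> fin_cases s <;> simp [vs, h10, h20, h21, h01, h02, h12]
  have hdet := congrArg Matrix.det hgram
  rw [det_mul, det_mul, det_transpose, det_diagonal, Fin.prod_univ_three] at hdet
  simp only [vs, Matrix.cons_val_zero, Matrix.cons_val_one, Matrix.cons_val] at hdet
  have hne : P.det ≠ 0 := fun h0 => by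
    rw [h0, zero_mul, zero_mul, eq_comm] at hdet
    exact mul_ne_zero (mul_ne_zero hk.ne hk'.ne) hg''0 hdet
  have hodd : ¬ Even 3 := by decide
  have hk'' : Kap G d g'' := by
    refine ⟨hg''0, Or.inr ?_⟩
    obtain ⟨r₁, hr₁⟩ := hk.2.resolve_left hodd
    obtain ⟨r₂, hr₂⟩ := hk'.2.resolve_left hodd
    obtain ⟨r₀, hr₀⟩ := hP.disc (by decide)
    have h1 : r₁ ≠ 0 := fun h0 => mul_ne_zero hk.ne hP.d_ne (by rw [hr₁, h0, zero_mul])
    have h2 : r₂ ≠ 0 := fun h0 => mul_ne_zero hk'.ne hP.d_ne (by rw [hr₂, h0, zero_mul])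
    refine ⟨P.det * r₀ * d / (r₁ * r₂), ?_⟩
    field_simp
    linear_combination (-(d * d * d)) * hdet + (P.det ^ 2 * d ^ 2) * hr₀ + (-(om G g'' g'' * d * d * om G g g)) * hr₂ + (-(om G g'' g'' * d * r₂ ^ 2)) * hr₁
  refine ⟨g'', hk'', h02, h12, ?_⟩
  have hPu : IsUnit P := (Matrix.isUnit_iff_isUnit_det P).2 (isUnit_iff_ne_zero.2 hne)
  refine hPu.mul_right_cancel (Matrix.ext_of_mulVec_single fun s => ?_)
  rw [← mulVec_mulVec, ← mulVec_mulVec, ← mulVec_mulVec, ← mulVec_mulVec, hcol, neg_mulVec, one_mulVec]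
  fin_cases s
  · show refM G g *ᵥ (refM G g' *ᵥ (refM G g'' *ᵥ g)) = -g
    rw [refM_fix h02, refM_fix h01, refM_self hk.ne]
  · show refM G g *ᵥ (refM G g' *ᵥ (refM G g'' *ᵥ g')) = -g'
    rw [refM_fix h12, refM_self hk'.ne, mulVec_neg, refM_fix h10]
  · show refM G g *ᵥ (refM G g' *ᵥ (refM G g'' *ᵥ g'')) = -g''
    rw [refM_self hg''0, mulVec_neg, refM_fix h21, mulVec_neg, refM_fix h20]

/-- In dimension three a vector of `Kap` starts an orthogonal frame of such vectors. -/
theorem exists_triple (hP : Par G d) (hm : m = 3) {g : Fin m → F} (hk : Kap G d g) :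
    ∃ g' g'', Kap G d g' ∧ Kap G d g'' ∧ om G g g' = 0 ∧ om G g g'' = 0 ∧ om G g' g'' = 0 ∧
      refM G g * refM G g' * refM G g'' = -1 := by
  have hG := hP.form
  have hS1 : NonDeg G (Submodule.span F {g}) := by
    simpa using nonDeg_sup hG nonDeg_bot hk.ne (fun y hy => by rw [(Submodule.mem_bot F).1 hy, om_zero_right])
  obtain ⟨g', hk', hg'⟩ := exists_kap_perp hP hS1 (by rw [finrank_span_singleton hk.ne_zero]; omega)
  have h01 : om G g g' = 0 := by rw [hG.comm]; exact hg' g (Submodule.mem_span_singleton_self g)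
  obtain ⟨g'', h1, h2, h3, h4⟩ := exists_third hP hm hk hk' h01
  exact ⟨g', g'', hk', h1, h01, h2, h3, h4⟩

/-- Non-zero values of a square class scale to any other value of it. -/
theorem exists_scale (hP : Par G d) (hm : Odd m) {g : Fin m → F} (hk : Kap G d g) :
    ∃ s : F, s ≠ 0 ∧ om G (s • g) (s • g) = d := by
  obtain ⟨r, hr⟩ := hk.2.resolve_left (Nat.not_even_iff_odd.2 hm)
  have hr0 : r ≠ 0 := fun h0 => mul_ne_zero hk.ne hP.d_ne (by rw [hr, h0, zero_mul])
  refine ⟨d / r, div_ne_zero hP.d_ne hr0, ?_⟩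
  rw [om_smul_left, om_smul_right]
  field_simp
  linear_combination d * hr

/-- A vector of `Kap` not orthogonal to two given orthogonal ones. -/
theorem exists_kap_not_perp (hP : Par G d) {g g' : Fin m → F} (hk : Kap G d g) (hk' : Kap G d g')
    (hgg : om G g g' = 0) : ∃ h, Kap G d h ∧ om G h g ≠ 0 ∧ om G h g' ≠ 0 := by
  have hG := hP.form
  have hgg' : om G g' g = 0 := by rw [hG.comm, hgg]
  rcases eq_or_ne m 3 with hm | hm
  · subst hm
    have hodd : Odd 3 := by decide
    obtain ⟨g'', hk'', h02, h12, -⟩ := exists_third hP rfl hk hk' hgg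
    obtain ⟨s₀, hs₀, v₀⟩ := exists_scale hP hodd hk
    obtain ⟨s₁, hs₁, v₁⟩ := exists_scale hP hodd hk'
    obtain ⟨s₂, hs₂, v₂⟩ := exists_scale hP hodd hk''
    obtain ⟨w, hw, hw2⟩ : ∃ w : F, w ≠ 0 ∧ w * w + 2 ≠ 0 := by
      rcases eq_or_ne (3 : F) 0 with h3 | h3
      · obtain ⟨w, hw, hw1⟩ := exists_sq_ne (hP.five rfl)
        exact ⟨w, hw, fun h0 => hw1 (by linear_combination h0 - h3)⟩
      · exact ⟨1, one_ne_zero, fun h0 => h3 (by linear_combination h0)⟩
    have h2 := hG.two
    set γ := (2 / w - w) / 2 with hγ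
    set σ := (2 / w + w) / 2 with hσ
    have hσ0 : σ ≠ 0 := by
      rw [hσ]
      refine div_ne_zero (fun h0 => hw2 ?_) h2
      field_simp at h0
      linear_combination h0
    have h20 : om G g'' g = 0 := by rw [hG.comm, h02]
    have h21 : om G g'' g' = 0 := by rw [hG.comm, h12]
    refine ⟨s₀ • g + s₁ • g' + (γ * s₂) • g'', ⟨?_, Or.inr ⟨σ * d, ?_⟩⟩, ?_, ?_⟩
    rotate_left 2
    · simp only [om_add_left, om_smul_left, hgg', h20, mul_zero, add_zero]
      exact mul_ne_zero hs₀ hk.ne
    · simp only [om_add_left, om_smul_left, hgg, h21, mul_zero, add_zero, zero_add]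
      exact mul_ne_zero hs₁ hk'.ne
    all_goals
      simp only [om_smul_left, om_smul_right] at v₀ v₁ v₂
      have e : om G (s₀ • g + s₁ • g' + (γ * s₂) • g'') (s₀ • g + s₁ • g' + (γ * s₂) • g'') = σ * σ * d := by
        simp only [om_add_left, om_add_right, om_smul_left, om_smul_right, hgg, hgg', h02, h12, h20, h21, mul_zero,
          add_zero, zero_add]
        have hs : σ * σ = 2 + γ * γ := by rw [hσ, hγ]; field_simp; ring
        rw [hs]
        linear_combination v₀ + v₁ + γ * γ * v₂
      rw [e]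
    · exact mul_ne_zero (mul_ne_zero hσ0 hσ0) hP.d_ne
    · ring
  · have hS1 : NonDeg G (Submodule.span F {g}) := by
      simpa using nonDeg_sup hG nonDeg_bot hk.ne (fun y hy => by rw [(Submodule.mem_bot F).1 hy, om_zero_right])
    have hS2 : NonDeg G (Submodule.span F {g} ⊔ Submodule.span F {g'}) := nonDeg_sup hG hS1 hk'.ne fun y hy => by
      obtain ⟨k, rfl⟩ := Submodule.mem_span_singleton.1 hy
      rw [om_smul_right, hgg', mul_zero]
    obtain ⟨x, hx, -, hxv⟩ := exists_value hG (nonDeg_perp hG hS2) (by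
      have h1 := finrank_perp hG hS2
      have h2 := finrank_sup_le (Submodule.span F {g}) g'
      rw [finrank_span_singleton hk.ne_zero] at h2
      have := hP.three
      omega) (neg_ne_zero.2 hk'.ne)
    have hxg : om G x g = 0 := (mem_perp hG).1 hx g (Submodule.mem_sup_left (Submodule.mem_span_singleton_self g))
    have hxg' : om G x g' = 0 := (mem_perp hG).1 hx g' (Submodule.mem_sup_right (Submodule.mem_span_singleton_self g'))
    refine ⟨g + g' + x, ?_, ?_, ?_⟩
    · have e : om G (g + g' + x) (g + g' + x) = om G g g := by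
        simp only [om_add_left, om_add_right, hgg, hgg', hxg, hxg', hG.comm g x, hG.comm g' x, hxv]
        ring
      exact ⟨by rw [e]; exact hk.ne, by rw [e]; exact hk.2⟩
    · simp only [om_add_left, hgg', hxg, add_zero]
      exact hk.ne
    · simp only [om_add_left, hgg, hxg', add_zero, zero_add]
      exact hk'.ne

/-- In dimension four no similitude maps a plane to its orthogonal plane. -/
theorem plane_not_similar (hP : Par G d) (hm : m = 4) {e e' : Fin m → F} (he : om G e e ≠ 0)
    (he' : om G e' e' ≠ 0) (hee : om G e e' = 0) {A : GL (Fin m) F} (hA : IsSim G A)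
    (h1 : ∀ x ∈ ({e, e'} : Set (Fin m → F)), om G ((A : Matrix (Fin m) (Fin m) F) *ᵥ x) e = 0)
    (h2 : ∀ x ∈ ({e, e'} : Set (Fin m → F)), om G ((A : Matrix (Fin m) (Fin m) F) *ᵥ x) e' = 0) : False := by
  have hG := hP.form
  obtain ⟨k, hk, hA⟩ := hA
  set f := (A : Matrix (Fin m) (Fin m) F) *ᵥ e
  set f' := (A : Matrix (Fin m) (Fin m) F) *ᵥ e'
  have hff : om G f f = k * om G e e := hA e e
  have hff' : om G f' f' = k * om G e' e' := hA e' e'
  have hfg : om G f f' = 0 := by rw [hA, hee, mul_zero]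
  have fe : om G f e = 0 := h1 e (Set.mem_insert _ _)
  have fe' : om G f e' = 0 := h2 e (Set.mem_insert _ _)
  have ge : om G f' e = 0 := h1 e' (Set.mem_insert_of_mem _ rfl)
  have ge' : om G f' e' = 0 := h2 e' (Set.mem_insert_of_mem _ rfl)
  have hf0 : om G f f ≠ 0 := by rw [hff]; exact mul_ne_zero hk he
  have hf0' : om G f' f' ≠ 0 := by rw [hff']; exact mul_ne_zero hk he'
  have hS1 : NonDeg G (Submodule.span F {f}) := by
    simpa using nonDeg_sup hG nonDeg_bot hf0 (fun y hy => by rw [(Submodule.mem_bot F).1 hy, om_zero_right])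
  have hS2 : NonDeg G (Submodule.span F {f} ⊔ Submodule.span F {f'}) := nonDeg_sup hG hS1 hf0' fun y hy => by
    obtain ⟨l, rfl⟩ := Submodule.mem_span_singleton.1 hy
    rw [om_smul_right, hG.comm, hfg, mul_zero]
  have hlt : Submodule.span F {f} < Submodule.span F {f} ⊔ Submodule.span F {f'} :=
    left_lt_sup.2 fun hle => hf0' (by
      obtain ⟨l, hl⟩ := Submodule.mem_span_singleton.1 (hle (Submodule.mem_span_singleton_self f'))
      conv_lhs => arg 2; rw [← hl]
      rw [om_smul_left, hfg, mul_zero])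
  have h3 := Submodule.finrank_lt_finrank_of_lt hlt
  rw [finrank_span_singleton (fun h0 => hf0 (by rw [h0, om_zero_left]))] at h3
  obtain ⟨h, hh, -, hhv⟩ := exists_value hG hS2 (by omega) (neg_ne_zero.2 he)
  obtain ⟨p, hp, q, hq, rfl⟩ := Submodule.mem_sup.1 hh
  obtain ⟨α, rfl⟩ := Submodule.mem_span_singleton.1 hp
  obtain ⟨β, rfl⟩ := Submodule.mem_span_singleton.1 hq
  simp only [om_add_left, om_add_right, om_smul_left, om_smul_right, hfg, hG.comm f' f, hff, hff'] at hhv
  set x := e + (α • f + β • f')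
  set y := om G e e • e' + ((-(β * om G e' e')) • f + (α * om G e e) • f')
  have hxx : om G x x = 0 := by
    simp only [x, om_add_left, om_add_right, om_smul_left, om_smul_right, hfg, hG.comm f' f, hff, hff', fe, ge,
      hG.comm e f, hG.comm e f']
    linear_combination hhv
  have hyy : om G y y = 0 := by
    simp only [y, om_add_left, om_add_right, om_smul_left, om_smul_right, hfg, hG.comm f' f, hff, hff', fe', ge',
      hG.comm e' f, hG.comm e' f']
    linear_combination (om G e e * om G e' e') * hhv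
  have hxy : om G x y = 0 := by
    simp only [x, y, om_add_left, om_add_right, om_smul_left, om_smul_right, hfg, hG.comm f' f, hff, hff', fe, fe', ge,
      ge', hG.comm e f, hG.comm e f', hee]
    ring
  have hx0 : x ≠ 0 := fun h0 => he (by
    have := congrArg (fun v => om G v e) h0
    simpa [x, om_add_left, om_smul_left, om_zero_left, fe, ge] using this)
  obtain ⟨c, hc⟩ := hP.plane hm x y hx0 hxx hyy hxy
  have := congrArg (fun v => om G v e') hc
  simp only [x, y, om_add_left, om_smul_left, fe', ge', hee, mul_zero, add_zero] at this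
  exact mul_ne_zero he he' this.symm

end CfsgLib.TWOr
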