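import Cfsg.Agent.TensorWreathOrth.Classify
import Cfsg.Agent.TensorWreath.Preserve

/-!
# An element carrying a reflection into the wreath group lies in it
-/

set_option autoImplicit false
set_option linter.unusedSectionVars false

namespace CfsgLib.TWOr

open Matrix Module CfsgLib.MaxSub CfsgLib.TWreath
open CfsgLib.TWSp (om kr spG gsim IsIso om_smul_left om_smul_right emb_eq_kr emb_rest kr_mul)

variable {F : Type*} [Field F] [Finite F] {m : ℕ} {G : Matrix (Fin m) (Fin m) F} {d : F}
  {ι : Type} [Fintype ι] [DecidableEq ι] {M : Subgroup (GL (ι → Fin m) F)}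

theorem hasPerm_embG (i : ι) (g : GL (Fin m) F) : HasPerm (embG i g) 1 :=
  ⟨Function.update 1 i g, by rw [map_one, mul_one, embG_eq_PtG]⟩

/-- Orthogonal reflections commute. -/
theorem comm_refG_of_orth (hG : OForm G) {a b : Fin m → F} (ha : om G a a ≠ 0) (hb : om G b b ≠ 0)
    (hab : om G a b = 0) : Commute (refG G a) (refG G b) := by
  have h : refG G a * refG G b * (refG G a)⁻¹ = refG G b := by
    rw [conj_refG (refG_mem hG ha) hb, refG_val ha, refM_fix (by rw [hG.comm]; exact hab)]
  exact mul_inv_eq_iff_eq_mul.1 h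

/-- Commuting reflections are equal or orthogonal. -/
theorem orth_or_eq_of_comm (hG : OForm G) {a b : Fin m → F} (ha : om G a a ≠ 0) (hb : om G b b ≠ 0)
    (h : Commute (refG G a) (refG G b)) : om G a b = 0 ∨ refG G a = refG G b := by
  rcases eq_or_ne (om G a b) 0 with h0 | h0
  · exact Or.inl h0
  refine Or.inr ?_
  have h1 := conj_refG (refG_mem hG ha) hb
  rw [h.eq, mul_inv_cancel_right] at h1
  have hb' : om G ((refG G a : Matrix (Fin m) (Fin m) F) *ᵥ b) ((refG G a : Matrix (Fin m) (Fin m) F) *ᵥ b) ≠ 0 := by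
    rwa [TWSp.om_of_mem_spG (refG_mem hG ha)]
  obtain ⟨k, -, hk⟩ := exists_smul_of_refG_eq hG hb hb' h1
  rw [refG_val ha, refM_mulVec, hG.comm b a] at hk
  have hc : 2 / om G a a * om G a b ≠ 0 := mul_ne_zero (div_ne_zero hG.two ha) h0
  set c := 2 / om G a a * om G a b
  have e : a = ((1 - k) / c) • b := by
    refine smul_right_injective _ hc ?_
    show c • a = c • _
    rw [smul_smul, mul_div_cancel₀ _ hc]
    linear_combination (norm := module) -hk
  have hs : (1 - k) / c ≠ 0 := fun h0 => ha (by rw [e, h0, zero_smul, om_zero_left])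
  exact Units.ext (by rw [refG_val ha, refG_val hb, e, refM_smul _ hs])

/-- Some reflection does not commute with a given one. -/
theorem exists_kap_noncomm (hP : Par G d) {g : Fin m → F} (hg : om G g g ≠ 0) :
    ∃ h, Kap G d h ∧ ¬ Commute (refG G g) (refG G h) := by
  by_contra! hc
  obtain ⟨k, hk⟩ := scalar_of_comm_refM hP (X := refM G g) fun e he => by
    have h1 := congrArg Units.val (hc e he).eq
    rwa [Units.val_mul, Units.val_mul, refG_val hg, refG_val he.ne] at h1
  exact refG_ne_scalar hP hg k (by rw [refG_val hg, hk])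

/-- Reflections of different factors commute, those of one factor as in the factor. -/
theorem factor_eq_of_noncomm {i j : ι} {a b : GL (Fin m) F} (h : ¬ Commute (embG i a) (embG j b)) : i = j := by
  by_contra hne
  exact h (embG_comm hne a b)

/-- No reflection commutes with an element moving its factor. -/
theorem not_comm_of_moved (hP : Par G d) {w : GL (ι → Fin m) F} {σ : Equiv.Perm ι} (hσ : HasPerm w σ) {c : ι}
    (hc : σ c ≠ c) {r : Fin m → F} (hr : om G r r ≠ 0) (h : Commute w (embG c (refG G r))) : False := by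
  have : NeZero m := ⟨by have := hP.three; omega⟩
  obtain ⟨hh, hconj⟩ := hσ.conj_emb
  have h1 : w * embG c (refG G r) = embG (σ c) (hh c * refG G r * (hh c)⁻¹) * w := Units.ext (by
    rw [Units.val_mul, Units.val_mul, embG_val, embG_val, Units.val_mul, Units.val_mul, hconj])
  rw [h.eq, mul_left_inj] at h1
  obtain ⟨k, hk⟩ := scalar_of_embG_eq (Ne.symm hc) h1
  exact refG_ne_scalar hP hr k hk

/-- A vector of `Kap`. -/
theorem Par.exists_kap_vec (hP : Par G d) : ∃ g, Kap G d g := by
  obtain ⟨g, hg, -⟩ := exists_kap_perp hP (nonDeg_bot (G := G)) (by rw [finrank_bot]; have := hP.three; omega)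
  exact ⟨g, hg⟩

/-- If all reflections of a factor go into the wreath group, they go to reflections. -/
theorem refl_of_all [Nontrivial ι] (hP : Par G d) {y : GL (ι → Fin m) F} (hy : y ∈ gsim ι G) (l : ι)
    (h : ∀ g, Kap G d g → y * embG l (refG G g) * y⁻¹ ∈ wreath ι m F) {g : Fin m → F} (hg : Kap G d g) :
    ∃ j g', om G g' g' ≠ 0 ∧ y * embG l (refG G g) * y⁻¹ = embG j (refG G g') := by
  have hG := hP.form
  have hm2 : 2 ≤ m := by have := hP.three; omega
  have : NeZero m := ⟨by omega⟩
  rcases classify hP hy hg.ne (h g hg) rfl with h1 | ⟨hm, hflip⟩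
  · exact h1
  exfalso
  obtain ⟨g', g'', hk', hk'', h01, h02, h12, hprod⟩ := exists_triple hP hm hg
  set N := embG l (refG G g * refG G g' * refG G g'') with hNdef
  have hN : (N : Matrix (ι → Fin m) (ι → Fin m) F) = -1 := by
    rw [embG_val, Units.val_mul, Units.val_mul, refG_val hg.ne, refG_val hk'.ne, refG_val hk''.ne, hprod,
      ← neg_one_smul F (1 : Matrix (Fin m) (Fin m) F), emb_smul, emb_one, neg_one_smul]
  set w₁ := y * embG l (refG G g) * y⁻¹
  set w₂ := y * embG l (refG G g') * y⁻¹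
  set w₃ := y * embG l (refG G g'') * y⁻¹
  have hcm : ∀ {a b : Fin m → F}, Kap G d a → Kap G d b → om G a b = 0 →
      Commute (y * embG l (refG G a) * y⁻¹) (y * embG l (refG G b) * y⁻¹) := fun ha hb hab =>
    (Commute.conj_iff y).2 ((comm_refG_of_orth hG ha.ne hb.ne hab).map (embG l))
  have h123 : w₁ * w₂ * w₃ = N := by
    have e : w₁ * w₂ * w₃ = y * N * y⁻¹ := by
      simp only [w₁, w₂, w₃, hNdef, map_mul]; group
    refine Units.ext ?_
    rw [e, Units.val_mul, Units.val_mul, hN, mul_neg, mul_one, neg_mul, Units.mul_inv]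
  obtain ⟨a, b, hab, hσ, hfix⟩ := hflip
  have key : ∀ (F' R : GL (ι → Fin m) F) (c : ι) (r : Fin m → F), IsFlip F' → om G r r ≠ 0 →
      R = embG c (refG G r) → Commute w₁ R → w₁ * F' * R = N → False := by
    intro F' R c r ⟨a', b', hab', hσ', hfix'⟩ hr hR hc1 hN'
    subst hR
    by_cases hcab : Equiv.swap a b c = c
    swap
    · exact not_comm_of_moved hP hσ hcab hr hc1
    have hsw : Equiv.swap a b * Equiv.swap a' b' = 1 := by
      have h1 := (hσ.mul hσ').mul (hasPerm_embG c (refG G r))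
      rw [hN', mul_one] at h1
      exact h1.unique hm2 (hasPerm_embG l _)
    have hsw' : Equiv.swap a' b' = Equiv.swap a b := by
      rw [eq_inv_of_mul_eq_one_right hsw, Equiv.swap_inv]
    have hne : ∀ {p q : ι}, p ≠ q → Equiv.swap p q c = c → c ≠ p ∧ c ≠ q := fun {p q} hpq he =>
      ⟨fun e => hpq (by subst e; rw [Equiv.swap_apply_left] at he; exact he.symm),
        fun e => hpq (by subst e; rw [Equiv.swap_apply_right] at he; exact he)⟩
    obtain ⟨hca, hcb⟩ := hne hab hcab
    obtain ⟨hca', hcb'⟩ := hne hab' (by rw [hsw']; exact hcab)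
    obtain ⟨k, hk⟩ := scalar_of_comm_refM hP (X := refM G r) fun e he => by
      have c1 : Commute (emb c (refM G e)) (w₁ : Matrix (ι → Fin m) (ι → Fin m) F) := (hfix c hca hcb _).symm
      have c2 : Commute (emb c (refM G e)) (F' : Matrix (ι → Fin m) (ι → Fin m) F) := (hfix' c hca' hcb' _).symm
      have e1 : embG c (refG G r) = F'⁻¹ * w₁⁻¹ * N := by rw [← hN']; group
      have c3 : Commute (emb c (refM G e)) (emb c (refM G r)) := by
        rw [← refG_val hr, ← embG_val, e1, Units.val_mul, Units.val_mul, hN]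
        exact (c2.units_inv_right.mul_right c1.units_inv_right).mul_right (Commute.one_right _).neg_right
      exact emb_injective c (by rw [emb_mul, emb_mul]; exact c3.eq.symm)
    exact refG_ne_scalar hP hr k (by rw [refG_val hr, hk])
  rcases classify hP hy hk'.ne (h g' hk') rfl with ⟨c, r, hr, hR⟩ | ⟨-, hF2⟩ <;>
    rcases classify hP hy hk''.ne (h g'' hk'') rfl with ⟨c', r', hr', hR'⟩ | ⟨-, hF3⟩
  · have hp₂ : HasPerm w₂ 1 := by rw [show w₂ = _ from hR]; exact hasPerm_embG _ _
    have hp₃ : HasPerm w₃ 1 := by rw [show w₃ = _ from hR']; exact hasPerm_embG _ _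
    have h1 := (hσ.mul hp₂).mul hp₃
    rw [h123, mul_one, mul_one] at h1
    exact hab (Equiv.swap_eq_one_iff.1 (h1.unique hm2 (hasPerm_embG l _)))
  · refine key w₃ w₂ c r hF3 hr hR (hcm hg hk' h01) ?_
    rw [mul_assoc, ← (hcm hk' hk'' h12).eq, ← mul_assoc, h123]
  · exact key w₂ w₃ c' r' hF2 hr' hR' (hcm hg hk'' h02) h123
  · obtain ⟨a₂, b₂, hab₂, hσ₂, -⟩ := hF2
    obtain ⟨a₃, b₃, hab₃, hσ₃, -⟩ := hF3
    have h1 := (hσ.mul hσ₂).mul hσ₃
    rw [h123] at h1
    have h2 := congrArg Equiv.Perm.sign (h1.unique hm2 (hasPerm_embG l _))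
    simp [Equiv.Perm.sign_swap hab, Equiv.Perm.sign_swap hab₂, Equiv.Perm.sign_swap hab₃] at h2

/-- All reflections go to reflections. -/
def AllRefl (G : Matrix (Fin m) (Fin m) F) (d : F) (y : GL (ι → Fin m) F) : Prop :=
  ∀ (l : ι) (g : Fin m → F), Kap G d g →
    ∃ j g', om G g' g' ≠ 0 ∧ y * embG l (refG G g) * y⁻¹ = embG j (refG G g')

theorem comm_of_conj {y : GL (ι → Fin m) F} {a b a' b' : GL (ι → Fin m) F} (ha : y * a * y⁻¹ = a')
    (hb : y * b * y⁻¹ = b') (h : Commute a' b') : Commute a b := by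
  rw [← ha, ← hb] at h
  exact (Commute.conj_iff y).1 h

/-- The image factor does not depend on the vector. -/
theorem AllRefl.factor_unique (hP : Par G d) {y : GL (ι → Fin m) F} (hy : AllRefl G d y) (l : ι) :
    ∃ j, ∀ g, om G g g ≠ 0 → ∀ j' g', y * embG l (refG G g) * y⁻¹ = embG j' (refG G g') → j' = j := by
  have hG := hP.form
  have : NeZero m := ⟨by have := hP.three; omega⟩
  have step : ∀ g h j₁ g₁ j₂ h₁, ¬ Commute (refG G g) (refG G h) →
      y * embG l (refG G g) * y⁻¹ = embG j₁ (refG G g₁) → y * embG l (refG G h) * y⁻¹ = embG j₂ (refG G h₁) →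
      j₁ = j₂ := fun g h j₁ g₁ j₂ h₁ hn e1 e2 =>
    factor_eq_of_noncomm fun hc => hn (by
      have h1 := comm_of_conj e1 e2 hc
      exact embG_injective l (by rw [map_mul, map_mul]; exact h1.eq))
  obtain ⟨g₀, hg₀⟩ := hP.exists_kap_vec
  obtain ⟨j₀, g₁, -, hj₀⟩ := hy l g₀ hg₀
  have hkap : ∀ g, Kap G d g → ∀ j' g', y * embG l (refG G g) * y⁻¹ = embG j' (refG G g') → j' = j₀ := by
    intro g hg j' g' e
    by_cases hc : Commute (refG G g) (refG G g₀)
    swap
    · exact step g g₀ j' g' j₀ g₁ hc e hj₀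
    rcases orth_or_eq_of_comm hG hg.ne hg₀.ne hc with h0 | h0
    · obtain ⟨h, hh, h1, h2⟩ := exists_kap_not_perp hP hg hg₀ h0
      obtain ⟨j₂, h', -, e2⟩ := hy l h hh
      have n1 : ¬ Commute (refG G g) (refG G h) := fun hc' => by
        rcases orth_or_eq_of_comm hG hg.ne hh.ne hc' with h3 | h3
        · exact h1 (by rw [hG.comm]; exact h3)
        · obtain ⟨k, -, hk⟩ := exists_smul_of_refG_eq hG hg.ne hh.ne h3
          exact h2 (by rw [hk, om_smul_left, h0, mul_zero])
      have n2 : ¬ Commute (refG G g₀) (refG G h) := fun hc' => by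
        rcases orth_or_eq_of_comm hG hg₀.ne hh.ne hc' with h3 | h3
        · exact h2 (by rw [hG.comm]; exact h3)
        · obtain ⟨k, -, hk⟩ := exists_smul_of_refG_eq hG hg₀.ne hh.ne h3
          exact h1 (by rw [hk, om_smul_left, hG.comm g₀ g, h0, mul_zero])
      exact (step g h j' g' j₂ h' n1 e e2).trans (step g₀ h j₀ g₁ j₂ h' n2 hj₀ e2).symm
    · rw [h0, hj₀] at e
      by_contra hne
      obtain ⟨h, hh, hn⟩ := exists_kap_noncomm hP hg₀.ne
      obtain ⟨j₂, h', -, e2⟩ := hy l h hh
      exact hne ((step g₀ h j' g' j₂ h' hn (hj₀.trans e) e2).trans (step g₀ h j₀ g₁ j₂ h' hn hj₀ e2).symm)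
  refine ⟨j₀, fun g hg j' g' e => ?_⟩
  obtain ⟨h, hh, hn⟩ := exists_kap_noncomm hP hg
  obtain ⟨j₂, h', -, e2⟩ := hy l h hh
  exact (step g h j' g' j₂ h' hn e e2).trans (hkap h hh j₂ h' e2)

/-- An element carrying all reflections to reflections in both directions lies in the wreath group. -/
theorem mem_of_allRefl [Nontrivial ι] (hP : Par G d) {y : GL (ι → Fin m) F} (hy : AllRefl G d y)
    (hy' : AllRefl G d y⁻¹) : y ∈ wreath ι m F := by
  have hm := hP.three
  have : NeZero m := ⟨by omega⟩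
  choose j hj using hy.factor_unique hP
  refine mem_wreath_of_map_block (by omega) fun i c hc => ?_
  set χ : Fin m → F := Pi.single 0 1
  have hχ : χ ≠ 0 := by simp [χ]
  set Y := (y : Matrix (ι → Fin m) (ι → Fin m) F) with hY
  set Y' := ((y⁻¹ : GL (ι → Fin m) F) : Matrix (ι → Fin m) (ι → Fin m) F) with hY'
  set P := Y * emb i (vecMulVec c χ) * Y'
  have hyy : Y' * Y = 1 := Units.inv_mul y
  have hyy' : Y * Y' = 1 := Units.mul_inv y
  have hcomm : ∀ l, l ≠ j i → ∀ h, Kap G d h → P * emb l (refM G h) = emb l (refM G h) * P := by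
    intro l hl h hh
    obtain ⟨l', h', hh', e⟩ := hy' l h hh
    have hl' : l' ≠ i := fun e' => hl (by
      subst e'
      exact hj l' h' hh' l h (by rw [← e]; group))
    have e2 : Y * emb l' (refM G h') * Y' = emb l (refM G h) := by
      rw [← refG_val hh', ← embG_val, ← refG_val hh.ne, ← embG_val, hY, hY', ← Units.val_mul, ← Units.val_mul, ← e]
      group
    rw [← e2]
    simp only [P, mul_assoc]
    rw [← mul_assoc Y' Y, hyy, one_mul, ← mul_assoc Y' Y, hyy, one_mul, ← mul_assoc (emb i _), emb_comm (Ne.symm hl'),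
      mul_assoc]
  obtain ⟨A, hA⟩ := exists_emb_of_comm (j i) (C := P) fun l hl X => by
    obtain ⟨K, hK⟩ := exists_kr_of_comm_refl hP l (hcomm l hl)
    rw [hK, emb_eq_kr l X, kr_mul, kr_mul, Matrix.one_mul, Matrix.mul_one, Matrix.mul_one, Matrix.one_mul]
  have hmap : (block i c).map (Matrix.mulVecLin Y) = LinearMap.range (emb (j i) A).mulVecLin := by
    rw [block_eq_range hχ, ← LinearMap.range_comp, ← Matrix.mulVecLin_mul, ← hA,
      show Y * emb i (vecMulVec c χ) = P * Y by simp only [P, mul_assoc]; rw [hyy, mul_one],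
      Matrix.mulVecLin_mul, LinearMap.range_comp_of_range_eq_top]
    exact LinearMap.range_eq_top.mpr (mulVec_surjective_iff_isUnit.mpr y.isUnit)
  have hinj : Function.Injective (Matrix.mulVecLin Y) := mulVec_injective_iff_isUnit.mpr y.isUnit
  have hfr : finrank F (LinearMap.range (emb (j i) A).mulVecLin) = bdim ι m := by
    rw [← hmap, ← (Submodule.equivMapOfInjective _ hinj _).finrank_eq, finrank_block hc]
  obtain ⟨v, hv⟩ : ∃ v, A *ᵥ v ≠ 0 := by
    by_contra! h0
    have : A = 0 := Matrix.ext_of_mulVec_single fun q => by rw [h0, zero_mulVec]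
    rw [this, emb_zero, Matrix.mulVecLin_zero, LinearMap.range_zero, finrank_bot] at hfr
    exact (pow_pos (by omega : 0 < m) _).ne hfr
  refine ⟨j i, A *ᵥ v, hv, hmap.trans (Submodule.eq_of_le_of_finrank_le (fun x hx => ?_)
    (by rw [hfr, finrank_block hv])).symm⟩
  obtain ⟨w, rfl⟩ := exists_lift_of_mem_block hv hx
  exact ⟨lift (j i) v w, by rw [mulVecLin_apply, emb_mulVec_lift]⟩

namespace Core

variable (hC : Core G d M) [Nontrivial ι]
include hC

theorem conj_refl_mem {y : GL (ι → Fin m) F} (hy : y ∈ M) (l : ι) {g : Fin m → F} (hg : Kap G d g) :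
    y * embG l (refG G g) * y⁻¹ ∈ M :=
  M.mul_mem (M.mul_mem hy (hC.set.refl l g hg)) (M.inv_mem hy)

/-- One reflection going to a reflection makes all do so. -/
theorem allRefl_of {y : GL (ι → Fin m) F} (hy : y ∈ M) {i j : ι} {e e' : Fin m → F}
    (he' : om G e' e' ≠ 0) (h : y * embG i (refG G e) * y⁻¹ = embG j (refG G e')) : AllRefl G d y := by
  have hP := hC.set.par
  have hyg := hC.set.sim hy
  have hoff : ∀ l, l ≠ i → ∀ g, Kap G d g →
      ∃ j g', om G g' g' ≠ 0 ∧ y * embG l (refG G g) * y⁻¹ = embG j (refG G g') := fun l hl g hg =>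
    refl_of_all hP hyg l (fun g' hg' => hC.mem_of_comm_refG he' (hC.conj_refl_mem hy l hg') (by
      rw [← h]; exact ((Commute.conj_iff y).2 (embG_comm hl _ _)).eq)) hg
  intro l g hg
  by_cases hl : l = i
  swap
  · exact hoff l hl g hg
  subst hl
  obtain ⟨l', hl'⟩ := exists_ne l
  obtain ⟨g₀, hg₀⟩ := hP.exists_kap_vec
  obtain ⟨j', g₀', hg₀', h₀⟩ := hoff l' hl' g₀ hg₀
  exact refl_of_all hP hyg l (fun g' hg' => hC.mem_of_comm_refG hg₀' (hC.conj_refl_mem hy l hg') (by
    rw [← h₀]; exact ((Commute.conj_iff y).2 (embG_comm hl'.symm _ _)).eq)) hg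

/-- An element carrying a reflection to a reflection lies in the wreath group. -/
theorem mem_of_refl_to_refl {y : GL (ι → Fin m) F} (hy : y ∈ M) {i j : ι} {e e' : Fin m → F}
    (he : om G e e ≠ 0) (he' : om G e' e' ≠ 0) (h : y * embG i (refG G e) * y⁻¹ = embG j (refG G e')) :
    y ∈ wreath ι m F :=
  mem_of_allRefl hC.set.par (hC.allRefl_of hy he' h)
    (hC.allRefl_of (M.inv_mem hy) (i := j) (j := i) (e := e') he (by rw [← h]; group))

/-- No element carries a reflection to a flip. -/
theorem not_flip {y : GL (ι → Fin m) F} (hy : y ∈ M) {i : ι} {e : Fin m → F} (he : om G e e ≠ 0)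
    (heM : embG i (refG G e) ∈ M) {w : GL (ι → Fin m) F} (h : y * embG i (refG G e) * y⁻¹ = w)
    (hw : IsFlip w) : False := by
  classical
  have hP := hC.set.par
  have hG := hP.form
  have hm2 : 2 ≤ m := by have := hP.three; omega
  have : NeZero m := ⟨by omega⟩
  obtain ⟨a, b, hab, hσ, hfix⟩ := hw
  set D := embG i (refG G e) with hD
  have hyi := M.inv_mem hy
  have contra : y ∈ wreath ι m F → False := by
    rintro ⟨τ, hτ⟩
    have h1 := (hτ.mul (hasPerm_embG i (refG G e))).mul hτ.inv
    rw [← hD, h, mul_one, mul_inv_cancel] at h1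
    exact hab (Equiv.swap_eq_one_iff.1 (hσ.unique hm2 h1))
  have fin : ∀ l, (∀ g, Kap G d g → y⁻¹ * embG l (refG G g) * y ∈ wreath ι m F) → False := by
    intro l hl
    obtain ⟨g₀, hg₀⟩ := hP.exists_kap_vec
    obtain ⟨j, g', hg', e1⟩ := refl_of_all hP (hC.set.sim hyi) l
      (fun g hg => by rw [inv_inv]; exact hl g hg) hg₀
    exact contra (by simpa using (wreath ι m F).inv_mem (hC.mem_of_refl_to_refl hyi hg₀.ne hg' e1))
  by_cases h3 : ∃ c, c ≠ a ∧ c ≠ b
  · obtain ⟨c, hca, hcb⟩ := h3
    refine fin c fun g hg => hC.mem_of_comm_refG (i := i) he ?_ ?_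
    · simpa using hC.conj_refl_mem hyi c hg
    · have h1 : Commute w (embG c (refG G g)) := Units.ext (by
        rw [Units.val_mul, Units.val_mul, embG_val]; exact hfix c hca hcb _)
      rw [← h] at h1
      exact (show Commute (y⁻¹ * embG c (refG G g) * y) D from (Commute.conj_iff y).1 (by
        simpa [mul_assoc] using h1.symm)).eq
  · push Not at h3
    refine fin a fun g hg => ?_
    set dg := embG a (refG G g) with hdg
    set d0 := y⁻¹ * dg * y with hd0
    have hd0M : d0 ∈ M := M.mul_mem (M.mul_mem hyi (hC.set.refl a g hg)) hy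
    have hdg2 : dg⁻¹ = dg := inv_eq_of_mul_eq_one_right (by rw [hdg, ← map_mul, refG_sq hg.ne, map_one])
    have hd0i : d0⁻¹ = d0 := by
      rw [hd0, _root_.mul_inv_rev, _root_.mul_inv_rev, hdg2, inv_inv, mul_assoc]
    have hw2 : w * w = 1 := by
      rw [← h, show y * D * y⁻¹ * (y * D * y⁻¹) = y * (D * D) * y⁻¹ by group, hD, ← map_mul, refG_sq he, map_one,
        mul_one, mul_inv_cancel]
    obtain ⟨hh, hconj⟩ := hσ.conj_emb
    set d' := embG b (hh a * refG G g * (hh a)⁻¹)
    have hwd : w * dg = d' * w := Units.ext (by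
      rw [Units.val_mul, Units.val_mul, embG_val, embG_val, Units.val_mul, Units.val_mul, hconj,
        Equiv.swap_apply_left])
    have hcd : Commute dg d' := embG_comm hab _ _
    have hH : Commute (dg * w * dg) w := by
      have e1 : dg * w * dg * w = dg * d' := by rw [mul_assoc dg w, hwd, mul_assoc, mul_assoc, hw2, mul_one]
      have e2 : w * (dg * w * dg) = d' * dg := by
        rw [← mul_assoc, ← mul_assoc, hwd, mul_assoc d' w w, hw2, mul_one]
      exact e1.trans (hcd.eq.trans e2.symm)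
    have hd2 : Commute (d0 * D * d0⁻¹) D := by
      refine (Commute.conj_iff y).1 ?_
      rw [h, hd0i, show y * (d0 * D * d0) * y⁻¹ = dg * w * dg by rw [← h, hd0]; group]
      exact hH
    have hW := hC.mem_of_comm_refG (i := i) he (M.mul_mem (M.mul_mem hd0M heM) (M.inv_mem hd0M)) hd2.eq
    rcases classify hP (hC.set.sim hd0M) he hW rfl with ⟨j, g', hg', e1⟩ | ⟨-, a', b', hab', hσ', -⟩
    · exact hC.mem_of_refl_to_refl hd0M he hg' e1
    · exfalso
      refine not_comm_of_moved hP hσ' (c := i) ?_ he hd2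
      intro hfix'
      have hia : i ≠ a' := fun e0 => hab' (by subst e0; rw [Equiv.swap_apply_left] at hfix'; exact hfix'.symm)
      have hib : i ≠ b' := fun e0 => hab' (by subst e0; rw [Equiv.swap_apply_right] at hfix'; exact hfix')
      have hall : ∀ x, x = a ∨ x = b := fun x => or_iff_not_imp_left.2 (h3 x)
      rcases hall i with r | r <;> rcases hall a' with s | s <;> rcases hall b' with u | u <;> simp_all

/-- An element carrying a reflection into the wreath group lies in it. -/
theorem mem_of_conj_refl {y : GL (ι → Fin m) F} (hy : y ∈ M) {i : ι} {e : Fin m → F} (he : Kap G d e)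
    (h : y * embG i (refG G e) * y⁻¹ ∈ wreath ι m F) : y ∈ wreath ι m F := by
  rcases classify hC.set.par (hC.set.sim hy) he.ne h rfl with ⟨j, g, hg, e1⟩ | ⟨-, hf⟩
  · exact hC.mem_of_refl_to_refl hy he.ne hg e1
  · exact (hC.not_flip hy he.ne (hC.set.refl i e he) rfl hf).elim

end Core

end CfsgLib.TWOr
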