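import Cfsg.Agent.TensorWreathOrth.OmegaFactor
import Cfsg.Agent.TensorOrth.Transport
import Cfsg.Agent.AschbacherQuad.Basic

/-!
# Maximality of orthogonal tensor wreath stabilisers in `Ω`, given the dichotomy
-/

set_option autoImplicit false
set_option linter.unusedSectionVars false

namespace CfsgLib.TWOr

open Matrix Module CfsgLib.MaxSub CfsgLib.TWreath Cfsg.Geo
open CfsgLib.TWSp (om kr gram proj cen wedge spG gsim IsIso om_add_left om_add_right om_smul_left om_smul_right
  axis_dot cen_mulVec form_lift sum_gram_eq wCoordIso wCoordIso_mulVec wCoord_surj map_wreath_eq)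
open CfsgLib.OrthMax (Isom eich_mem_omega)
open CfsgLib.Forms (eich eich_mulVec eichIso mat_eichIso eich_mul)

variable {F : Type*} [Field F] {m t : ℕ} {G : Matrix (Fin m) (Fin m) F} {d : F}

/-- A subgroup with the negatives of its elements. -/
def pmSub {n : Type*} [Fintype n] [DecidableEq n] (H : Subgroup (GL n F)) : Subgroup (GL n F) where
  carrier := {x | x ∈ H ∨ -x ∈ H}
  one_mem' := Or.inl H.one_mem
  mul_mem' := by
    rintro x y (hx | hx) (hy | hy)
    · exact Or.inl (H.mul_mem hx hy)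
    · exact Or.inr (by rw [← mul_neg]; exact H.mul_mem hx hy)
    · exact Or.inr (by rw [← neg_mul]; exact H.mul_mem hx hy)
    · exact Or.inl (by rw [← neg_mul_neg]; exact H.mul_mem hx hy)
  inv_mem' := by
    rintro x (hx | hx)
    · exact Or.inl (H.inv_mem hx)
    · refine Or.inr ?_
      rw [← show (-x)⁻¹ = -x⁻¹ from inv_eq_of_mul_eq_one_right (by rw [neg_mul_neg, mul_inv_cancel])]
      exact H.inv_mem hx

theorem sq_mem_of_pmSub {n : Type*} [Fintype n] [DecidableEq n] {H : Subgroup (GL n F)} {x : GL n F}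
    (hx : x ∈ pmSub H) : x * x ∈ H := by
  rcases hx with hx | hx
  · exact H.mul_mem hx hx
  · rw [← neg_mul_neg]; exact H.mul_mem hx hx

variable [Fintype F] {Q : QuadraticForm F ((Fin t → Fin m) → F)} {c₀ : F}

/-- The dichotomy between the wreath group and a seed. -/
def Dichotomy (G : Matrix (Fin m) (Fin m) F) (d : F) (t : ℕ) : Prop :=
  ∀ M : Subgroup (GL (Fin t → Fin m) F), Setting G d M → M ≤ wreath (Fin t) m F ∨ Seed G d M

namespace OQ

variable (hO : OQ G Q c₀)
include hO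

/-- An element of `Ω` outside the wreath group. -/
theorem exists_omega_notMem (hP : Par G d) (ht : 2 ≤ t) :
    ∃ g ∈ Cfsg.Omega F ⇑Q, (g : GL (Fin t → Fin m) F) ∉ wreath (Fin t) m F := by
  classical
  have : Nontrivial (Fin t) := Fin.nontrivial_iff_two_le.mpr ht
  have : NeZero m := ⟨by have := hP.three; omega⟩
  have hG := hO.form
  obtain ⟨c, δ, h⟩ := exists_hyp hP
  obtain ⟨z, hz, hzz⟩ := h.exists_mid_aniso hP
  obtain ⟨zc, zd, cz, dz⟩ := h.om_mid hG hz
  obtain ⟨l', l, hll⟩ := exists_pair_ne (Fin t)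
  have hδ0 : δ ≠ 0 := (h.swap hG).c_ne
  have hz0 : z ≠ 0 := fun e => hzz (by rw [e, om_zero_left])
  set A := pten fun _ : Fin t => c
  set xs : Fin t → Fin m → F := Function.update (fun _ => z) l c
  set B := pten xs
  have hA : Q A = 0 := by
    rw [hO.quad_eq, form_pten, Finset.prod_eq_zero (Finset.mem_univ l) h.c_iso, mul_zero, zero_div]
  have hB : Q B = 0 := by
    rw [hO.quad_eq, form_pten, Finset.prod_eq_zero (Finset.mem_univ l) (by
      simp only [xs, Function.update_self, h.c_iso]), mul_zero, zero_div]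
  have hAB : QuadraticMap.polar (⇑Q) A B = 0 := by
    rw [hO.polar, form_pten, Finset.prod_eq_zero (Finset.mem_univ l') (by
      simp only [xs, Function.update_of_ne hll, cz]), mul_zero]
  have hn : 5 ≤ Fintype.card (Fin t → Fin m) := by
    rw [Fintype.card_fun, Fintype.card_fin, Fintype.card_fin]
    calc 5 ≤ 3 ^ 2 := by norm_num
      _ ≤ m ^ 2 := Nat.pow_le_pow_left hP.three 2
      _ ≤ m ^ t := Nat.pow_le_pow_right (by have := hP.three; omega) ht
  refine ⟨eichIso Q A B hA hAB, eich_mem_omega hO.nondeg hn hA hAB, ?_⟩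
  rintro ⟨σ, hσ⟩
  obtain ⟨zs, -, hzs⟩ := hσ.map_pure ⟨fun _ => δ, fun _ => hδ0, rfl⟩
  have hAd : QuadraticMap.polar (⇑Q) A (pten fun _ : Fin t => δ) = c₀ := by
    rw [hO.polar, form_pten, Finset.prod_eq_one fun k _ => h.cd hG, mul_one]
  have hBd : QuadraticMap.polar (⇑Q) B (pten fun _ : Fin t => δ) = 0 := by
    rw [hO.polar, form_pten, Finset.prod_eq_zero (Finset.mem_univ l') (by
      simp only [xs, Function.update_of_ne hll, zd]), mul_zero]
  change eich Q A B *ᵥ (pten fun _ : Fin t => δ) = pten zs at hzs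
  rw [eich_mulVec, hAd, hBd, hB, zero_smul, zero_mul, zero_smul, sub_zero, sub_zero,
    show c₀ • B = pten (Function.update xs l (c₀ • c)) by
      rw [pten_update_smul]; congr 1; simp [xs, B]] at hzs
  have hne : ∀ k, Function.update xs l (c₀ • c) k ≠ 0 := fun k => by
    rcases eq_or_ne k l with rfl | hk
    · rw [Function.update_self]; exact smul_ne_zero hO.ne h.c_ne
    · simp only [xs, Function.update_of_ne hk]; exact hz0
  obtain ⟨k, hk⟩ := prop_of_pure_add (fun _ => hδ0) hne hzs hll fun k hk => by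
    simp only [xs, Function.update_of_ne hll] at hk
    exact hzz (by rw [show om G z z = om G (k • δ) z by rw [hk], om_smul_left, dz, mul_zero])
  rw [Function.update_self] at hk
  have h1 := congrArg (fun x => om G x δ) hk
  simp only [om_smul_left, h.d_iso, h.cd hG, mul_zero, mul_one] at h1
  exact hO.ne h1.symm

/-- An overgroup inside `Ω` of the stabiliser. -/
theorem omega_le_of_overgroup (hP : Par G d) (ht : 2 ≤ t) (hgap : Even m → 3 ≤ t ∨ IsSquare G.det)
    (hdich : Dichotomy G d t) {M : Subgroup (Isom Q)}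
    (hM : ∀ g ∈ Cfsg.Omega F ⇑Q, (g : GL (Fin t → Fin m) F) ∈ wreath (Fin t) m F → g ∈ M)
    {g : Isom Q} (hgM : g ∈ M) (hgW : (g : GL (Fin t → Fin m) F) ∉ wreath (Fin t) m F) :
    Cfsg.Omega F ⇑Q ≤ M := by
  classical
  have : NeZero m := ⟨by have := hP.three; omega⟩
  have hG := hO.form
  set H := M.map (Cfsg.isometryGroup F ⇑Q).subtype
  set M₁ := pmSub H
  have hle : ∀ x ∈ omegaGL ⇑Q, x ∈ wreath (Fin t) m F → x ∈ H := by
    rintro _ ⟨k, hk, rfl⟩ hW
    exact Subgroup.mem_map_of_mem _ (hM k hk hW)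
  have hsim : M₁ ≤ gsim (Fin t) G := by
    rintro x (⟨k, -, hk⟩ | ⟨k, -, hk⟩)
    · exact (hO.isIso_of_mem (hk ▸ k.2)).mem_gsim
    · have h1 : IsIso G (-x) := hO.isIso_of_mem (hk ▸ k.2)
      refine TWSp.IsIso.mem_gsim ?_
      rw [IsIso, Units.val_neg, transpose_neg, Matrix.neg_mul, neg_mul_neg] at h1
      exact h1
  have hS : Setting G d M₁ := by
    refine ⟨hP, hsim, fun i e he => ?_, fun i c z hc hz => Or.inl (hle _ (hO.sieG_mem_omega i hc hz) (embG_mem _ _))⟩
    rcases Nat.even_or_odd m with hm | hm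
    · refine Or.inl (hle _ (hO.refl_mem_omega i hm (by rwa [Fintype.card_fin]) ?_ he.ne) (embG_mem _ _))
      rw [Fintype.card_fin]; exact hgap hm
    · refine Or.inr (hle _ (hO.neg_refl_mem_omega i hm hP.d_ne (hP.disc hm) he) ?_)
      have e1 : -embG i (refG G e) = embG i (-refG G e) := Units.ext (by
        rw [Units.val_neg, embG_val, embG_val, Units.val_neg, ← neg_one_smul F (refG G e : Matrix (Fin m) (Fin m) F),
          emb_smul, neg_one_smul])
      rw [e1]; exact embG_mem _ _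
  have hcyc : Cyc3 M₁ := fun a b x h1 h2 h3 => by
    obtain ⟨σ, hσa, hσb, hσ⟩ := hO.cycle_mem_omega a b x h1 h2 h3
    exact ⟨σ, hσa, hσb, Or.inl (hle _ hσ (pmG_mem σ))⟩
  have hseed : Seed G d M₁ := (hdich M₁ hS).resolve_left fun h =>
    hgW (h (Or.inl (Subgroup.mem_map_of_mem _ hgM)))
  have hΩ := hO.omega_le_of_seed hS hcyc hseed
  have hn : 5 ≤ Fintype.card (Fin t → Fin m) := by
    rw [Fintype.card_fun, Fintype.card_fin, Fintype.card_fin]
    calc 5 ≤ 3 ^ 2 := by norm_num
      _ ≤ m ^ 2 := Nat.pow_le_pow_left hP.three 2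
      _ ≤ m ^ t := Nat.pow_le_pow_right (by have := hP.three; omega) ht
  obtain ⟨TP⟩ := OrthMax.nonempty_twoPairs hO.nondeg hn
  rw [TP.omega_eq_eichGroup hO.nondeg hn, Forms4.eichGroup, Subgroup.closure_le]
  rintro k ⟨u, w, hu, huw, hk⟩
  set w' := (2 : F)⁻¹ • w
  have huw' : QuadraticMap.polar (⇑Q) u w' = 0 := by rw [QuadraticMap.polar_smul_right, huw, smul_zero]
  set k' := eichIso Q u w' hu huw'
  have he : k = k' * k' := Spinor.mat_ext Q (by
    rw [hk, Spinor.mat_mul, mat_eichIso, eich_mul hu huw' huw', ← add_smul,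
      show (2 : F)⁻¹ + (2 : F)⁻¹ = 1 by have := hG.two; field_simp; ring, one_smul])
  have h1 : (k' : GL (Fin t → Fin m) F) * (k' : GL (Fin t → Fin m) F) ∈ H :=
    sq_mem_of_pmSub (hΩ (eich_mem_omega hO.nondeg hn hu huw'))
  obtain ⟨j, hj, hje⟩ := Subgroup.mem_map.1 h1
  have : j = k' * k' := Subtype.ext hje
  rw [he, ← this]; exact hj

end OQ

/-! ### Transport -/

variable {κ : Type} [Fintype κ] [DecidableEq κ]

/-- Coordinates of the power. -/
noncomputable def pCoords (e : κ ≃ (Fin t → Fin m)) (P : GL κ F) :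
    ((Fin t → Fin m) → F) →ₗ[F] (κ → F) :=
  (P : Matrix κ κ F).mulVecLin ∘ₗ LinearMap.funLeft F F e

theorem pCoords_apply (e : κ ≃ (Fin t → Fin m)) (P : GL κ F) (x : (Fin t → Fin m) → F) :
    pCoords e P x = (P : Matrix κ κ F) *ᵥ (x ∘ e) := rfl

theorem map_isometryGroup_pCoords (Q₀ : QuadraticForm F (κ → F)) (e : κ ≃ (Fin t → Fin m)) (P : GL κ F) :
    (Cfsg.isometryGroup F ⇑(Q₀.comp (pCoords e P))).map (wCoordIso e P).toMonoidHom =
      Cfsg.isometryGroup F ⇑Q₀ := by
  ext g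
  constructor
  · rintro ⟨h, hh, rfl⟩
    refine TensorOrth.mem_isometryGroup.2 fun v => ?_
    obtain ⟨x, rfl⟩ := wCoord_surj e P v
    show Q₀ ((wCoordIso e P h : Matrix κ κ F) *ᵥ _) = _
    rw [wCoordIso_mulVec]
    exact TensorOrth.mem_isometryGroup.1 hh x
  · intro hg
    refine ⟨(wCoordIso e P).symm g, TensorOrth.mem_isometryGroup.2 fun x => ?_, (wCoordIso e P).apply_symm_apply g⟩
    rw [QuadraticMap.comp_apply, QuadraticMap.comp_apply, pCoords_apply, pCoords_apply, ← wCoordIso_mulVec,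
      (wCoordIso e P).apply_symm_apply]
    exact TensorOrth.mem_isometryGroup.1 hg _

theorem om_gramMatrix {f₁ : (Fin m → F) → (Fin m → F) → F} (hf₁ : IsSymmetricForm f₁) (x y : Fin m → F) :
    om (gramMatrix f₁) x y = f₁ x y := by
  rw [(AschbacherForms.isReflexive_symmetric hf₁).sesq.gram_eq]
  rfl

theorem oForm_gramMatrix (h2 : (2 : F) ≠ 0) {f₁ : (Fin m → F) → (Fin m → F) → F} (hf₁ : IsSymmetricForm f₁) :
    OForm (gramMatrix f₁) :=
  ⟨Matrix.ext fun _ _ => hf₁.symm _ _, (AschbacherForms.isReflexive_symmetric hf₁).gram_det_unit, h2⟩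

/-- The stabiliser in `Ω` of an orthogonal tensor power decomposition is maximal, given the dichotomy. -/
theorem isMaximalIn_orthWreath_of_dich {Q₀ : (κ → F) → F} (hQ : IsNondegenerateQuadraticForm Q₀)
    (ht : 2 ≤ t) (e : κ ≃ (Fin t → Fin m)) (P : GL κ F) {f₁ : (Fin m → F) → (Fin m → F) → F}
    (hT : IsTensorPowerFormStructure id (QuadraticMap.polar Q₀) f₁ e P) (hP : Par (gramMatrix f₁) d)
    (hgap : Even m → 3 ≤ t ∨ IsSquare (gramMatrix f₁).det) (hdich : Dichotomy (gramMatrix f₁) d t) :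
    IsMaximalIn (omegaGL Q₀) (tensorWreathSubgroup m t e P ⊓ omegaGL Q₀) := by
  obtain ⟨c₀, hc₀, hf⟩ := hT
  simp only [id, sum_gram_eq] at hf
  set Q' := (AschbacherQuad.quadForm hQ).comp (pCoords e P)
  have hO : OQ (gramMatrix f₁) Q' c₀ := ⟨hP.form, hc₀, fun x y => by
    rw [← hf]
    simp only [Q', QuadraticMap.polar, QuadraticMap.comp_apply, map_add]
    rfl⟩
  have hmax : IsMaximalIn (omegaGL ⇑Q') (wreath (Fin t) m F ⊓ omegaGL ⇑Q') :=
    CfsgLib.OrthMax.isMaximalIn_omega _ (hO.exists_omega_notMem hP ht) fun M hM g hgM _ hgW =>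
      hO.omega_le_of_overgroup hP ht hgap hdich hM hgM hgW
  have hΩ : (omegaGL ⇑Q').map (wCoordIso e P).toMonoidHom = omegaGL Q₀ := by
    rw [TensorOrth.omegaGL_eq, TensorOrth.omegaGL_eq, Subgroup.map_commutator, map_isometryGroup_pCoords,
      AschbacherQuad.coe_quadForm]
  have h' := CfsgLib.TensorMax.isMaximalIn_map (wCoordIso e P) hmax
  rwa [Subgroup.map_inf _ _ _ (wCoordIso e P).injective, hΩ, map_wreath_eq] at h'

end CfsgLib.TWOr
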