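import Cfsg.Agent.TensorWreathOrth.OmegaTop
import Cfsg.Agent.TensorWreathSp.SpMain

/-!
# Factor reflections, Siegel elements and permutations in `Ω`

The spinor norm of a factor reflection is computed on a product of orthogonal bases.
-/

set_option autoImplicit false
set_option linter.unusedSectionVars false

namespace CfsgLib.TWOr

open Matrix Module CfsgLib.MaxSub CfsgLib.TWreath
open CfsgLib.TWSp (om kr gram proj cen wedge spG gsim IsIso om_add_left om_add_right om_smul_left om_smul_right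
  axis_dot cen_mulVec mem_spG mem_spG_of_om om_of_mem_spG adj isIso_embG)
open CfsgLib.OrthMax (Isom)
open CfsgLib.Spinor (mat reflIso IsReflProd)

variable {F : Type*} [Field F] {m : ℕ} {G : Matrix (Fin m) (Fin m) F} {d : F}
  {ι : Type} [Fintype ι] [DecidableEq ι]

/-- An orthogonal basis through a given vector, as the columns of a matrix. -/
theorem exists_frame (hG : OForm G) {e : Fin m → F} (he : om G e e ≠ 0) :
    ∃ (U : Matrix (Fin m) (Fin m) F) (p₀ : Fin m), U *ᵥ Pi.single p₀ 1 = e ∧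
      (∀ p q, p ≠ q → om G (U *ᵥ Pi.single p 1) (U *ᵥ Pi.single q 1) = 0) ∧
      (∀ p, om G (U *ᵥ Pi.single p 1) (U *ᵥ Pi.single p 1) ≠ 0) ∧ IsUnit U.det ∧
      ∏ p, om G (U *ᵥ Pi.single p 1) (U *ᵥ Pi.single p 1) = U.det * U.det * G.det := by
  classical
  have hm : 0 < m := by
    rcases Nat.eq_zero_or_pos m with h | h
    · subst h; exact absurd (show om G e e = 0 by rw [Subsingleton.elim e 0, om_zero_left]) he
    · exact h
  have key : ∀ k, 1 ≤ k → k ≤ m → ∃ (u : ℕ → Fin m → F) (S : Submodule F (Fin m → F)), u 0 = e ∧ NonDeg G S ∧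
      finrank F S ≤ k ∧ (∀ i < k, u i ∈ S ∧ om G (u i) (u i) ≠ 0) ∧
      ∀ i j, i < j → j < k → om G (u j) (u i) = 0 := by
    intro k hk
    induction k, hk using Nat.le_induction with
    | base =>
      refine fun _ => ⟨fun _ => e, ⊥ ⊔ Submodule.span F {e}, rfl,
        nonDeg_sup hG nonDeg_bot he (fun y hy => by rw [(Submodule.mem_bot F).1 hy, om_zero_right]), ?_,
        fun i _ => ⟨Submodule.mem_sup_right (Submodule.mem_span_singleton_self e), he⟩, fun i j hij hj => by omega⟩
      exact (finrank_sup_le ⊥ e).trans (by rw [finrank_bot])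
    | succ k hk ih =>
      intro hkm
      obtain ⟨u, S, hu0, hS, hfr, hu, hort⟩ := ih (by omega)
      obtain ⟨x, hx, hxx⟩ := exists_aniso hG (nonDeg_perp hG hS) fun h0 => by
        have h1 := finrank_perp hG hS
        rw [h0, finrank_bot] at h1
        omega
      have hxS := (mem_perp hG).1 hx
      refine ⟨Function.update u k x, S ⊔ Submodule.span F {x}, ?_, nonDeg_sup hG hS hxx hxS, ?_, fun i hi => ?_,
        fun i j hij hj => ?_⟩
      · rw [Function.update_of_ne (by omega), hu0]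
      · exact (finrank_sup_le S x).trans (by omega)
      · rcases Nat.lt_succ_iff_lt_or_eq.1 hi with hi | rfl
        · rw [Function.update_of_ne hi.ne]
          exact ⟨Submodule.mem_sup_left (hu i hi).1, (hu i hi).2⟩
        · rw [Function.update_self]
          exact ⟨Submodule.mem_sup_right (Submodule.mem_span_singleton_self x), hxx⟩
      · rcases Nat.lt_succ_iff_lt_or_eq.1 hj with hj | rfl
        · rw [Function.update_of_ne hj.ne, Function.update_of_ne (hij.trans hj).ne]
          exact hort i j hij hj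
        · rw [Function.update_self, Function.update_of_ne hij.ne]
          exact hxS _ (hu i hij).1
  obtain ⟨u, S, hu0, -, -, hu, hort⟩ := key m hm le_rfl
  set U : Matrix (Fin m) (Fin m) F := Matrix.of fun r p => u (p : ℕ) r with hU
  have hcol : ∀ p, U *ᵥ Pi.single p 1 = u (p : ℕ) := fun p => by
    rw [mulVec_single_one]; funext r; rfl
  have ho : ∀ p q : Fin m, p ≠ q → om G (u p) (u q) = 0 := fun p q hpq => by
    rcases lt_or_gt_of_ne (fun h => hpq (Fin.ext h) : (p : ℕ) ≠ q) with h | h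
    · rw [hG.comm]; exact hort p q h q.2
    · exact hort q p h p.2
  have hD : Uᵀ * G * U = Matrix.diagonal fun p : Fin m => om G (u p) (u p) := by
    ext p q
    have h1 : om G (U *ᵥ Pi.single p 1) (U *ᵥ Pi.single q 1) =
        (Pi.single p (1 : F)) ⬝ᵥ (Uᵀ * G * U) *ᵥ Pi.single q 1 := by
      rw [om, ← mulVec_mulVec, ← mulVec_mulVec, dotProduct_mulVec (Pi.single p 1), vecMul_transpose]
    rw [hcol, hcol] at h1
    rw [mulVec_single_one, single_dotProduct, one_mul] at h1
    show (Uᵀ * G * U) p q = _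
    rw [show (Uᵀ * G * U) p q = om G (u p) (u q) from h1.symm]
    rcases eq_or_ne p q with rfl | hpq
    · rw [diagonal_apply_eq]
    · rw [diagonal_apply_ne _ hpq, ho p q hpq]
  have hdet := congrArg Matrix.det hD
  rw [det_mul, det_mul, det_transpose, det_diagonal] at hdet
  refine ⟨U, ⟨0, hm⟩, (hcol _).trans hu0, fun p q hpq => by rw [hcol, hcol]; exact ho p q hpq,
    fun p => by rw [hcol]; exact (hu p p.2).2, isUnit_iff_ne_zero.2 fun h0 => ?_, ?_⟩
  · rw [h0, zero_mul, zero_mul, eq_comm, Finset.prod_eq_zero_iff] at hdet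
    obtain ⟨p, -, hp⟩ := hdet
    exact (hu p p.2).2 hp
  · simp only [hcol]
    rw [← hdet]
    ring

/-- The product of the reflections in orthogonal vectors. -/
theorem reflProd_mulVec {n κ : Type} [Fintype n] [DecidableEq n] [DecidableEq κ]
    (Q : QuadraticForm F (n → F)) (v : κ → n → F)
    (ho : ∀ a b, a ≠ b → QuadraticMap.polar (⇑Q) (v a) (v b) = 0) (hne : ∀ a, Q (v a) ≠ 0) :
    ∀ l : List κ, l.Nodup → ∀ b,
      ((l.map v).map fun x => Cfsg.reflectionMatrix (⇑Q) x).prod *ᵥ v b = if b ∈ l then -v b else v b := by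
  intro l
  induction l with
  | nil => intro _ b; simp
  | cons a l ih =>
    intro hnd b
    obtain ⟨hal, hnd⟩ := List.nodup_cons.1 hnd
    rw [List.map_cons, List.map_cons, List.prod_cons, ← mulVec_mulVec, ih hnd b]
    rcases eq_or_ne b a with rfl | hb
    · rw [if_neg hal, if_pos List.mem_cons_self, Spinor.reflectionMatrix_mulVec, Spinor.refl_apply,
        Spinor.polar_self', show (Q (v b))⁻¹ * (2 * Q (v b)) = 2 by field_simp [hne b]]
      rw [two_smul]; abel
    · have h1 : Cfsg.reflectionMatrix (⇑Q) (v a) *ᵥ v b = v b := by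
        rw [Spinor.reflectionMatrix_mulVec, Spinor.refl_apply, ho a b hb.symm, mul_zero, zero_smul, sub_zero]
      by_cases hbl : b ∈ l
      · rw [if_pos hbl, if_pos (List.mem_cons_of_mem _ hbl), mulVec_neg, h1]
      · rw [if_neg hbl, if_neg (by simp [hb, hbl]), h1]

theorem prod_prod_apply {κ : Type} [Fintype κ] [DecidableEq κ] (f : Fin m → F) :
    ∏ r : κ → Fin m, ∏ k, f (r k) = (∏ p, f p) ^ (Fintype.card κ * m ^ (Fintype.card κ - 1)) := by
  rw [Finset.prod_comm]
  have h : ∀ k : κ, ∏ r : κ → Fin m, f (r k) = (∏ p, f p) ^ m ^ (Fintype.card κ - 1) := fun k => by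
    rw [← (TWSp.splitEquiv k).symm.prod_comp, Fintype.prod_prod_type]
    simp only [TWSp.splitEquiv, Equiv.coe_fn_symm_mk, extend_self, Finset.prod_const, Finset.card_univ]
    rw [card_rest, bdim, Finset.prod_pow]
  simp only [h, Finset.prod_const, Finset.card_univ, ← pow_mul, mul_comm]

variable [Fintype F]

namespace OQ

variable {Q : QuadraticForm F ((ι → Fin m) → F)} {c₀ : F} (hO : OQ G Q c₀)
include hO

/-- An operator with signs on a product of orthogonal bases, the sign depending on one factor. -/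
theorem sign_mem_omega (i : ι) {U : Matrix (Fin m) (Fin m) F}
    (ho : ∀ p q, p ≠ q → om G (U *ᵥ Pi.single p 1) (U *ᵥ Pi.single q 1) = 0)
    (hne : ∀ p, om G (U *ᵥ Pi.single p 1) (U *ᵥ Pi.single p 1) ≠ 0) (hU : IsUnit U.det)
    (P : Finset (Fin m)) {g : GL (ι → Fin m) F}
    (hg : ∀ a : ι → Fin m, (g : Matrix (ι → Fin m) (ι → Fin m) F) *ᵥ pten (fun k => U *ᵥ Pi.single (a k) 1) =
      if a i ∈ P then -pten (fun k => U *ᵥ Pi.single (a k) 1) else pten (fun k => U *ᵥ Pi.single (a k) 1))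
    (heven : Even (P.card * bdim ι m))
    (hsq : IsSquare ((∏ p ∈ P, om G (U *ᵥ Pi.single p 1) (U *ᵥ Pi.single p 1)) ^ bdim ι m *
      ((∏ p, om G (U *ᵥ Pi.single p 1) (U *ᵥ Pi.single p 1)) ^
        ((Fintype.card ι - 1) * m ^ (Fintype.card ι - 1 - 1))) ^ P.card)) :
    g ∈ Cfsg.Geo.omegaGL ⇑Q := by
  classical
  set ω : Fin m → F := fun p => om G (U *ᵥ Pi.single p 1) (U *ᵥ Pi.single p 1)
  set v : (ι → Fin m) → (ι → Fin m) → F := fun a => pten fun k => U *ᵥ Pi.single (a k) 1
  have hpol : ∀ a b, QuadraticMap.polar (⇑Q) (v a) (v b) =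
      c₀ * ∏ k, om G (U *ᵥ Pi.single (a k) 1) (U *ᵥ Pi.single (b k) 1) := fun a b => by
    rw [hO.polar, form_pten]
  have hvo : ∀ a b, a ≠ b → QuadraticMap.polar (⇑Q) (v a) (v b) = 0 := fun a b hab => by
    obtain ⟨k, hk⟩ := Function.ne_iff.1 hab
    rw [hpol, Finset.prod_eq_zero (Finset.mem_univ k) (ho _ _ hk), mul_zero]
  have hQv : ∀ a, Q (v a) = c₀ / 2 * ∏ k, ω (a k) := fun a => by
    rw [hO.quad_eq, form_pten]; ring
  have hvne : ∀ a, Q (v a) ≠ 0 := fun a => by
    rw [hQv]
    exact mul_ne_zero (div_ne_zero hO.ne hO.form.two) (Finset.prod_ne_zero_iff.2 fun k _ => hne _)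
  set S : Finset (ι → Fin m) := Finset.univ.filter fun a => a i ∈ P with hS
  have hvs : ∀ x ∈ S.toList.map v, Q x ≠ 0 := by simp [hvne]
  obtain ⟨r, hr⟩ : ∃ r : Isom Q, IsReflProd Q r (S.toList.map v) := by
    revert hvs
    generalize S.toList.map v = l
    intro hl
    induction l with
    | nil => exact ⟨1, IsReflProd.one⟩
    | cons x l ih =>
      obtain ⟨r, hr⟩ := ih fun y hy => hl y (List.mem_cons_of_mem _ hy)
      exact ⟨_, (IsReflProd.reflIso x (hl x List.mem_cons_self)).mul hr⟩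
  have hsplit : ∀ f : (ι → Fin m) → F, ∏ a ∈ S, f a = ∏ p ∈ P, ∏ s : Rest i m, f (extend i p s) := fun f => by
    rw [hS, Finset.prod_filter, ← (TWSp.splitEquiv i).symm.prod_comp, Fintype.prod_prod_type]
    simp only [TWSp.splitEquiv, Equiv.coe_fn_symm_mk, extend_self]
    rw [← Finset.prod_subset (Finset.subset_univ P) fun p _ hp => by simp [hp]]
    exact Finset.prod_congr rfl fun p hp => by simp [hp]
  have hcard : S.card = P.card * bdim ι m := by
    have : S = (P ×ˢ (Finset.univ : Finset (Rest i m))).map (TWSp.splitEquiv i).symm.toEmbedding := by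
      ext a
      simp [hS, TWSp.splitEquiv]
    rw [this, Finset.card_map, Finset.card_product, Finset.card_univ, card_rest]
  have hmem : r ∈ Cfsg.Omega F ⇑Q := by
    refine Spinor.mem_omega_of_isReflProd hO.form.two hr (by rwa [List.length_map, Finset.length_toList, hcard]) ?_
    rw [List.map_map, Finset.prod_map_toList]
    simp only [Function.comp_apply, hQv]
    rw [Finset.prod_mul_distrib, Finset.prod_const, hcard, hsplit]
    have hw : ∀ p, ∏ s : Rest i m, ∏ k, ω (extend i p s k) =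
        ω p ^ bdim ι m * (∏ q, ω q) ^ ((Fintype.card ι - 1) * m ^ (Fintype.card ι - 1 - 1)) := fun p => by
      have e : ∀ s : Rest i m, ∏ k, ω (extend i p s k) = ω p * ∏ k, ω (s k) := fun s => by
        rw [← Finset.mul_prod_erase Finset.univ _ (Finset.mem_univ i), extend_self,
          Finset.prod_subtype (Finset.univ.erase i) (p := fun j => j ≠ i) (by simp)]
        exact congrArg _ (Finset.prod_congr rfl fun k _ => by rw [congrFun (extend_rest i p s) k])
      simp only [e]
      rw [Finset.prod_mul_distrib, Finset.prod_const, Finset.card_univ, card_rest, prod_prod_apply,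
        Fintype.card_subtype_compl, Fintype.card_subtype_eq]
    simp only [hw, Finset.prod_mul_distrib, Finset.prod_const, Finset.prod_pow]
    exact (heven.isSquare_pow (c₀ / 2)).mul hsq
  suffices he : (r : GL (ι → Fin m) F) = g from he ▸ Subgroup.mem_map_of_mem _ hmem
  refine Units.ext ?_
  set T : Matrix (ι → Fin m) (ι → Fin m) F := Pt fun _ => U
  have hT : IsUnit T := (Matrix.isUnit_iff_isUnit_det _).2 (TWSp.gram_det_unit hU)
  refine hT.mul_left_inj.1 (Matrix.ext_of_mulVec_single fun a => ?_)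
  rw [← mulVec_mulVec, ← mulVec_mulVec,
    show T *ᵥ Pi.single a 1 = v a by rw [← pten_single, Pt_mulVec_pten]]
  show mat Q r *ᵥ v a = _
  rw [hr.2, reflProd_mulVec Q v hvo hvne _ (Finset.nodup_toList S) a, hg a]
  simp [hS, v]

theorem emb_refM_frame (i : ι) {U : Matrix (Fin m) (Fin m) F} {p₀ : Fin m}
    (ho : ∀ p q, p ≠ q → om G (U *ᵥ Pi.single p 1) (U *ᵥ Pi.single q 1) = 0)
    {e : Fin m → F} (hp₀ : U *ᵥ Pi.single p₀ 1 = e) (he : om G e e ≠ 0) (a : ι → Fin m) :
    emb i (refM G e) *ᵥ pten (fun k => U *ᵥ Pi.single (a k) 1) =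
      if a i = p₀ then -pten (fun k => U *ᵥ Pi.single (a k) 1) else pten (fun k => U *ᵥ Pi.single (a k) 1) := by
  set xs : ι → Fin m → F := fun k => U *ᵥ Pi.single (a k) 1
  rw [emb, Pt_mulVec_pten]
  have e1 : (fun k => Function.update (1 : ι → Matrix (Fin m) (Fin m) F) i (refM G e) k *ᵥ xs k) =
      Function.update xs i (refM G e *ᵥ xs i) := by
    funext k
    rcases eq_or_ne k i with rfl | hk
    · simp
    · simp [hk]
  rw [e1]
  by_cases hai : a i = p₀
  · rw [if_pos hai, show xs i = e by simp only [xs, hai, hp₀], refM_self he, ← neg_one_smul F e, pten_update_smul,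
      neg_one_smul]
    congr 2
    exact Function.update_eq_self_iff.2 (by simp only [xs, hai, hp₀])
  · rw [if_neg hai, refM_fix (by rw [← hp₀]; exact ho _ _ hai), Function.update_eq_self]

/-- The negative of a factor reflection, odd dimension. -/
theorem neg_refl_mem_omega (i : ι) (hm : Odd m) {d : F} (hd : d ≠ 0) (hdisc : IsSquare (d * G.det))
    {e : Fin m → F} (he : Kap G d e) : -embG i (refG G e) ∈ Cfsg.Geo.omegaGL ⇑Q := by
  classical
  obtain ⟨U, p₀, hp₀, ho, hne, hU, hprod⟩ := exists_frame hO.form he.ne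
  have hcard : (Finset.univ.erase p₀).card = m - 1 := by simp
  have hev : Even (m - 1) := by obtain ⟨r, rfl⟩ := hm; simp
  refine hO.sign_mem_omega i ho hne hU (Finset.univ.erase p₀) (fun a => ?_)
    (by rw [hcard]; exact hev.mul_right _) ?_
  · rw [Units.val_neg, neg_mulVec, embG_val, refG_val he.ne, hO.emb_refM_frame i ho hp₀ he.ne a]
    by_cases hai : a i = p₀ <;> simp [hai]
  · rw [hcard]
    refine IsSquare.mul (IsSquare.pow _ ?_) (hev.isSquare_pow _)
    obtain ⟨r, hr⟩ := hdisc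
    obtain ⟨s, hs⟩ := he.2.resolve_left (Nat.not_even_iff_odd.2 hm)
    refine ⟨U.det * r * s / (d * om G e e), ?_⟩
    rw [← Finset.mul_prod_erase Finset.univ _ (Finset.mem_univ p₀), hp₀] at hprod
    have := he.ne
    field_simp
    linear_combination (d * d * om G e e) * hprod + (U.det * U.det * (om G e e * d)) * hr +
      (U.det * U.det * r * r) * hs

/-- A factor reflection, even dimension. -/
theorem refl_mem_omega (i : ι) (hm : Even m) (ht : 2 ≤ Fintype.card ι)
    (hgap : 3 ≤ Fintype.card ι ∨ IsSquare G.det) {e : Fin m → F} (he : om G e e ≠ 0) :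
    embG i (refG G e) ∈ Cfsg.Geo.omegaGL ⇑Q := by
  classical
  obtain ⟨U, p₀, hp₀, ho, hne, hU, hprod⟩ := exists_frame hO.form he
  have hb : Even (bdim ι m) := by rw [bdim]; exact Nat.even_pow.2 ⟨hm, by omega⟩
  refine hO.sign_mem_omega i ho hne hU {p₀} (fun a => ?_) (hb.mul_left _) ?_
  · rw [embG_val, refG_val he, hO.emb_refM_frame i ho hp₀ he a]
    by_cases hai : a i = p₀ <;> simp [hai]
  · refine IsSquare.mul (hb.isSquare_pow _) (IsSquare.pow _ ?_)
    rw [hprod]
    rcases hgap with h3 | hsq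
    · exact Even.isSquare_pow ((Nat.even_pow.2 ⟨hm, by omega⟩).mul_left _) _
    · exact IsSquare.pow _ ((IsSquare.mul_self _).mul hsq)

/-- Siegel elements of a factor. -/
theorem sieG_mem_omega (i : ι) {c z : Fin m → F} (hc : om G c c = 0) (hz : om G z c = 0) :
    embG i (sieG G c z) ∈ Cfsg.Geo.omegaGL ⇑Q := by
  have hG := hO.form
  set z' := (2 : F)⁻¹ • z
  have hz' : om G z' c = 0 := by rw [om_smul_left, hz, mul_zero]
  obtain ⟨g, hg⟩ := hO.exists_iso (isIso_embG i (sieG_mem hG hc hz'))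
  have he : ((g * g : Isom Q) : GL (ι → Fin m) F) = embG i (sieG G c z) := by
    rw [Subgroup.coe_mul, hg, ← map_mul, sieG_mul hG hc hz' hz', ← add_smul,
      show (2 : F)⁻¹ + (2 : F)⁻¹ = 1 by have := hG.two; field_simp; ring, one_smul]
  exact he ▸ Subgroup.mem_map_of_mem _ (TensorOrth.sq_mem_omega hG.two hO.nondeg g)

theorem cycle_mem_omega (a b x : ι) (hab : a ≠ b) (hxa : x ≠ a) (hxb : x ≠ b) :
    ∃ σ : Equiv.Perm ι, σ a = b ∧ σ b = x ∧ pmG (F := F) (m := m) σ ∈ Cfsg.Geo.omegaGL ⇑Q := by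
  set s₁ := Equiv.swap a b with hs₁
  set s₂ := Equiv.swap b x with hs₂
  set σ := s₁ * s₂ with hσ
  have h3 : σ ^ 4 = σ := by
    have h := (Equiv.Perm.isThreeCycle_swap_mul_swap_same (ne_comm.mp hab) (Ne.symm hxb) (Ne.symm hxa)).orderOf
    rw [show σ = Equiv.swap b a * Equiv.swap b x by rw [hσ, hs₁, Equiv.swap_comm a b], pow_succ,
      ← h, pow_orderOf_eq_one, one_mul]
  refine ⟨σ, ?_, ?_, ?_⟩
  · rw [hσ, Equiv.Perm.mul_apply, hs₂, Equiv.swap_apply_of_ne_of_ne hab (Ne.symm hxa), hs₁, Equiv.swap_apply_left]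
  · rw [hσ, Equiv.Perm.mul_apply, hs₂, Equiv.swap_apply_left, hs₁, Equiv.swap_apply_of_ne_of_ne hxa hxb]
  obtain ⟨g₁, hg₁⟩ := hO.exists_iso (TWSp.isIso_pmG (G := G) s₁)
  obtain ⟨g₂, hg₂⟩ := hO.exists_iso (TWSp.isIso_pmG (G := G) s₂)
  have hc : g₁ * g₂ * g₁⁻¹ * g₂⁻¹ ∈ Cfsg.Omega F ⇑Q := by
    have := Subgroup.commutator_mem_commutator (Subgroup.mem_top g₁) (Subgroup.mem_top g₂)
    exact this
  have := Subgroup.mem_map_of_mem (Cfsg.isometryGroup F ⇑Q).subtype ((Cfsg.Omega F ⇑Q).mul_mem hc hc)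
  show pmG σ ∈ Subgroup.map (Cfsg.isometryGroup F ⇑Q).subtype (Cfsg.Omega F ⇑Q)
  suffices he : pmG σ = (Cfsg.isometryGroup F ⇑Q).subtype (g₁ * g₂ * g₁⁻¹ * g₂⁻¹ * (g₁ * g₂ * g₁⁻¹ * g₂⁻¹)) by
    rw [he]; exact this
  simp only [map_mul, map_inv]
  rw [Subgroup.coe_subtype, hg₁, hg₂]
  simp only [← map_inv, ← map_mul]
  congr 1
  conv_lhs => rw [← h3]
  rw [hσ, hs₁, hs₂, Equiv.swap_inv, Equiv.swap_inv, pow_succ, pow_succ, pow_succ, pow_one]
  simp only [mul_assoc]

end OQ

end CfsgLib.TWOr
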