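import Cfsg.Agent.TensorWreathOrth.SeedEnd
import Cfsg.Agent.OrthMax.Basic
import Cfsg.Agent.TensorOrth.Setup

/-!
# Orthogonal tensor powers inside orthogonal groups

With all central elements at two blocks a pure singular tensor has all its Eichler elements, so the group
contains `Ω`.
-/

set_option autoImplicit false
set_option linter.unusedSectionVars false

namespace CfsgLib.TWOr

open Matrix Module CfsgLib.MaxSub CfsgLib.TWreath
open CfsgLib.TWSp (om kr gram proj cen wedge spG gsim IsIso om_add_left om_add_right om_smul_left om_smul_right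
  axis_dot cen_mulVec mem_spG mem_spG_of_om om_of_mem_spG adj form_lift adj_smul eq_of_form_eq)
open CfsgLib.OrthMax (Isom RootMem Full omega_le_of_full_pair)
open CfsgLib.Forms (eich eich_mulVec eichIso mat_eichIso)
open CfsgLib.Spinor (mat)

variable {F : Type*} [Field F] {m : ℕ} {G : Matrix (Fin m) (Fin m) F} {d : F}
  {ι : Type} [Fintype ι] [DecidableEq ι]

/-- An orthogonal space with an orthogonal tensor power structure. -/
structure OQ (G : Matrix (Fin m) (Fin m) F) (Q : QuadraticForm F ((ι → Fin m) → F)) (c₀ : F) : Prop where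
  form : OForm G
  ne : c₀ ≠ 0
  polar : ∀ x y, QuadraticMap.polar (⇑Q) x y = c₀ * (x ⬝ᵥ gram ι G *ᵥ y)

theorem form_pten (xs ys : ι → Fin m → F) :
    pten xs ⬝ᵥ gram ι G *ᵥ pten ys = ∏ k, om G (xs k) (ys k) := by
  rw [TWSp.gram, Pt_mulVec_pten, pten_dot]
  rfl

theorem adj_vecMulVec_gram (hG : OForm G) (a b : (ι → Fin m) → F) :
    adj (gram ι G) (vecMulVec a (gram ι G *ᵥ b)) = vecMulVec b (gram ι G *ᵥ a) := by
  rw [adj, transpose_vecMulVec, mul_vecMulVec, vecMulVec_mul]
  congr 1
  · rw [mulVec_mulVec, nonsing_inv_mul _ (oForm_det hG), one_mulVec]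
  · rw [← mulVec_transpose, gram_symm hG]

namespace OQ

variable {Q : QuadraticForm F ((ι → Fin m) → F)} {c₀ : F} (hO : OQ G Q c₀)
include hO

theorem nondeg : (QuadraticMap.polarBilin Q).Nondegenerate := by
  have hJ : IsUnit (gram ι G).det := oForm_det hO.form
  constructor
  · intro x hx
    refine eq_of_form_eq hJ fun y => ?_
    have h1 := hx y
    rw [QuadraticMap.polarBilin_apply_apply, QuadraticMap.polar_comm, hO.polar] at h1
    rw [(mul_eq_zero.mp h1).resolve_left hO.ne, mulVec_zero, dotProduct_zero]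
  · intro x hx
    refine eq_of_form_eq hJ fun y => ?_
    have h1 := hx y
    rw [QuadraticMap.polarBilin_apply_apply, hO.polar] at h1
    rw [(mul_eq_zero.mp h1).resolve_left hO.ne, mulVec_zero, dotProduct_zero]

theorem quad_eq (x : (ι → Fin m) → F) : Q x = c₀ * (x ⬝ᵥ gram ι G *ᵥ x) / 2 := by
  rw [← hO.polar, Spinor.polar_self', mul_div_cancel_left₀ _ hO.form.two]

theorem quad_lift (i : ι) {c : Fin m → F} (hc : om G c c = 0) (w : Rest i m → F) : Q (lift i c w) = 0 := by
  rw [hO.quad_eq, form_lift, hc, zero_mul, mul_zero, zero_div]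

theorem exists_iso {g : GL (ι → Fin m) F} (hg : IsIso G g) : ∃ k : Isom Q, (k : GL (ι → Fin m) F) = g :=
  ⟨⟨g, fun v _ => by
    show Q ((g : Matrix (ι → Fin m) (ι → Fin m) F) *ᵥ v) = Q v
    rw [hO.quad_eq, hO.quad_eq v, hg.form]⟩, rfl⟩

theorem isIso_of_mem {g : GL (ι → Fin m) F} (hg : g ∈ Cfsg.isometryGroup F ⇑Q) : IsIso G g := by
  have hq : ∀ v, Q ((g : Matrix (ι → Fin m) (ι → Fin m) F) *ᵥ v) = Q v := fun v => hg v v
  rw [IsIso]
  ext a b
  have h1 : QuadraticMap.polar (⇑Q) ((g : Matrix (ι → Fin m) (ι → Fin m) F) *ᵥ Pi.single a 1)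
      ((g : Matrix (ι → Fin m) (ι → Fin m) F) *ᵥ Pi.single b 1) =
      QuadraticMap.polar (⇑Q) (Pi.single a 1) (Pi.single b 1) := by
    rw [QuadraticMap.polar, QuadraticMap.polar, ← mulVec_add, hq, hq, hq]
  rw [hO.polar, hO.polar] at h1
  have h2 := mul_left_cancel₀ hO.ne h1
  rw [mulVec_mulVec, dotProduct_mulVec, ← vecMul_transpose, vecMul_vecMul, ← Matrix.mul_assoc,
    ← dotProduct_mulVec] at h2
  simpa [single_dotProduct, mulVec_single] using h2

/-- Eichler elements inside a singular block are central elements. -/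
theorem eich_block (i : ι) {c : Fin m → F} (hc : om G c c = 0) (p q : Rest i m → F) :
    eich Q (lift i c p) (lift i c q) = 1 + kr i (cen G c) (c₀ •
      (vecMulVec q (gram {j // j ≠ i} G *ᵥ p) - vecMulVec p (gram {j // j ≠ i} G *ᵥ q))) := by
  set J := gram {j // j ≠ i} G
  refine Matrix.ext_of_mulVec_single fun k => ?_
  set v : (ι → Fin m) → F := Pi.single k 1
  rw [eich_mulVec, hO.quad_lift i hc, zero_mul, zero_smul, sub_zero, hO.polar, hO.polar, form_proj hO.form,
    form_proj hO.form, add_mulVec, one_mulVec, cen, TWSp.kr_vecMulVec_mulVec, smul_mulVec, sub_mulVec,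
    vecMulVec_mulVec', vecMulVec_mulVec', dotProduct_comm (J *ᵥ p), dotProduct_comm (J *ᵥ q),
    form_comm hO.form (proj i (G *ᵥ c) v) p, form_comm hO.form (proj i (G *ᵥ c) v) q, smul_sub, smul_smul,
    smul_smul, map_sub, map_smul, map_smul]

section Full

variable [Fintype F] {M : Subgroup (GL (ι → Fin m) F)}

theorem rootMem_block {i : ι} {c : Fin m → F} (hc : om G c c = 0) (hfull : CenFull G M i c) (p q : Rest i m → F) :
    RootMem (M.comap (Cfsg.isometryGroup F ⇑Q).subtype) (lift i c p) (lift i c q) := fun g hg => by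
  have hG := hO.form
  obtain ⟨x, hx, he⟩ := hfull (c₀ •
      (vecMulVec q (gram {j // j ≠ i} G *ᵥ p) - vecMulVec p (gram {j // j ≠ i} G *ᵥ q))) (by
    rw [adj_smul, adj_sub', adj_vecMulVec_gram hG, adj_vecMulVec_gram hG, ← smul_neg, neg_sub])
  rw [← hO.eich_block i hc, ← hg] at he
  have : x = (g : GL (ι → Fin m) F) := Units.ext he
  rw [this] at hx
  exact hx

variable (hS : Setting G d M)
include hS

/-- The Eichler elements from a block towards the opposite block. -/
theorem rootMem_opposite {i : ι} (l : {j // j ≠ i}) {c δ : Fin m → F} (h : Hyp G c δ) (hfull : CenFull G M i c)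
    {y : Rest i m → F} (hy : pten (fun _ : {j // j ≠ i} => c) ⬝ᵥ gram {j // j ≠ i} G *ᵥ y = 0) :
    RootMem (M.comap (Cfsg.isometryGroup F ⇑Q).subtype) (lift i c (pten fun _ : {j // j ≠ i} => c))
      (lift i δ y) := by
  classical
  have hP := hS.par
  have hG := hO.form
  have : NeZero m := ⟨by have := hP.three; omega⟩
  set J := gram {j // j ≠ i} G
  have hJ : IsUnit J.det := oForm_det hG
  set r : Rest i m → F := pten fun _ : {j // j ≠ i} => c
  rcases eq_or_ne y 0 with rfl | hy0
  · rw [map_zero]; exact RootMem.zero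
  obtain ⟨z, hz, hzz⟩ := h.exists_mid_aniso hP
  obtain ⟨zc, zd, cz, dz⟩ := h.om_mid hG hz
  have hr0 : r ≠ 0 := pten_ne_zero fun _ => h.c_ne
  obtain ⟨y₁, hy₁, hind⟩ : ∃ y₁, r ⬝ᵥ J *ᵥ y₁ = 0 ∧ ∀ k : F, k • y ≠ y₁ := by
    by_cases hdep : ∃ k : F, k • r = y
    · obtain ⟨k, hk⟩ := hdep
      refine ⟨pten (Function.update (fun _ : {j // j ≠ i} => c) l z), ?_, fun s hs => ?_⟩
      · rw [form_pten]
        exact Finset.prod_eq_zero (Finset.mem_univ l) (by rw [Function.update_self, cz])
      · have h1 := congrArg (fun w => w ⬝ᵥ J *ᵥ pten (Function.update (fun _ : {j // j ≠ i} => δ) l z)) hs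
        rw [← hk, smul_smul, smul_dotProduct, form_pten, form_pten,
          Finset.prod_eq_zero (Finset.mem_univ l) (show om G c (Function.update (fun _ => δ) l z l) = 0 by
            rw [Function.update_self, cz]), smul_zero,
          Finset.prod_eq_single l (fun j _ hj => by
            rw [Function.update_of_ne hj, Function.update_of_ne hj, h.cd hG]) (by simp),
          Function.update_self, Function.update_self] at h1
        exact hzz h1.symm
    · push Not at hdep
      refine ⟨r, ?_, fun s hs => ?_⟩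
      · rw [form_pten]
        exact Finset.prod_eq_zero (Finset.mem_univ l) h.c_iso
      · have hs0 : s ≠ 0 := fun e => hr0 (by rw [← hs, e, zero_smul])
        exact hdep s⁻¹ (by rw [← hs, smul_smul, inv_mul_cancel₀ hs0, one_smul])
  obtain ⟨v₀, hv1, hv2⟩ := exists_dot_eq_zero_one (a := J *ᵥ y) (b := J *ᵥ y₁) fun k hk => hind k
    (mulVec_injective_iff_isUnit.mpr ((Matrix.isUnit_iff_isUnit_det J).mpr hJ) (by
      show J *ᵥ (k • y) = J *ᵥ y₁
      rw [mulVec_smul, hk]))
  set v := c₀⁻¹ • v₀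
  have hyv : y₁ ⬝ᵥ J *ᵥ v = c₀⁻¹ := by
    rw [form_comm hG, dotProduct_comm, dotProduct_smul, hv2, smul_eq_mul, mul_one]
  have hy'v : y ⬝ᵥ J *ᵥ v = 0 := by
    rw [form_comm hG, dotProduct_comm, dotProduct_smul, hv1, smul_zero]
  have hpol : ∀ (a b : Fin m → F) (p q : Rest i m → F),
      QuadraticMap.polar (⇑Q) (lift i a p) (lift i b q) = c₀ * (om G a b * (p ⬝ᵥ J *ᵥ q)) := fun a b p q => by
    rw [hO.polar, form_lift]
  set u := lift i c r
  have hu : Q u = 0 := hO.quad_lift i h.c_iso r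
  have hQy₁ : Q (lift i δ y₁) = 0 := hO.quad_lift i h.d_iso _
  have hyy : QuadraticMap.polar (⇑Q) (lift i δ y₁) (lift i δ y) = 0 := by
    rw [hpol, h.d_iso, zero_mul, mul_zero]
  have hk := (hO.rootMem_block h.d_iso (hS.cenFull_swap h hfull) y₁ y).iso hQy₁ hyy
  have h0 := hO.rootMem_block h.c_iso hfull r v
  have hu0 : QuadraticMap.polar (⇑Q) u (lift i c v) = 0 := by rw [hpol, h.c_iso, zero_mul, mul_zero]
  have h1 := h0.conj hk
  rw [mat_eichIso] at h1
  have hfix : eich Q (lift i δ y₁) (lift i δ y) *ᵥ u = u := by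
    rw [eich_mulVec, hpol, hpol, form_comm hG y₁ r, hy₁, form_comm hG y r, hy]
    simp
  have hmove : eich Q (lift i δ y₁) (lift i δ y) *ᵥ lift i c v = lift i c v + lift i δ y := by
    rw [eich_mulVec, hpol, hpol, hyv, hy'v, h.dc, one_mul, mul_inv_cancel₀ hO.ne, one_smul,
      hO.quad_lift i h.d_iso, mul_zero, mul_zero, zero_mul, zero_smul, sub_zero, sub_zero]
  rw [hfix, hmove] at h1
  have h2 := RootMem.add hu (by rw [QuadraticMap.polar_neg_right, hu0, neg_zero])
    (by rw [QuadraticMap.polar_add_right, hu0, hpol, hy, mul_zero, mul_zero, add_zero]) (h0.neg hu hu0) h1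
  rwa [neg_add_cancel_left] at h2

/-- Eichler elements towards the middle. -/
theorem rootMem_middle {i : ι} (l : {j // j ≠ i}) {c δ z : Fin m → F} (h : Hyp G c δ) (hfull : CenFull G M i c)
    (hz : z ∈ mid G c δ) {y : Rest i m → F}
    (hy : pten (fun _ : {j // j ≠ i} => c) ⬝ᵥ gram {j // j ≠ i} G *ᵥ y = 0) :
    RootMem (M.comap (Cfsg.isometryGroup F ⇑Q).subtype) (lift i c (pten fun _ : {j // j ≠ i} => c))
      (lift i z y) := by
  have hG := hO.form
  obtain ⟨zc, -, cz, dz⟩ := h.om_mid hG hz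
  obtain ⟨a1, a2, -⟩ := h.sieG_apply hG hz
  set δ' := δ + z - (om G z z / 2) • c with hδ'
  have hg := sieG_mem hG h.c_iso zc
  have h' : Hyp G c δ' := ⟨h.c_iso,
    by rw [← a2, om_of_mem_spG hg, h.d_iso],
    by rw [← a2]; conv_lhs => arg 3; rw [← a1]
       rw [om_of_mem_spG hg, h.dc]⟩
  set u := lift i c (pten fun _ : {j // j ≠ i} => c)
  have hu : Q u = 0 := hO.quad_lift i h.c_iso _
  have hp : ∀ x, QuadraticMap.polar (⇑Q) u (lift i x y) = 0 := fun x => by
    rw [hO.polar, form_lift, hy, mul_zero, mul_zero]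
  have h1 := hO.rootMem_opposite hS l h' hfull hy
  have h2 := (hO.rootMem_opposite hS l h hfull hy).neg hu (hp δ)
  have h3 := hO.rootMem_block h.c_iso hfull (pten fun _ : {j // j ≠ i} => c) ((om G z z / 2) • y)
  have h4 := RootMem.add hu (hp δ') (by rw [QuadraticMap.polar_neg_right, hp, neg_zero]) h1 h2
  have h5 := RootMem.add hu (by rw [QuadraticMap.polar_add_right, hp, QuadraticMap.polar_neg_right, hp]; simp)
    (by rw [map_smul, ← lift_smul_left, hp]) h4 h3
  have e : lift i δ' y + -lift i δ y + lift i c ((om G z z / 2) • y) = lift i z y := by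
    rw [hδ', map_smul, ← lift_smul_left, ← neg_one_smul F (lift i δ y), ← lift_smul_left, ← lift_add_left,
      ← lift_add_left]
    congr 2
    module
  rwa [e] at h5

/-- All central elements at two blocks make a pure singular tensor full. -/
theorem full_pten {a : ι} (b : {j // j ≠ a}) {c δ : Fin m → F} (h : Hyp G c δ) (ha : CenFull G M a c)
    (hb : CenFull G M (b : ι) c) :
    Full (M.comap (Cfsg.isometryGroup F ⇑Q).subtype) (pten fun _ : ι => c) := by
  classical
  have hG := hO.form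
  set i : ι := (b : ι)
  set a' : {j // j ≠ i} := ⟨a, Ne.symm b.2⟩
  set r : Rest i m → F := pten fun _ : {j // j ≠ i} => c
  set J := gram {j // j ≠ i} G
  set M' := M.comap (Cfsg.isometryGroup F ⇑Q).subtype
  have hui : (pten fun _ : ι => c) = lift i c r := by
    have h1 := lift_pten i c fun _ : ι => c
    rw [Function.update_eq_self_iff.2 rfl] at h1
    exact h1.symm
  intro w hw
  set u := pten fun _ : ι => c
  have hu : Q u = 0 := by rw [hui]; exact hO.quad_lift i h.c_iso r
  let P : ((ι → Fin m) → F) → Prop := fun x => RootMem M' u x ∧ QuadraticMap.polar (⇑Q) u x = 0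
  have hadd : ∀ x y, P x → P y → P (x + y) := fun x y hx hy =>
    ⟨RootMem.add hu hx.2 hy.2 hx.1 hy.1, by rw [QuadraticMap.polar_add_right, hx.2, hy.2, add_zero]⟩
  have hblock : ∀ p, P (lift i c p) := fun p => by
    refine ⟨?_, ?_⟩
    · rw [hui]; exact hO.rootMem_block h.c_iso hb r p
    · rw [hui, hO.polar, form_lift, h.c_iso, zero_mul, mul_zero]
  have hside : ∀ x y, om G c x * (r ⬝ᵥ J *ᵥ y) = 0 → QuadraticMap.polar (⇑Q) u (lift i x y) = 0 :=
    fun x y e => by rw [hui, hO.polar, form_lift, e, mul_zero]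
  set v₀ : Rest i m → F := pten fun _ : {j // j ≠ i} => δ
  have hrv : r ⬝ᵥ J *ᵥ v₀ = 1 := by
    rw [form_pten]; exact Finset.prod_eq_one fun k _ => h.cd hG
  have hv₀ : ∀ z ∈ mid G c δ, RootMem M' u (lift i z v₀) := by
    intro z hz
    obtain ⟨-, -, cz, -⟩ := h.om_mid hG hz
    set xs : ι → Fin m → F := Function.update (fun _ => δ) i z with hxs
    have e1 : lift i z v₀ = pten xs := lift_pten i z fun _ : ι => δ
    have e2 : lift a δ (pten fun j : {j // j ≠ a} => xs j) = pten xs := by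
      rw [lift_pten, Function.update_eq_self_iff.2 (show xs a = δ from Function.update_of_ne (Ne.symm b.2) _ _).symm]
    have e3 : u = lift a c (pten fun _ : {j // j ≠ a} => c) := by
      have h1 := lift_pten a c fun _ : ι => c
      rw [Function.update_eq_self_iff.2 rfl] at h1
      exact h1.symm
    rw [e1, ← e2, e3]
    refine hO.rootMem_opposite hS b h ha ?_
    rw [form_pten]
    exact Finset.prod_eq_zero (Finset.mem_univ b) (by rw [hxs, Function.update_self, cz])
  have hmid : ∀ z ∈ mid G c δ, ∀ q, P (lift i z q) := by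
    intro z hz q
    set s := r ⬝ᵥ J *ᵥ q
    have hq : r ⬝ᵥ J *ᵥ (q - s • v₀) = 0 := by
      rw [mulVec_sub, mulVec_smul, dotProduct_sub, dotProduct_smul, hrv, smul_eq_mul, mul_one, sub_self]
    have h1 : P (lift i z (q - s • v₀)) :=
      ⟨by rw [hui]; exact hO.rootMem_middle hS a' h hb hz hq, hside _ _ (by rw [hq, mul_zero])⟩
    have h2 : P (lift i (s • z) v₀) := ⟨hv₀ _ (Submodule.smul_mem _ s hz),
      hside _ _ (by rw [om_smul_right, (h.om_mid hG hz).2.2.1, mul_zero, zero_mul])⟩
    have h3 := hadd _ _ h1 h2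
    rwa [lift_smul_left, ← map_smul, ← map_add, sub_add_cancel] at h3
  -- the decomposition
  set q : Fin m → Rest i m → F := fun k => proj i (Pi.single k 1) w
  set ks : Fin m → Fin m → F := fun k => Pi.single k 1
  have he : w = lift i c (∑ k, om G (ks k) δ • q k) + lift i δ (∑ k, om G (ks k) c • q k) +
      ∑ k, lift i (proj3 G c δ (ks k)) (q k) := by
    conv_lhs => rw [TWSp.eq_sum_lift i w]
    simp only [map_sum, map_smul, ← lift_smul_left, ← Finset.sum_add_distrib, ← lift_add_left]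
    exact Finset.sum_congr rfl fun k _ => by rw [← Hyp.proj3_eq]
  have hsum : ∑ k, om G (ks k) c • q k = proj i (G *ᵥ c) w := by
    conv_rhs => rw [show G *ᵥ c = ∑ k, (G *ᵥ c) k • (Pi.single k 1 : Fin m → F) by
      funext p; simp [Finset.sum_apply, Pi.single_apply], TWSp.proj_sum_axis]
    refine Finset.sum_congr rfl fun k _ => ?_
    rw [TWSp.proj_smul_axis, om, single_dotProduct, one_mul]
  have hopp : P (lift i δ (∑ k, om G (ks k) c • q k)) := by
    rw [hui, hO.polar, form_proj hG] at hw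
    have hr : r ⬝ᵥ J *ᵥ (∑ k, om G (ks k) c • q k) = 0 := by
      rw [hsum]; exact (mul_eq_zero.mp hw).resolve_left hO.ne
    exact ⟨by rw [hui]; exact hO.rootMem_opposite hS a' h hb hr, hside _ _ (by rw [hr, mul_zero])⟩
  rw [he]
  exact (hadd _ _ (hadd _ _ (hblock _) hopp) (Finset.sum_induction _ P hadd
    ⟨RootMem.zero, by rw [QuadraticMap.polar_zero_right]⟩ fun k _ => hmid _ (proj3_mem hG h _) _)).1

/-- A seed gives `Ω`. -/
theorem omega_le_of_seed (hcyc : Cyc3 M) (hseed : Seed G d M) :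
    Cfsg.Omega F ⇑Q ≤ M.comap (Cfsg.isometryGroup F ⇑Q).subtype := by
  have hG := hO.form
  obtain ⟨a, b, c, δ, f, h, hf, hff, -, x, hx, hxe⟩ := hseed
  obtain ⟨hb, ha⟩ := hS.cenFull_pair h b hcyc hf hff ⟨x, hx, hxe⟩
  have hcard : 5 ≤ Fintype.card (ι → Fin m) := by
    rw [Fintype.card_fun, Fintype.card_fin]
    have h2 : 2 ≤ Fintype.card ι := Fintype.one_lt_card_iff.2 ⟨a, b, Ne.symm b.2⟩
    calc 5 ≤ 3 ^ 2 := by norm_num
      _ ≤ m ^ 2 := Nat.pow_le_pow_left hS.par.three 2
      _ ≤ m ^ Fintype.card ι := Nat.pow_le_pow_right (by have := hS.par.three; omega) h2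
  have hs : ∀ x : Fin m → F, om G x x = 0 → Q (pten fun _ : ι => x) = 0 := fun x hx => by
    rw [hO.quad_eq, form_pten, Finset.prod_eq_zero (Finset.mem_univ a) hx, mul_zero, zero_div]
  refine omega_le_of_full_pair hO.nondeg hcard (hs _ h.c_iso) (hs _ h.d_iso) ?_
    (hO.full_pten hS b h ha hb)
    (hO.full_pten hS b (h.swap hG) (hS.cenFull_swap h ha) (hS.cenFull_swap h hb))
  rw [hO.polar, form_pten, Finset.prod_eq_one fun k _ => h.cd hG, mul_one]
  exact hO.ne

end Full

end OQ

end CfsgLib.TWOr
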