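import Cfsg.Agent.TensorWreathOrth.Factor

/-!
# Pure nilpotent operators in invariant spaces

A space of operators invariant under the groups of all factors which contains a non-scalar operator
contains a non-trivial product of `cen c` and `wedge f c`, with a fixed singular vector `c`.
-/

set_option autoImplicit false
set_option linter.unusedSectionVars false

namespace CfsgLib.TWOr

open Matrix Module CfsgLib.MaxSub CfsgLib.TWreath
open CfsgLib.TWSp (om kr gram proj cen wedge spG gsim IsIso om_add_left om_add_right om_smul_left om_smul_right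
  axis_dot cen_mulVec mem_spG mem_spG_of_om om_of_mem_spG adj kr_mul emb_eq_kr emb_rest)

variable {F : Type*} [Field F] {m : ℕ} {G : Matrix (Fin m) (Fin m) F} {d : F}
  {ι : Type} [Fintype ι] [DecidableEq ι]

theorem adM_pow {n : Type*} [Fintype n] [DecidableEq n] (g : GL n F) (k : ℕ) :
    (adM g : Module.End F (Matrix n n F)) ^ k = adM (g ^ k) := by
  induction k with
  | zero => exact LinearMap.ext fun X => by rw [pow_zero, pow_zero, Module.End.one_apply, adM_apply]; simp
  | succ k ih => exact LinearMap.ext fun X => by rw [pow_succ, pow_succ, Module.End.mul_apply, ih, adM_mul]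

/-- Commuting operators of order `p` fix an element modulo an invariant subspace. -/
theorem exists_fix_mod {V : Type*} [AddCommGroup V] [Module F V] {p : ℕ} [Fact p.Prime] [CharP F p]
    {α : Type*} (T : α → Module.End F V) (hp : ∀ a, T a ^ p = 1) (hc : ∀ a b, Commute (T a) (T b))
    {A B : AddSubgroup V} (hA : ∀ a, ∀ x ∈ A, T a x ∈ A) (hB : ∀ a, ∀ x ∈ B, T a x ∈ B) (hne : ¬ B ≤ A)
    (s : Finset α) : ∃ b ∈ B, b ∉ A ∧ ∀ a ∈ s, T a b - b ∈ A := by
  classical
  induction s using Finset.induction with
  | empty =>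
    obtain ⟨b, hb, hbA⟩ := SetLike.not_le_iff_exists.1 hne
    exact ⟨b, hb, hbA, by simp⟩
  | insert a s _ ih =>
    obtain ⟨b, hb, hbA, hbs⟩ := ih
    set N : Module.End F V := T a - 1 with hN
    have hN0 : N ^ p = 0 := by
      have h1 := congrArg (Polynomial.aeval (T a))
        (sub_pow_char (p := p) (Polynomial.X : Polynomial F) 1)
      simp only [map_sub, map_pow, Polynomial.aeval_X, map_one, one_pow, hp, sub_self] at h1
      exact h1
    have hex : ∃ k, (N ^ k) b ∈ A := ⟨p, by rw [hN0, LinearMap.zero_apply]; exact A.zero_mem⟩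
    have hpos : Nat.find hex ≠ 0 := fun h0 => hbA (by
      have h1 := Nat.find_spec hex
      rwa [h0, pow_zero, Module.End.one_apply] at h1)
    obtain ⟨k, hk⟩ := Nat.exists_eq_succ_of_ne_zero hpos
    have hkA : (N ^ k) b ∉ A := Nat.find_min hex (by omega)
    have hNB : ∀ x ∈ B, ∀ j, (N ^ j) x ∈ B := fun x hx j => by
      induction j with
      | zero => rwa [pow_zero, Module.End.one_apply]
      | succ j ihj =>
        rw [pow_succ', Module.End.mul_apply, hN, LinearMap.sub_apply, Module.End.one_apply]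
        exact B.sub_mem (hB a _ ihj) ihj
    have hNA : ∀ x ∈ A, ∀ j, (N ^ j) x ∈ A := fun x hx j => by
      induction j with
      | zero => rwa [pow_zero, Module.End.one_apply]
      | succ j ihj =>
        rw [pow_succ', Module.End.mul_apply, hN, LinearMap.sub_apply, Module.End.one_apply]
        exact A.sub_mem (hA a _ ihj) ihj
    refine ⟨_, hNB b hb k, hkA, fun x hx => ?_⟩
    rcases Finset.mem_insert.1 hx with rfl | hx
    · have h1 := Nat.find_spec hex
      rwa [hk, pow_succ', Module.End.mul_apply, hN, LinearMap.sub_apply, Module.End.one_apply] at h1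
    · have hcm : Commute (T x) (N ^ k) := ((hc x a).sub_right (Commute.one_right _)).pow_right k
      rw [← Module.End.mul_apply, hcm.eq, Module.End.mul_apply, ← map_sub]
      exact hNA _ (hbs x hx) k

/-! ### Entries along one factor -/

/-- The entry of an operator in the other factors. -/
def ent (j : ι) (C : Matrix (ι → Fin m) (ι → Fin m) F) (r s : Rest j m) : Matrix (Fin m) (Fin m) F :=
  fun p q => C (extend j p r) (extend j q s)

theorem ext_ent {j : ι} {A B : Matrix (ι → Fin m) (ι → Fin m) F} (h : ∀ r s, ent j A r s = ent j B r s) :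
    A = B := by
  ext a b
  have h1 := congrFun (congrFun (h (fun k => a k) fun k => b k) (a j)) (b j)
  simpa only [ent, TWSp.extend_eta] using h1

theorem ent_sub (j : ι) (A B : Matrix (ι → Fin m) (ι → Fin m) F) (r s : Rest j m) :
    ent j (A - B) r s = ent j A r s - ent j B r s := rfl

theorem ent_smul (j : ι) (k : F) (A : Matrix (ι → Fin m) (ι → Fin m) F) (r s : Rest j m) :
    ent j (k • A) r s = k • ent j A r s := rfl

theorem ent_kr (j : ι) (A : Matrix (Fin m) (Fin m) F) (B : Matrix (Rest j m) (Rest j m) F) (r s : Rest j m) :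
    ent j (kr j A B) r s = B r s • A := by
  ext p q
  simp [ent, kr, extend_self, extend_rest, mul_comm]

theorem emb_apply_extend (j : ι) (A : Matrix (Fin m) (Fin m) F) (p q : Fin m) (r s : Rest j m) :
    emb j A (extend j p r) (extend j q s) = A p q * (1 : Matrix (Rest j m) (Rest j m) F) r s := by
  rw [emb_eq_kr, kr, extend_self, extend_self, extend_rest, extend_rest]

theorem ent_emb_mul (j : ι) (A : Matrix (Fin m) (Fin m) F) (C : Matrix (ι → Fin m) (ι → Fin m) F)
    (r s : Rest j m) : ent j (emb j A * C) r s = A * ent j C r s := by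
  ext p q
  show (emb j A * C) (extend j p r) (extend j q s) = _
  rw [mul_apply, ← (TWSp.splitEquiv j).symm.sum_comp, Fintype.sum_prod_type, mul_apply]
  refine Finset.sum_congr rfl fun k _ => ?_
  show ∑ b, emb j A (extend j p r) (extend j k b) * C (extend j k b) (extend j q s) = _
  rw [Finset.sum_eq_single r]
  · rw [emb_apply_extend, Matrix.one_apply_eq, mul_one]; rfl
  · intro b _ hb
    rw [emb_apply_extend, Matrix.one_apply_ne hb.symm, mul_zero, zero_mul]
  · simp

theorem ent_mul_emb (j : ι) (A : Matrix (Fin m) (Fin m) F) (C : Matrix (ι → Fin m) (ι → Fin m) F)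
    (r s : Rest j m) : ent j (C * emb j A) r s = ent j C r s * A := by
  ext p q
  show (C * emb j A) (extend j p r) (extend j q s) = _
  rw [mul_apply, ← (TWSp.splitEquiv j).symm.sum_comp, Fintype.sum_prod_type, mul_apply]
  refine Finset.sum_congr rfl fun k _ => ?_
  show ∑ b, C (extend j p r) (extend j k b) * emb j A (extend j k b) (extend j q s) = _
  rw [Finset.sum_eq_single s]
  · rw [emb_apply_extend, Matrix.one_apply_eq, mul_one]; rfl
  · intro b _ hb
    rw [emb_apply_extend, Matrix.one_apply_ne hb, mul_zero, mul_zero]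
  · simp

theorem ent_adM (j : ι) (h : GL (Fin m) F) (C : Matrix (ι → Fin m) (ι → Fin m) F) (r s : Rest j m) :
    ent j (adM (embG j h) C) r s = adM h (ent j C r s) := by
  rw [adM_apply, adM_apply, ← map_inv, embG_val, embG_val, ent_mul_emb, ent_emb_mul]

theorem adM_kr (j : ι) (h : GL (Fin m) F) (A : Matrix (Fin m) (Fin m) F) (B : Matrix (Rest j m) (Rest j m) F) :
    adM (embG j h) (kr j A B) = kr j (adM h A) B := by
  rw [adM_apply, adM_apply, ← map_inv, embG_val, embG_val, emb_eq_kr, emb_eq_kr, kr_mul, kr_mul,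
    Matrix.one_mul, Matrix.mul_one]

theorem adM_kr_rest (j : ι) (l : {k // k ≠ j}) (h : GL (Fin m) F) (A : Matrix (Fin m) (Fin m) F)
    (B : Matrix (Rest j m) (Rest j m) F) :
    adM (embG (l : ι) h) (kr j A B) = kr j A (adM (embG l h) B) := by
  rw [adM_apply, adM_apply, ← map_inv, ← map_inv, embG_val, embG_val, embG_val, embG_val, emb_rest, emb_rest,
    kr_mul, kr_mul, Matrix.one_mul, Matrix.mul_one]

/-- A space of operators invariant under the groups of all factors. -/
def InvSub (G : Matrix (Fin m) (Fin m) F) (d : F)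
    (V : Submodule F (Matrix (ι → Fin m) (ι → Fin m) F)) : Prop :=
  ∀ (j : ι), ∀ h ∈ fgrp G d, ∀ a ∈ V, adM (embG j h) a ∈ V

/-- The nilpotent types at a singular vector. -/
def LowT (G : Matrix (Fin m) (Fin m) F) (d : F) (c δ : Fin m → F) (T : Matrix (Fin m) (Fin m) F) : Prop :=
  T = cen G c ∨ ∃ f ∈ mid G c δ, om G f f ≠ 0 ∧ (m = 3 ∨ Kap G d f) ∧ T = wedge G f c

variable [Finite F] {c δ : Fin m → F}

theorem LowT.kills (hG : OForm G) (h : Hyp G c δ) {T : Matrix (Fin m) (Fin m) F} (hT : LowT G d c δ T) :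
    T *ᵥ c = 0 := by
  rcases hT with rfl | ⟨f, hf, -, -, rfl⟩
  · rw [cen_mulVec, h.c_iso, zero_smul]
  · rw [wedge_mulVec, h.c_iso, (h.om_mid hG hf).2.2.1, zero_smul, zero_smul, sub_zero]

theorem LowT.ne_one (hG : OForm G) (h : Hyp G c δ) {T : Matrix (Fin m) (Fin m) F} (hT : LowT G d c δ T) :
    T ≠ 1 := by
  intro e
  have := hT.kills hG h
  rw [e, one_mulVec] at this
  exact h.c_ne this

theorem LowT.ne_zero (hG : OForm G) (h : Hyp G c δ) {T : Matrix (Fin m) (Fin m) F} (hT : LowT G d c δ T) :
    T ≠ 0 := by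
  intro e
  have h1 : T *ᵥ δ = 0 := by rw [e, zero_mulVec]
  rcases hT with rfl | ⟨f, hf, hff, -, rfl⟩
  · rw [cen_mulVec, h.dc, one_smul] at h1
    exact h.c_ne h1
  · rw [wedge_mulVec, h.dc, (h.om_mid hG hf).2.2.2, one_smul, zero_smul, sub_zero] at h1
    exact hff (by rw [h1, om_zero_left])

/-! ### Lowering -/

set_option maxHeartbeats 800000 in
/-- One step of lowering. -/
theorem lower_step (hP : Par G d) (h : Hyp G c δ) {j : ι}
    {V : Submodule F (Matrix (ι → Fin m) (ι → Fin m) F)}
    (hV : ∀ g ∈ fgrp G d, ∀ a ∈ V, adM (embG j g) a ∈ V) {a : Matrix (ι → Fin m) (ι → Fin m) F} (ha : a ∈ V)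
    (hna : ∀ Q, a ≠ kr j 1 Q) : ∃ T Q, LowT G d c δ T ∧ Q ≠ 0 ∧ kr j T Q ∈ V := by
  classical
  have hG := hP.form
  obtain ⟨p, hp'⟩ := CharP.exists F
  have : Fact p.Prime := ⟨CharP.char_is_prime F p⟩
  let k1 : Matrix (Rest j m) (Rest j m) F →ₗ[F] Matrix (ι → Fin m) (ι → Fin m) F :=
    { toFun := kr j 1
      map_add' := TWSp.kr_add_right j 1
      map_smul' := fun k L => TWSp.kr_smul_right j k 1 L }
  set A := LinearMap.range k1
  have : Fintype (mid G c δ) := Fintype.ofFinite _
  set T : mid G c δ → Module.End F (Matrix (ι → Fin m) (ι → Fin m) F) :=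
    fun z => adM (embG j (sieG G c z.1)) with hT
  have hiso : ∀ z ∈ mid G c δ, om G z c = 0 := fun z hz => (h.om_mid hG hz).1
  have hpow : ∀ z : mid G c δ, ∀ k : ℕ, sieG G c z.1 ^ k = sieG G c ((k : F) • z.1) := fun z k => by
    induction k with
    | zero => rw [pow_zero, Nat.cast_zero, zero_smul, sieG_zero hG h.c_iso]
    | succ k ih =>
      rw [pow_succ, ih, sieG_mul hG h.c_iso (hiso _ (Submodule.smul_mem _ _ z.2)) (hiso _ z.2), Nat.cast_succ,
        add_smul, one_smul]
  obtain ⟨b, hbV, hbA, hbfix⟩ := exists_fix_mod (p := p) T (A := A.toAddSubgroup) (B := V.toAddSubgroup) (fun z => by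
      rw [hT]
      show (adM (embG j (sieG G c z.1)) : Module.End F _) ^ p = 1
      rw [adM_pow, ← map_pow, hpow, CharP.cast_eq_zero, zero_smul, sieG_zero hG h.c_iso, map_one]
      exact LinearMap.ext fun X => by rw [adM_apply, Module.End.one_apply]; simp)
    (fun z w => LinearMap.ext fun X => by
      rw [Module.End.mul_apply, Module.End.mul_apply, hT]
      show adM _ (adM _ X) = adM _ (adM _ X)
      rw [← adM_mul, ← adM_mul, ← map_mul, ← map_mul, sieG_mul hG h.c_iso (hiso _ z.2) (hiso _ w.2),
        sieG_mul hG h.c_iso (hiso _ w.2) (hiso _ z.2), add_comm])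
    (fun z x hx => by
      obtain ⟨Q, rfl⟩ := hx
      refine ⟨Q, ?_⟩
      show kr j 1 Q = adM _ (kr j 1 Q)
      rw [adM_kr, adM_one_right])
    (fun z x hx => hV _ (sieG_mem_fgrp h.c_iso (hiso _ z.2)) x hx)
    (fun hle => by
      obtain ⟨Q, hQ⟩ := hle ha
      exact hna Q hQ.symm) Finset.univ
  -- the entries are fixed by the Siegel group
  have hfix : ∀ r s, ∀ z ∈ mid G c δ,
      sieM G c z * ent j b r s = ent j b r s * sieM G c z := by
    intro r s
    set X := ent j b r s
    have hsh : ∀ z : mid G c δ, ∃ k : F, adM (sieG G c z.1) X = X + k • 1 := fun z => by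
      obtain ⟨Q, hQ⟩ := hbfix z (Finset.mem_univ z)
      refine ⟨Q r s, ?_⟩
      have h1 := congrArg (fun C => ent j C r s) hQ
      simp only [ent_sub, hT, ent_adM] at h1
      rw [show k1 Q = kr j 1 Q from rfl, ent_kr] at h1
      rw [h1]; abel
    choose χ hχ using hsh
    set χ' : (Fin m → F) → F := fun z => if hz : z ∈ mid G c δ then χ ⟨z, hz⟩ else 0
    have hX : ∀ z ∈ mid G c δ, sieM G c z * X = (X + χ' z • 1) * sieM G c z := fun z hz => by
      have h1 := eq_of_adM (hχ ⟨z, hz⟩)
      rw [sieG_val hG h.c_iso (hiso z hz)] at h1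
      simp only [χ', dif_pos hz]
      exact h1
    intro z hz
    rw [hX z hz, h.shift_zero hP X χ' hX hz, zero_smul, add_zero]
  have hform := fun r s => h.fix_form hG (ent j b r s) (hfix r s) (h.exists_mid_aniso hP)
  set v : Rest j m → Rest j m → Fin m → F := fun r s => proj3 G c δ (ent j b r s *ᵥ δ) with hv
  by_cases hw : ∀ r s, v r s = 0
  · -- only the central part
    set B : Matrix (Rest j m) (Rest j m) F := fun r s => om G (ent j b r s *ᵥ δ) δ with hB
    refine ⟨cen G c, B, Or.inl rfl, fun hB0 => hbA ?_, ?_⟩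
    · refine ⟨Matrix.of fun r s => om G (ent j b r s *ᵥ δ) c, ext_ent (j := j) fun r s => ?_⟩
      simp only [k1, LinearMap.coe_mk, AddHom.coe_mk]
      have hB' : om G (ent j b r s *ᵥ δ) δ = 0 := congrFun (congrFun hB0 r) s
      have hv' : proj3 G c δ (ent j b r s *ᵥ δ) = 0 := hw r s
      rw [ent_kr, Matrix.of_apply]
      conv_rhs => rw [hform r s, hB', hv']
      simp [wedge]
    · let kB : Matrix (Fin m) (Fin m) F →ₗ[F] Matrix (ι → Fin m) (ι → Fin m) F :=
        { toFun := fun X => kr j X B
          map_add' := fun X Y => TWSp.kr_add_left j X Y B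
          map_smul' := fun k X => TWSp.kr_smul_left j k X B }
      refine h.cen_mem hP (W := V.comap kB) fun g hg => ?_
      show kB _ ∈ V
      have h1 := V.sub_mem (hV g hg b hbV) hbV
      convert h1 using 1
      refine ext_ent (j := j) fun r s => ?_
      show ent j (kr j _ B) r s = _
      rw [ent_kr, ent_sub, ent_adM, hB]
      conv_rhs => rw [hform r s, show proj3 G c δ (ent j b r s *ᵥ δ) = 0 from hw r s]
      simp only [map_add, map_smul, adM_one_right, adM_cen (fgrp_le hG hg), wedge_zero, map_zero]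
      module
  · push Not at hw
    obtain ⟨r0, s0, hrs⟩ := hw
    have hvm : ∀ r s, v r s ∈ mid G c δ := fun r s => proj3_mem hG h _
    rcases eq_or_ne m 3 with hm | hm
    · obtain ⟨z, hz, hzz⟩ := h.exists_mid_aniso hP
      obtain ⟨t, ht, ht1⟩ := exists_sq_ne (hP.five hm)
      obtain ⟨τ, hτ, hτc, hτz⟩ := h.exists_torus hP ht
      have hτG := fgrp_le hG hτ
      set μ := t * t
      set Q : Matrix (Rest j m) (Rest j m) F :=
        fun r s => (μ - 1) * (μ - μ * μ) * (om G (v r s) z / om G z z) with hQ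
      refine ⟨wedge G z c, Q, Or.inr ⟨z, hz, hzz, Or.inl hm, rfl⟩, fun hQ0 => ?_, ?_⟩
      · have h1 : Q r0 s0 = 0 := congrFun (congrFun hQ0 r0) s0
        have h2 : μ ≠ 0 := mul_ne_zero ht ht
        simp only [hQ, mul_eq_zero, div_eq_zero_iff, hzz, or_false, sub_eq_zero] at h1
        rcases h1 with (h1 | h1) | h1
        · exact ht1 h1
        · exact ht1 ((mul_eq_left₀ h2).1 h1.symm)
        · apply hrs
          rw [h.mid_three hP hm hz hzz (hvm r0 s0), h1, zero_div, zero_smul]
      · set D := adM (embG j τ) b - b with hD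
        have hDV : D ∈ V := V.sub_mem (hV τ hτ b hbV) hbV
        have h1 := V.sub_mem (hV τ hτ D hDV) (V.smul_mem (μ * μ) hDV)
        convert h1 using 1
        refine ext_ent (j := j) fun r s => ?_
        rw [ent_kr, ent_sub, ent_smul, ent_adM, hD, ent_sub, ent_adM, hQ]
        conv_rhs => rw [hform r s]
        rw [show proj3 G c δ (ent j b r s *ᵥ δ) = (om G (v r s) z / om G z z) • z from
          h.mid_three hP hm hz hzz (hvm r s)]
        simp only [map_sub, map_add, map_smul, wedge_smul_left, adM_one_right, adM_cen hτG, adM_wedge hG hτG,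
          hτc, hτz z hz, cen_smul, mulVec_smul]
        simp only [wedge, mulVec_smul, vecMulVec_smul, smul_vecMulVec]
        module
    · have hm4 : 4 ≤ m := by have := hP.three; omega
      let L : (Fin m → F) →ₗ[F] F :=
        { toFun := fun x => om G (v r0 s0) x
          map_add' := fun x y => om_add_right _ x y
          map_smul' := fun k x => om_smul_right k _ x }
      obtain ⟨f, hf, hfk, hLf⟩ : ∃ f ∈ mid G c δ, Kap G d f ∧ om G (v r0 s0) f ≠ 0 := by
        by_contra! hcon
        refine hrs (hG.ext fun y => ?_)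
        have h1 := eq_zero_of_kap h hP hm4 L hcon (proj3_mem hG h y)
        obtain ⟨v1, v2, -, -⟩ := h.om_mid hG (hvm r0 s0)
        rw [om_zero_right, hG.comm y]
        conv_lhs => rw [Hyp.proj3_eq (G := G) (c := c) (δ := δ) y]
        show _ = 0
        rw [om_add_right, om_add_right, om_smul_right, om_smul_right, v1, v2, mul_zero, mul_zero, zero_add,
          zero_add]
        exact h1
      obtain ⟨fc, -, cf, -⟩ := h.om_mid hG hf
      have hrG := fgrp_le hG (refG_mem_fgrp hfk)
      set Q : Matrix (Rest j m) (Rest j m) F :=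
        fun r s => 2 / om G f f * om G (v r s) f with hQ
      refine ⟨wedge G f c, Q, Or.inr ⟨f, hf, hfk.ne, Or.inr hfk, rfl⟩, fun hQ0 => ?_, ?_⟩
      · exact hLf ((mul_eq_zero.1 (congrFun (congrFun hQ0 r0) s0)).resolve_left
          (div_ne_zero hG.two hfk.ne))
      · have h1 := V.sub_mem hbV (hV _ (refG_mem_fgrp hfk) b hbV)
        convert h1 using 1
        refine ext_ent (j := j) fun r s => ?_
        rw [ent_kr, ent_sub, ent_adM, hQ]
        conv_rhs => rw [hform r s]
        simp only [map_add, map_smul, adM_one_right, adM_cen hrG, adM_wedge hG hrG, refG_val hfk.ne,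
          refM_fix cf]
        rw [refM_mulVec, wedge_sub_left, wedge_smul_left]
        module
where
  wedge_zero : wedge G 0 c = 0 := by simp [wedge]

/-- An invariant space with a non-scalar element contains a product of standard nilpotent matrices. -/
theorem lowering (hP : Par G d) (h : Hyp G c δ) : ∀ (n : ℕ) (ι : Type) [Fintype ι] [DecidableEq ι],
    Fintype.card ι = n → ∀ (V : Submodule F (Matrix (ι → Fin m) (ι → Fin m) F)), InvSub G d V →
    ∀ a ∈ V, (∀ s : F, a ≠ s • 1) →
    ∃ gs : ι → Matrix (Fin m) (Fin m) F, Pt gs ∈ V ∧ (∀ k, gs k = 1 ∨ LowT G d c δ (gs k)) ∧ ∃ k, gs k ≠ 1 := by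
  intro n
  induction n using Nat.strong_induction_on with
  | _ n ih =>
    intro ι _ _ hn V hV a ha hs
    have : NeZero m := ⟨by have := hP.three; omega⟩
    have hG := hP.form
    obtain ⟨j, hj⟩ : ∃ j, ∀ Q, a ≠ kr j 1 Q := by
      by_contra! hcon
      obtain ⟨s, hs'⟩ := TWSp.scalar_of_comm_emb fun l A => show a * emb l A = emb l A * a by
        obtain ⟨Q, hQ⟩ := hcon l
        rw [hQ, emb_eq_kr, kr_mul, kr_mul, Matrix.one_mul, Matrix.mul_one, Matrix.one_mul, Matrix.mul_one]
      exact hs s hs'
    obtain ⟨T, Q, hT, hQ, hTQ⟩ := lower_step hP h (hV j) ha hj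
    by_cases hQs : ∃ s : F, Q = s • 1
    · obtain ⟨s, rfl⟩ := hQs
      refine ⟨Function.update 1 j T, ?_, fun k => ?_, j, by rw [Function.update_self]; exact hT.ne_one hG h⟩
      · have hs0 : s ≠ 0 := fun e => hQ (by rw [e, zero_smul])
        rw [TWSp.kr_smul_right, ← emb_eq_kr] at hTQ
        exact (V.smul_mem_iff hs0).1 hTQ
      · rcases eq_or_ne k j with rfl | hk
        · exact Or.inr (by rwa [Function.update_self])
        · exact Or.inl (by rw [Function.update_of_ne hk]; rfl)
    push Not at hQs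
    let f : Matrix (Rest j m) (Rest j m) F →ₗ[F] Matrix (ι → Fin m) (ι → Fin m) F :=
      { toFun := kr j T
        map_add' := fun L K => TWSp.kr_add_right j T L K
        map_smul' := fun k L => TWSp.kr_smul_right j k T L }
    have hV' : InvSub G d (V.comap f) := by
      intro l g hg b hb
      show kr j T _ ∈ V
      rw [← adM_kr_rest]
      exact hV (l : ι) g hg _ hb
    have hlt : Fintype.card {k // k ≠ j} < n := by
      rw [← hn]; exact Fintype.card_subtype_lt (x := j) (by simp)
    obtain ⟨gs, hgs, hty, -⟩ := ih _ hlt {k // k ≠ j} rfl (V.comap f) hV' Q hTQ hQs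
    refine ⟨fun k => if h' : k = j then T else gs ⟨k, h'⟩, ?_, fun k => ?_, j, by
      simpa using hT.ne_one hG h⟩
    · rw [TWSp.Pt_eq_kr _ j]
      show kr j (if h' : j = j then T else gs ⟨j, h'⟩) _ ∈ V
      rw [dif_pos rfl, show (fun k : {k // k ≠ j} => if h' : (k : ι) = j then T else gs ⟨k, h'⟩) = gs from
        funext fun k => dif_neg k.2]
      exact hgs
    · by_cases hk : k = j
      · refine Or.inr ?_
        show LowT G d c δ (if h' : k = j then T else gs ⟨k, h'⟩)
        rw [dif_pos hk]; exact hT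
      · simp only [dif_neg hk]; exact hty _

end CfsgLib.TWOr
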