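import Cfsg.Agent.TensorWreathOrth.Span

/-!
# The unipotent radical at a singular block

Either `M` contains the seed `1 + cen ⊗ wedge` of two factors, or its elements that are unipotent at a
block of a singular vector are the Siegel elements of that factor.
-/

set_option autoImplicit false
set_option linter.unusedSectionVars false

namespace CfsgLib.TWOr

open Matrix Module CfsgLib.MaxSub CfsgLib.TWreath
open CfsgLib.TWSp (om kr gram proj cen wedge spG gsim IsIso om_add_left om_add_right om_smul_left om_smul_right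
  axis_dot cen_mulVec mem_spG mem_spG_of_om om_of_mem_spG adj kr_mul emb_eq_kr emb_rest kr_mulVec_lift form_lift
  isIso_embG adj_smul adj_one)

variable {F : Type*} [Field F] {m : ℕ} {G : Matrix (Fin m) (Fin m) F} {d : F}
  {ι : Type} [Fintype ι] [DecidableEq ι]

/-- `M` contains `1 + cen ⊗ wedge` in two factors. -/
def Seed (G : Matrix (Fin m) (Fin m) F) (d : F) (M : Subgroup (GL (ι → Fin m) F)) : Prop :=
  ∃ (a : ι) (b : {k // k ≠ a}) (c δ f : Fin m → F), Hyp G c δ ∧ f ∈ mid G c δ ∧ om G f f ≠ 0 ∧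
    (m = 3 ∨ Kap G d f) ∧
    ∃ x ∈ M, (x : Matrix (ι → Fin m) (ι → Fin m) F) = 1 + kr a (cen G c) (emb b (wedge G f c))

/-- An operator commuting with a factor. -/
theorem exists_kr_of_comm [NeZero m] (j : ι) {C : Matrix (ι → Fin m) (ι → Fin m) F}
    (h : ∀ X, C * emb j X = emb j X * C) : ∃ K, C = kr j 1 K := by
  classical
  refine ⟨Matrix.of fun r s => ent j C r s 0 0, ext_ent (j := j) fun r s => ?_⟩
  rw [ent_kr, Matrix.of_apply]
  obtain ⟨k, hk⟩ := Matrix.mem_range_scalar_of_commute_single (M := ent j C r s) fun p q _ => by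
    show Commute _ _
    have h1 := congrArg (fun A => ent j A r s) (h (Matrix.single p q 1))
    simp only [ent_mul_emb, ent_emb_mul] at h1
    exact h1.symm
  rw [← hk, Matrix.scalar_apply, smul_one_eq_diagonal]
  simp

theorem adj_zero' {n : Type*} [Fintype n] [DecidableEq n] (J : Matrix n n F) : adj J 0 = 0 := by
  rw [adj, transpose_zero, Matrix.mul_zero, Matrix.zero_mul]

theorem exists_dot_one {n : Type*} [Fintype n] [DecidableEq n] {x : n → F} (hx : x ≠ 0) :
    ∃ f : n → F, f ⬝ᵥ x = 1 := by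
  obtain ⟨j, hj⟩ := Function.ne_iff.mp hx
  exact ⟨Pi.single j (x j)⁻¹, by rw [single_dotProduct]; exact inv_mul_cancel₀ hj⟩

variable {c δ : Fin m → F}

/-- The operators of the central elements of a block. -/
def cenSub (M : Subgroup (GL (ι → Fin m) F)) (i : ι) (hcc : om G c c = 0) :
    AddSubgroup (Matrix (Rest i m) (Rest i m) F) where
  carrier := {b | ∃ x ∈ M, (x : Matrix (ι → Fin m) (ι → Fin m) F) = 1 + kr i (cen G c) b}
  zero_mem' := ⟨1, M.one_mem, by rw [TWSp.kr_zero_right, add_zero, Units.val_one]⟩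
  add_mem' := by
    rintro b b' ⟨x, hx, he⟩ ⟨x', hx', he'⟩
    refine ⟨x * x', M.mul_mem hx hx', ?_⟩
    rw [Units.val_mul, he, he', add_mul, one_mul, mul_add, mul_one, kr_mul, cen_sq hcc, TWSp.kr_zero_left,
      add_zero, TWSp.kr_add_right]
    abel
  neg_mem' := by
    rintro b ⟨x, hx, he⟩
    refine ⟨x⁻¹, M.inv_mem hx, Units.inv_eq_of_mul_eq_one_right ?_⟩
    rw [he, TWSp.kr_neg_right, add_mul, one_mul, mul_add, mul_one, mul_neg, kr_mul, cen_sq hcc,
      TWSp.kr_zero_left, neg_zero, add_zero, neg_add_cancel_right]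

/-- The matrices of the typed elements. -/
def Typed (G : Matrix (Fin m) (Fin m) F) (M : Subgroup (GL (ι → Fin m) F)) (i : ι) (c a : Fin m → F)
    (K : Matrix (Rest i m) (Rest i m) F) : Prop :=
  ∃ x ∈ M, ∃ β, HasBeta G i c x β ∧ ∀ y, om G y c = 0 → β y = om G y a • K

theorem InvSub.conj_Pt {V : Submodule F (Matrix (ι → Fin m) (ι → Fin m) F)} (hV : InvSub G d V)
    {hs : ι → GL (Fin m) F} (hh : ∀ k, hs k ∈ fgrp G d) {gs : ι → Matrix (Fin m) (Fin m) F} (ha : Pt gs ∈ V) :
    Pt (fun k => adM (hs k) (gs k)) ∈ V := by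
  classical
  suffices ∀ S : Finset ι, Pt (fun k => if k ∈ S then adM (hs k) (gs k) else gs k) ∈ V by
    simpa using this Finset.univ
  intro S
  induction S using Finset.induction with
  | empty => simpa using ha
  | insert j S hj ih =>
    have h1 := hV j (hs j) (hh j) _ ih
    convert h1 using 1
    rw [adM_apply, ← map_inv, embG_val, embG_val, emb, emb, Pt_mul, Pt_mul]
    congr 1
    funext k
    rcases eq_or_ne k j with rfl | hk
    · simp [adM_apply, hj]
    · simp [hk]

variable [Finite F] {M : Subgroup (GL (ι → Fin m) F)} {i : ι}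

theorem adj_lowT (hG : OForm G) {T : Matrix (Fin m) (Fin m) F} (hT : T = 1 ∨ LowT G d c δ T) :
    ∃ ε : F, ε * ε = 1 ∧ adj G T = ε • T := by
  rcases hT with rfl | rfl | ⟨f, -, -, -, rfl⟩
  · exact ⟨1, one_mul 1, by rw [adj_one hG.det, one_smul]⟩
  · exact ⟨1, one_mul 1, by rw [hG.adj_cen, one_smul]⟩
  · exact ⟨-1, by ring, by rw [hG.adj_wedge, neg_one_smul]⟩

namespace Setting

variable (hS : Setting G d M) (h : Hyp G c δ)

include hS h

theorem exists_kap_mid : ∃ f ∈ mid G c δ, om G f f ≠ 0 ∧ (m = 3 ∨ Kap G d f) := by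
  rcases eq_or_ne m 3 with hm | hm
  · obtain ⟨f, hf, hff⟩ := h.exists_mid_aniso hS.par
    exact ⟨f, hf, hff, Or.inl hm⟩
  · obtain ⟨f, hf, hk⟩ := exists_kap hS.par (nonDeg_perp hS.par.form (h.nonDeg hS.par.form)) (by
      have := h.finrank_mid hS.par.form
      have := hS.par.three
      show 2 ≤ finrank F (mid G c δ)
      omega)
    exact ⟨f, hf, hk.ne, Or.inr hk⟩

theorem typed_zero (f : Fin m → F) : Typed G M i c f 0 :=
  ⟨1, M.one_mem, fun _ => 0, ⟨by rw [IsIso]; simp, rfl, fun y _ u => by simp⟩, fun y _ => by simp⟩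

theorem typed_sq {f : Fin m → F} (hf : f ∈ mid G c δ) {K : Matrix (Rest i m) (Rest i m) F}
    (hK : Typed G M i c f K) (s : F) : Typed G M i c f ((s * s) • K) := by
  have hG := hS.par.form
  rcases eq_or_ne s 0 with rfl | hs
  · rw [mul_zero, zero_smul]; exact hS.typed_zero h f
  obtain ⟨τ, hτ, hτc, hτz⟩ := h.exists_torus hS.par hs
  have hτG := fgrp_le hG hτ
  obtain ⟨x, hx, β, hβ, hβK⟩ := hK
  refine ⟨_, M.mul_mem (M.mul_mem (hS.mem i hτ) hx) (M.inv_mem (hS.mem i hτ)), _,
    hβ.conj hG h.c_ne h.c_iso hτG (mul_ne_zero hs hs) hτc, fun y hy => ?_⟩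
  set y' := ((τ⁻¹ : GL (Fin m) F) : Matrix (Fin m) (Fin m) F) *ᵥ y with hy'
  have hτy : (τ : Matrix (Fin m) (Fin m) F) *ᵥ y' = y := by rw [hy', mulVec_mulVec, Units.mul_inv, one_mulVec]
  have e1 : om G y' c = 0 := by
    have := om_of_mem_spG hτG y' c
    rw [hτy, hτc, om_smul_right, hy, mul_zero] at this
    exact this.symm
  have e2 : om G y' f = om G y f := by
    have := om_of_mem_spG hτG y' f
    rw [hτy, hτz f hf] at this
    exact this.symm
  show (s * s) • β y' = _
  rw [hβK y' e1, e2, smul_comm]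

/-- The span of the matrices of one type. -/
def typedSub {f : Fin m → F} (hf : f ∈ mid G c δ) : Submodule F (Matrix (Rest i m) (Rest i m) F) where
  carrier := {K | Typed G M i c f K}
  zero_mem' := hS.typed_zero h f
  add_mem' := by
    rintro K K' ⟨x, hx, β, hβ, hK⟩ ⟨x', hx', β', hβ', hK'⟩
    exact ⟨x * x', M.mul_mem hx hx', _, hβ.mul hS.par.form h.c_ne h.c_iso hβ', fun y hy => by
      show β y + β' y = _
      rw [hK y hy, hK' y hy, smul_add]⟩
  smul_mem' := by
    intro k K hK
    have h2 := hS.par.form.two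
    obtain ⟨x, hx, β, hβ, hβK⟩ := hS.typed_sq h hf hK ((k + 1) / 2)
    obtain ⟨x', hx', β', hβ', hβK'⟩ := hS.typed_sq h hf hK ((k - 1) / 2)
    refine ⟨x * x'⁻¹, M.mul_mem hx (M.inv_mem hx'), _,
      hβ.mul hS.par.form h.c_ne h.c_iso (hβ'.inv hS.par.form h.c_ne h.c_iso), fun y hy => ?_⟩
    show β y + -β' y = _
    rw [hβK y hy, hβK' y hy]
    match_scalars
    field_simp
    ring

theorem typed_invSub {f : Fin m → F} (hf : f ∈ mid G c δ) : InvSub G d (hS.typedSub (i := i) h hf) := by
  rintro l g hg K ⟨x, hx, β, hβ, hK⟩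
  refine ⟨_, M.mul_mem (M.mul_mem (hS.mem l hg) hx) (M.inv_mem (hS.mem l hg)), _,
    hβ.conj_rest hS.par.form h.c_ne h.c_iso l (fgrp_le hS.par.form hg), fun y hy => ?_⟩
  simp only [hK y hy, map_smul]

set_option maxHeartbeats 800000 in
/-- A typed non-scalar matrix gives a seed. -/
theorem typed_scalar (hns : ¬ Seed G d M) {f : Fin m → F} (hf : f ∈ mid G c δ) (hff : om G f f ≠ 0)
    {K : Matrix (Rest i m) (Rest i m) F} (hK : Typed G M i c f K) : ∃ s : F, K = s • 1 := by
  classical
  by_contra hcon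
  push Not at hcon
  have hP := hS.par
  have hG := hP.form
  have h2 := hG.two
  obtain ⟨gs, hgs, hty, k0, hk0⟩ := lowering hP h _ {j // j ≠ i} rfl (hS.typedSub (i := i) h hf)
    (hS.typed_invSub h hf) K hK hcon
  set T := hS.typedSub (i := i) h hf
  set J := gram {j // j ≠ i} G
  have hJ : IsUnit J.det := oForm_det hG
  let C := cenSub (G := G) (c := c) M i h.c_iso
  have hfc := (h.om_mid hG hf).1
  have hcomm : ∀ A ∈ T, ∀ B ∈ T, A * adj J B - B * adj J A ∈ C := by
    intro A hA B hB
    obtain ⟨x', hx', β', hβ', hK'⟩ := T.smul_mem (om G f f)⁻¹ hA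
    obtain ⟨x, hx, β, hβ, hKB⟩ := hB
    refine ⟨_, M.mul_mem (M.mul_mem hx hx') (M.inv_mem (M.mul_mem hx' hx)), ?_⟩
    rw [hβ.comm_typed hG h.c_ne h.c_iso hfc hfc hβ' hKB hK', adj_smul, Matrix.smul_mul, Matrix.mul_smul,
      ← smul_sub, smul_smul, mul_inv_cancel₀ hff, one_smul]
  -- the slots
  set Slot : {j // j ≠ i} → Matrix (Fin m) (Fin m) F → Prop := fun k X =>
    ∃ (t : F) (g g' : GL (Fin m) F), g ∈ fgrp G d ∧ g' ∈ fgrp G d ∧
      X = t • (adM g (gs k) * adj G (adM g' (gs k))) with hSlot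
  set Ψ : ({j // j ≠ i} → Matrix (Fin m) (Fin m) F) → Prop := fun P => Pt P - adj J (Pt P) ∈ C with hΨ
  have hbase : ∀ P, (∀ k, Slot k (P k)) → Ψ P := by
    intro P hPs
    choose t g g' hg hg' hX using hPs
    have hA : (∏ k, t k) • Pt (fun k => adM (g k) (gs k)) ∈ T :=
      T.smul_mem _ (InvSub.conj_Pt (hS.typed_invSub h hf) hg hgs)
    have hB : Pt (fun k => adM (g' k) (gs k)) ∈ T := InvSub.conj_Pt (hS.typed_invSub h hf) hg' hgs
    have h1 := hcomm _ hA _ hB
    have e : Pt P = ((∏ k, t k) • Pt (fun k => adM (g k) (gs k))) *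
        adj J (Pt fun k => adM (g' k) (gs k)) := by
      rw [adj_Pt hG, Matrix.smul_mul, Pt_mul, ← Pt_smul]
      congr 1
      funext k
      rw [hX k]; rfl
    show Pt P - adj J (Pt P) ∈ C
    rw [e, adj_mul hJ, adj_adj hJ (gram_symm hG)]
    exact h1
  have hall : ∀ S : Finset {j // j ≠ i}, (∀ k ∈ S, gs k ≠ 1) → ∀ P, (∀ k, k ∉ S → Slot k (P k)) → Ψ P := by
    intro S
    induction S using Finset.induction with
    | empty => exact fun _ P hPs => hbase P fun k => hPs k (Finset.notMem_empty k)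
    | insert j S hj ih =>
      intro hne P hPs
      have hT' : LowT G d c δ (gs j) := (hty j).resolve_left (hne j (Finset.mem_insert_self j S))
      obtain ⟨ε, hε, hadj⟩ := adj_lowT hG (Or.inr hT')
      have key : ∀ X ∈ prodSpan G d (gs j), ∀ t : F, Ψ (Function.update P j (t • X)) := by
        intro X hX
        unfold prodSpan at hX
        induction hX using Submodule.span_induction with
        | mem Y hY =>
          obtain ⟨g, hg, g', hg', rfl⟩ := hY
          intro t
          refine ih (fun k hk => hne k (Finset.mem_insert_of_mem hk)) _ fun k hk => ?_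
          rcases eq_or_ne k j with rfl | hkj
          · rw [Function.update_self]
            refine ⟨t * ε, g, g', hg, hg', ?_⟩
            rw [adj_adM hG (fgrp_le hG hg'), hadj, map_smul, Matrix.mul_smul, smul_smul, mul_assoc, hε, mul_one]
          · rw [Function.update_of_ne hkj]
            exact hPs k (by simp [hkj, hk])
        | zero =>
          intro t
          show _ ∈ C
          rw [smul_zero, show (0 : Matrix (Fin m) (Fin m) F) = (0 : F) • P j from (zero_smul _ _).symm,
            Pt_update_smul, zero_smul, adj_zero', sub_zero]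
          exact C.zero_mem
        | add Y Z _ _ hY hZ =>
          intro t
          show _ ∈ C
          rw [smul_add, Pt_update_add, TWSp.adj_add, add_sub_add_comm]
          exact C.add_mem (hY t) (hZ t)
        | smul k Y _ hY =>
          intro t
          rw [smul_smul]
          exact hY (t * k)
      have h1 := key (P j) (by rw [hT'.prodSpan_eq_top hP h]; trivial) 1
      rwa [one_smul, Function.update_eq_self] at h1
  obtain ⟨f0, hf0, hff0, hf0k⟩ := hS.exists_kap_mid h
  set P0 : {j // j ≠ i} → Matrix (Fin m) (Fin m) F :=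
    Function.update 1 k0 ((2 : F)⁻¹ • wedge G f0 c) with hP0
  have hfin := hall (Finset.univ.filter fun k => gs k ≠ 1) (fun k hk => (Finset.mem_filter.1 hk).2) P0 fun k hk => by
    have hk1 : gs k = 1 := by simpa using hk
    have hkk : k ≠ k0 := fun e => hk0 (e ▸ hk1)
    refine ⟨1, 1, 1, (fgrp G d).one_mem, (fgrp G d).one_mem, ?_⟩
    rw [hP0, Function.update_of_ne hkk, hk1, adM_one_right, adj_one hG.det, Matrix.one_mul, one_smul]
    rfl
  have e : Pt P0 - adj J (Pt P0) = emb k0 (wedge G f0 c) := by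
    rw [show Pt P0 = emb k0 ((2 : F)⁻¹ • wedge G f0 c) from rfl, emb_smul, adj_smul, adj_emb hG, hG.adj_wedge,
      ← neg_one_smul F (wedge G f0 c), emb_smul, smul_smul, ← sub_smul]
    rw [show (2 : F)⁻¹ - 2⁻¹ * -1 = 1 by field_simp; ring, one_smul]
  rw [hΨ] at hfin
  simp only [e] at hfin
  obtain ⟨x, hx, hxe⟩ := hfin
  exact hns ⟨i, k0, c, δ, f0, h, hf0, hff0, hf0k, x, hx, hxe⟩

theorem cen_iso {b : Matrix (Rest i m) (Rest i m) F} {x : GL (ι → Fin m) F} (hx : x ∈ M)
    (he : (x : Matrix (ι → Fin m) (ι → Fin m) F) = 1 + kr i (cen G c) b) :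
    IsIso G x ∧ adj (gram {j // j ≠ i} G) b = -b := by
  have hG := hS.par.form
  have : NeZero m := ⟨by have := hS.par.three; omega⟩
  have hfix : ∀ y, om G y c = 0 → ∀ u, (x : Matrix (ι → Fin m) (ι → Fin m) F) *ᵥ lift i y u = lift i y u := by
    intro y hy u
    rw [he, add_mulVec, one_mulVec, kr_mulVec_lift, cen_mulVec, hy, zero_smul, add_eq_left]
    funext a; simp [lift_apply]
  obtain ⟨μ, -, hsim⟩ := TWSp.mem_gsim.1 (hS.sim hx)
  obtain ⟨v, hv, hvv⟩ := h.exists_mid_aniso hS.par
  have hv1 := (h.om_mid hG hv).1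
  obtain ⟨u, u', huu⟩ : ∃ u u' : Rest i m → F, u ⬝ᵥ gram {j // j ≠ i} G *ᵥ u' ≠ 0 := by
    have hu : (fun _ => 1 : Rest i m → F) ≠ 0 := fun h0 => one_ne_zero (congrFun h0 fun _ => 0)
    obtain ⟨w, hw⟩ := exists_dot_one hu
    obtain ⟨u', hu'⟩ := mulVec_surjective_iff_isUnit.mpr
      ((Matrix.isUnit_iff_isUnit_det _).mpr (oForm_det (ι := {j // j ≠ i}) hG)) w
    exact ⟨_, u', by rw [hu', dotProduct_comm, hw]; exact one_ne_zero⟩
  have h1 := congrArg (fun A => lift i v u ⬝ᵥ A *ᵥ lift i v u') hsim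
  simp only [← mulVec_mulVec, dotProduct_mulVec (lift i v u), vecMul_transpose, smul_mulVec, dotProduct_smul] at h1
  rw [hfix v hv1, hfix v hv1, ← dotProduct_mulVec, smul_eq_mul, form_lift] at h1
  have hμ : μ = 1 := (mul_eq_right₀ (mul_ne_zero hvv huu)).1 h1.symm
  have hiso : IsIso G x := by rw [IsIso, hsim, hμ, one_smul]
  obtain ⟨b', hb', he'⟩ := center_of_fix hG hiso h.c_ne h.c_iso hfix
  have hcen : cen G c ≠ 0 := fun h0 => by
    have := congrArg (· *ᵥ δ) h0
    simp only [cen_mulVec, h.dc, one_smul, zero_mulVec] at this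
    exact h.c_ne this
  rw [he, add_right_inj] at he'
  rw [TWSp.kr_left_injective hcen he']
  exact ⟨hiso, hb'⟩

theorem cen_conj {b : Matrix (Rest i m) (Rest i m) F} (hb : b ∈ cenSub (G := G) (c := c) M i h.c_iso)
    (l : {j // j ≠ i}) {g : GL (Fin m) F} (hg : g ∈ fgrp G d) :
    adM (embG l g) b ∈ cenSub (G := G) (c := c) M i h.c_iso := by
  obtain ⟨x, hx, he⟩ := hb
  refine ⟨_, M.mul_mem (M.mul_mem (hS.mem (l : ι) hg) hx) (M.inv_mem (hS.mem (l : ι) hg)), ?_⟩
  rw [Units.val_mul, Units.val_mul, he, mul_add, add_mul, mul_one, Units.mul_inv]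
  rw [← adM_apply (embG (l : ι) g), adM_kr_rest]

theorem cen_scale {b : Matrix (Rest i m) (Rest i m) F} (hb : b ∈ cenSub (G := G) (c := c) M i h.c_iso)
    {s : F} (hs : s ≠ 0) : (s * s * (s * s)) • b ∈ cenSub (G := G) (c := c) M i h.c_iso := by
  obtain ⟨τ, hτ, hτc, -⟩ := h.exists_torus hS.par hs
  obtain ⟨x, hx, he⟩ := hb
  refine ⟨_, M.mul_mem (M.mul_mem (hS.mem i hτ) hx) (M.inv_mem (hS.mem i hτ)), ?_⟩
  rw [Units.val_mul, Units.val_mul, he, mul_add, add_mul, mul_one, Units.mul_inv, ← adM_apply (embG i τ), adM_kr,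
    adM_cen (fgrp_le hS.par.form hτ), hτc, cen_smul, TWSp.kr_smul_left, TWSp.kr_smul_right]

/-- A central element with a wedge slot gives a seed. -/
theorem cen_slot (hns : ¬ Seed G d M) {l : {j // j ≠ i}} {f : Fin m → F} (hf : f ∈ mid G c δ)
    (hff : om G f f ≠ 0) {Q : Matrix (Rest l m) (Rest l m) F}
    (hb : kr l (wedge G f c) Q ∈ cenSub (G := G) (c := c) M i h.c_iso) : Q = 0 := by
  have hP := hS.par
  have hG := hP.form
  have : NeZero m := ⟨by have := hP.three; omega⟩
  obtain ⟨x, hx, he⟩ := hb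
  obtain ⟨hiso, -⟩ := hS.cen_iso h hx he
  set Cm : Matrix (ι → Fin m) (ι → Fin m) F := emb i (cen G c) * kr i 1 (kr l 1 Q) with hCm
  have hCc : ∀ X, Cm * emb (l : ι) X = emb (l : ι) X * Cm := fun X => by
    rw [hCm, emb_rest i l, mul_assoc, kr_mul, emb_eq_kr i, kr_mul, kr_mul, kr_mul]
    rw [emb_eq_kr l]
    simp only [kr_mul, Matrix.one_mul, Matrix.mul_one]
  obtain ⟨K, hK⟩ := exists_kr_of_comm (l : ι) hCc
  have hN : kr i (cen G c) (kr l (wedge G f c) Q) = kr (l : ι) (wedge G f c) K := by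
    have e1 : kr (l : ι) (wedge G f c) K = emb (l : ι) (wedge G f c) * Cm := by
      rw [hK, emb_eq_kr, kr_mul, Matrix.one_mul, Matrix.mul_one]
    rw [e1, hCm, emb_rest i l, emb_eq_kr l, emb_eq_kr i]
    simp only [kr_mul, Matrix.one_mul, Matrix.mul_one]
  rw [hN] at he
  obtain ⟨fc, -, cf, -⟩ := h.om_mid hG hf
  have hβ : HasBeta G (l : ι) c x (fun y => (-om G y f) • K) := by
    refine ⟨hiso, by rw [cf, neg_zero, zero_smul], fun y hy u => ?_⟩
    rw [he, add_mulVec, one_mulVec, kr_mulVec_lift, wedge_mulVec, hy, zero_smul, zero_sub, smul_mulVec,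
      ← neg_smul, lift_smul_left, map_smul]
  obtain ⟨s, hs⟩ := hS.typed_scalar h hns hf hff (i := (l : ι)) (K := -K)
    ⟨x, hx, _, hβ, fun y _ => by rw [neg_smul, smul_neg]⟩
  have hcen : cen G c ≠ 0 := fun h0 => by
    have := congrArg (· *ᵥ δ) h0
    simp only [cen_mulVec, h.dc, one_smul, zero_mulVec] at this
    exact h.c_ne this
  have h0 : s = 0 := by
    have h1 : Cm = (-s) • 1 := by
      rw [hK, show K = (-s) • (1 : Matrix (Rest (l : ι) m) (Rest (l : ι) m) F) by rw [neg_smul, ← hs, neg_neg],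
        TWSp.kr_smul_right, TWSp.kr_one]
    have h2 : emb i (cen G c) * Cm = 0 := by
      rw [hCm, ← mul_assoc, ← emb_mul, cen_sq h.c_iso, emb_zero, zero_mul]
    rw [h1, Matrix.mul_smul, mul_one, smul_eq_zero, neg_eq_zero] at h2
    refine h2.resolve_right fun e => hcen ?_
    exact emb_injective i (e.trans (emb_zero i).symm)
  rw [h0, zero_smul, neg_eq_zero] at hs
  rw [hs, TWSp.kr_zero_right] at hN
  have := (TWSp.kr_eq_zero.1 hN).resolve_left hcen
  refine (TWSp.kr_eq_zero.1 this).resolve_left fun e => ?_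
  have h1 := congrArg (· *ᵥ δ) e
  simp only [wedge_mulVec, h.dc, (h.om_mid hG hf).2.2.2, one_smul, zero_smul, sub_zero, zero_mulVec] at h1
  exact hff (by rw [h1, om_zero_left])

set_option maxHeartbeats 800000 in
/-- Without a seed there are no central elements. -/
theorem cen_zero (hns : ¬ Seed G d M) {b : Matrix (Rest i m) (Rest i m) F}
    (hb : b ∈ cenSub (G := G) (c := c) M i h.c_iso) : b = 0 := by
  classical
  by_contra hb0
  have hP := hS.par
  have hG := hP.form
  obtain ⟨p, hp'⟩ := CharP.exists F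
  have : Fact p.Prime := ⟨CharP.char_is_prime F p⟩
  have : Fintype (mid G c δ) := Fintype.ofFinite _
  set C := cenSub (G := G) (c := c) M i h.c_iso
  have hiso : ∀ z ∈ mid G c δ, om G z c = 0 := fun z hz => (h.om_mid hG hz).1
  have hpow : ∀ z : mid G c δ, ∀ k : ℕ, sieG G c z.1 ^ k = sieG G c ((k : F) • z.1) := fun z k => by
    induction k with
    | zero => rw [pow_zero, Nat.cast_zero, zero_smul, sieG_zero hG h.c_iso]
    | succ k ih =>
      rw [pow_succ, ih, sieG_mul hG h.c_iso (hiso _ (Submodule.smul_mem _ _ z.2)) (hiso _ z.2), Nat.cast_succ,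
        add_smul, one_smul]
  let T : {j // j ≠ i} × mid G c δ → Module.End F (Matrix (Rest i m) (Rest i m) F) :=
    fun a => adM (embG a.1 (sieG G c a.2.1))
  obtain ⟨b', hb'C, hb'0, hfix⟩ := exists_fix_mod (p := p) T (A := ⊥) (B := C) (fun a => by
      show (adM (embG a.1 (sieG G c a.2.1)) : Module.End F _) ^ p = 1
      rw [adM_pow, ← map_pow, hpow, CharP.cast_eq_zero, zero_smul, sieG_zero hG h.c_iso, map_one]
      exact LinearMap.ext fun X => by rw [adM_apply, Module.End.one_apply]; simp)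
    (fun a a' => LinearMap.ext fun X => by
      rw [Module.End.mul_apply, Module.End.mul_apply]
      show adM _ (adM _ X) = adM _ (adM _ X)
      rw [← adM_mul, ← adM_mul]
      rcases eq_or_ne a.1 a'.1 with e | e
      · rw [e, ← map_mul, ← map_mul, sieG_mul hG h.c_iso (hiso _ a.2.2) (hiso _ a'.2.2),
          sieG_mul hG h.c_iso (hiso _ a'.2.2) (hiso _ a.2.2), add_comm]
      · rw [embG_comm e])
    (fun a x hx => by rw [AddSubgroup.mem_bot] at hx ⊢; rw [hx, map_zero])
    (fun a x hx => hS.cen_conj h hx a.1 (sieG_mem_fgrp h.c_iso (hiso _ a.2.2)))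
    (fun hle => hb0 (AddSubgroup.mem_bot.1 (hle hb))) Finset.univ
  rw [AddSubgroup.mem_bot] at hb'0
  -- the entries
  have hform : ∀ (l : {j // j ≠ i}) r s, ent l b' r s =
      om G (ent l b' r s *ᵥ δ) c • 1 + om G (ent l b' r s *ᵥ δ) δ • cen G c +
        wedge G (proj3 G c δ (ent l b' r s *ᵥ δ)) c := fun l r s => by
    refine h.fix_form hG _ (fun z hz => ?_) (h.exists_mid_aniso hP)
    have h1 := hfix (l, ⟨z, hz⟩) (Finset.mem_univ _)
    rw [AddSubgroup.mem_bot, sub_eq_zero] at h1
    have h2 := eq_of_adM (g := sieG G c z) (X := ent l b' r s) (Y := ent l b' r s) (by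
      rw [← ent_adM]; exact congrArg (fun A => ent l A r s) h1)
    rwa [sieG_val hG h.c_iso (hiso z hz)] at h2
  by_cases hw : ∀ (l : {j // j ≠ i}) r s, proj3 G c δ (ent l b' r s *ᵥ δ) = 0
  · obtain ⟨x, hx, he⟩ := hb'C
    have h1 := (hS.cen_iso h hx he).2
    have h2 : adj (gram {j // j ≠ i} G) b' = b' := by
      refine adj_eq_of_ent hG fun l r s => ?_
      rw [hform l r s, hw l r s, show wedge G 0 c = 0 by simp [wedge], add_zero, Matrix.mul_add, Matrix.mul_smul,
        Matrix.mul_smul, mul_one, transpose_add, transpose_smul, transpose_smul, hG.symm, cen, mul_vecMulVec,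
        transpose_vecMulVec]
    rw [h2, eq_neg_iff_add_eq_zero, ← two_smul F b'] at h1
    exact hb'0 ((smul_eq_zero.1 h1).resolve_left hG.two)
  push Not at hw
  obtain ⟨l, r0, s0, hrs⟩ := hw
  set v : Rest l m → Rest l m → Fin m → F := fun r s => proj3 G c δ (ent l b' r s *ᵥ δ) with hv
  have hvm : ∀ r s, v r s ∈ mid G c δ := fun r s => proj3_mem hG h _
  rcases eq_or_ne m 3 with hm | hm
  · obtain ⟨z, hz, hzz⟩ := h.exists_mid_aniso hP
    obtain ⟨t, ht, ht1⟩ := exists_sq_ne (hP.five hm)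
    obtain ⟨τ, hτ, hτc, hτz⟩ := h.exists_torus hP ht
    have hτG := fgrp_le hG hτ
    set μ := t * t
    set Q : Matrix (Rest l m) (Rest l m) F :=
      Matrix.of fun r s => (μ - 1) * (μ - μ * μ) * (om G (v r s) z / om G z z) with hQ
    have hmem : kr l (wedge G z c) Q ∈ C := by
      set D := adM (embG l τ) b' - b' with hD
      have hDC : D ∈ C := C.sub_mem (hS.cen_conj h hb'C l hτ) hb'C
      have h1 := C.sub_mem (hS.cen_conj h hDC l hτ) (hS.cen_scale h hDC ht)
      convert h1 using 1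
      refine ext_ent (j := l) fun r s => ?_
      rw [ent_kr, ent_sub, ent_smul, ent_adM, hD, ent_sub, ent_adM, hQ, Matrix.of_apply]
      conv_rhs => rw [hform l r s]
      rw [show proj3 G c δ (ent l b' r s *ᵥ δ) = (om G (v r s) z / om G z z) • z from
        h.mid_three hP hm hz hzz (hvm r s)]
      simp only [map_sub, map_add, map_smul, wedge_smul_left, adM_one_right, adM_cen hτG, adM_wedge hG hτG,
        hτc, hτz z hz, cen_smul, mulVec_smul]
      simp only [wedge, mulVec_smul, vecMulVec_smul, smul_vecMulVec]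
      module
    have hQ0 := hS.cen_slot h hns hz hzz hmem
    have h1 : Q r0 s0 = 0 := congrFun (congrFun hQ0 r0) s0
    simp only [hQ, Matrix.of_apply, mul_eq_zero, div_eq_zero_iff, hzz, or_false, sub_eq_zero] at h1
    rcases h1 with (h1 | h1) | h1
    · exact ht1 h1
    · exact ht1 ((mul_eq_left₀ (mul_ne_zero ht ht)).1 h1.symm)
    · refine hrs ?_
      show v r0 s0 = 0
      rw [h.mid_three hP hm hz hzz (hvm r0 s0), h1, zero_div, zero_smul]
  · have hm4 : 4 ≤ m := by have := hP.three; omega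
    let L : (Fin m → F) →ₗ[F] F :=
      { toFun := fun x => om G (v r0 s0) x
        map_add' := fun x y => om_add_right _ x y
        map_smul' := fun k x => om_smul_right k _ x }
    obtain ⟨f, hf, hfk, hLf⟩ : ∃ f ∈ mid G c δ, Kap G d f ∧ om G (v r0 s0) f ≠ 0 := by
      by_contra! hcon
      refine hrs (hG.ext fun y => ?_)
      show om G y (v r0 s0) = _
      have h1 := eq_zero_of_kap h hP hm4 L hcon (proj3_mem hG h y)
      obtain ⟨v1, v2, -, -⟩ := h.om_mid hG (hvm r0 s0)
      rw [om_zero_right, hG.comm y]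
      conv_lhs => rw [Hyp.proj3_eq (G := G) (c := c) (δ := δ) y]
      rw [om_add_right, om_add_right, om_smul_right, om_smul_right, v1, v2, mul_zero, mul_zero, zero_add, zero_add]
      exact h1
    obtain ⟨-, -, cf, -⟩ := h.om_mid hG hf
    have hrG := fgrp_le hG (refG_mem_fgrp hfk)
    set Q : Matrix (Rest l m) (Rest l m) F := Matrix.of fun r s => 2 / om G f f * om G (v r s) f with hQ
    have hmem : kr l (wedge G f c) Q ∈ C := by
      have h1 := C.sub_mem hb'C (hS.cen_conj h hb'C l (refG_mem_fgrp hfk))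
      convert h1 using 1
      refine ext_ent (j := l) fun r s => ?_
      rw [ent_kr, ent_sub, ent_adM, hQ, Matrix.of_apply]
      conv_rhs => rw [hform l r s]
      simp only [map_add, map_smul, adM_one_right, adM_cen hrG, adM_wedge hG hrG, refG_val hfk.ne,
        refM_fix cf]
      rw [refM_mulVec, wedge_sub_left, wedge_smul_left]
      module
    have hQ0 := hS.cen_slot h hns hf hfk.ne hmem
    exact hLf ((mul_eq_zero.1 (congrFun (congrFun hQ0 r0) s0)).resolve_left (div_ne_zero hG.two hfk.ne))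

set_option maxHeartbeats 800000 in
/-- Without a seed the radical consists of the Siegel elements. -/
theorem rad_eq (hns : ¬ Seed G d M) {x : GL (ι → Fin m) F} (hx : x ∈ M)
    {β : (Fin m → F) → Matrix (Rest i m) (Rest i m) F} (hβ : HasBeta G i c x β) :
    ∃ v ∈ mid G c δ, x = embG i (sieG G c v) := by
  have hP := hS.par
  have hG := hP.form
  have hc := h.c_ne
  have hcc := h.c_iso
  have hβadd := fun {y z : Fin m → F} (hy : om G y c = 0) (hz : om G z c = 0) => hβ.map_add' hG hc hcc hy hz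
  have hβsm := fun {y : Fin m → F} (hy : om G y c = 0) (k : F) => hβ.map_smul' hG hc hcc hy k
  have hp3 : ∀ y, om G (proj3 G c δ y) c = 0 := fun y => (h.om_mid hG (proj3_mem hG h y)).1
  let L : (Fin m → F) →ₗ[F] Matrix (Rest i m) (Rest i m) F :=
    { toFun := fun y => β (proj3 G c δ y)
      map_add' := fun y z => by
        rw [← hβadd (hp3 y) (hp3 z)]; congr 1
        simp only [proj3, om_add_left]; module
      map_smul' := fun k y => by
        rw [RingHom.id_apply, ← hβsm (hp3 y) k]; congr 1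
        simp only [proj3, om_smul_left]; module }
  have hscal : ∀ y ∈ mid G c δ, ∃ s : F, β y = s • 1 := by
    intro y hy
    rcases eq_or_ne m 3 with hm | hm
    · obtain ⟨z, hz, hzz⟩ := h.exists_mid_aniso hP
      have hzc := (h.om_mid hG hz).1
      obtain ⟨s, hs⟩ := hS.typed_scalar h hns hz hzz (K := (om G z z)⁻¹ • β z) (i := i) ⟨x, hx, β, hβ, fun w hw => by
        have e1 : w = om G w δ • c + (om G (proj3 G c δ w) z / om G z z) • z := by
          rw [← h.mid_three hP hm hz hzz (proj3_mem hG h w)]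
          conv_lhs => rw [Hyp.proj3_eq (G := G) (c := c) (δ := δ) w, hw, zero_smul, add_zero]
        have e2 : om G (proj3 G c δ w) z = om G w z := by
          obtain ⟨-, -, cz, dz⟩ := h.om_mid hG hz
          simp only [proj3, om_sub_left, om_smul_left, cz, dz]; ring
        conv_lhs => rw [e1, hβadd (by rw [om_smul_left, hcc, mul_zero]) (by rw [om_smul_left, hzc, mul_zero]),
          hβsm hcc, hβsm hzc, hβ.zero, smul_zero, zero_add, e2]
        rw [smul_smul, div_eq_mul_inv]⟩
      refine ⟨om G y z * s, ?_⟩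
      conv_lhs => rw [h.mid_three hP hm hz hzz hy, hβsm hzc, div_eq_mul_inv, ← smul_smul, hs, smul_smul]
    · have hm4 : 4 ≤ m := by have := hP.three; omega
      let q := Submodule.mkQ (Submodule.span F {(1 : Matrix (Rest i m) (Rest i m) F)})
      have h1 : q (L y) = 0 := eq_zero_of_kap h hP hm4 (q.comp L) (fun f hf hk => ?_) hy
      · change q (β (proj3 G c δ y)) = 0 at h1
        rw [h.proj3_id hG hy, Submodule.mkQ_apply, Submodule.Quotient.mk_eq_zero,
          Submodule.mem_span_singleton] at h1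
        obtain ⟨s, hs⟩ := h1
        exact ⟨s, hs.symm⟩
      · obtain ⟨fc, -, cf, -⟩ := h.om_mid hG hf
        have hrc : (refG G f : Matrix (Fin m) (Fin m) F) *ᵥ c = (1 : F) • c := by
          rw [refG_val hk.ne, refM_fix cf, one_smul]
        obtain ⟨s, hs⟩ := hS.typed_scalar h hns hf hk.ne (K := (2 / om G f f) • β f) (i := i)
          ⟨x * (embG i (refG G f) * x * (embG i (refG G f))⁻¹)⁻¹,
            M.mul_mem hx (M.inv_mem (M.mul_mem (M.mul_mem (hS.refl i f hk) hx) (M.inv_mem (hS.refl i f hk)))), _,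
            hβ.mul hG hc hcc ((hβ.conj hG hc hcc (refG_mem hG hk.ne) one_ne_zero hrc).inv hG hc hcc
              ), fun w hw => by
            have e : (((refG G f)⁻¹ : GL (Fin m) F) : Matrix (Fin m) (Fin m) F) *ᵥ w =
                w + (-(2 / om G f f * om G w f)) • f := by
              rw [refG_inv hk.ne, refG_val hk.ne, refM_mulVec, neg_smul, ← sub_eq_add_neg]
            show β w + -((1 : F) • β _) = _
            rw [e, one_smul, hβadd hw (by rw [om_smul_left, fc, mul_zero]), hβsm fc, smul_smul]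
            module⟩
        show q (β (proj3 G c δ f)) = 0
        rw [h.proj3_id hG hf, Submodule.mkQ_apply, Submodule.Quotient.mk_eq_zero, Submodule.mem_span_singleton]
        refine ⟨(2 / om G f f)⁻¹ * s, ?_⟩
        rw [← smul_smul, ← hs, smul_smul, inv_mul_cancel₀ (div_ne_zero hG.two hk.ne), one_smul]
  choose! σ hσ using hscal
  -- the representing vector
  let p0 : Rest i m := fun _ => ⟨0, by have := hP.three; omega⟩
  let φ : (Fin m → F) →ₗ[F] F :=
    { toFun := fun y => L y p0 p0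
      map_add' := fun y z => by rw [map_add]; rfl
      map_smul' := fun k y => by rw [map_smul]; rfl }
  obtain ⟨v, hv⟩ := hG.exists_axis fun k => φ (Pi.single k 1)
  have hvφ : ∀ y, om G y v = φ y := fun y => by
    rw [om, hv]
    conv_rhs => rw [show y = ∑ k, y k • (Pi.single k 1 : Fin m → F) by
      funext r; simp [Finset.sum_apply, Pi.single_apply], map_sum]
    simp only [map_smul, smul_eq_mul]
    rfl
  have hval : ∀ y ∈ mid G c δ, β y = om G y v • 1 := fun y hy => by
    have e : φ y = σ y := by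
      show β (proj3 G c δ y) p0 p0 = _
      rw [h.proj3_id hG hy, hσ y hy]
      simp
    rw [hvφ, e, hσ y hy]
  have hvm : v ∈ mid G c δ := by
    rw [mem_mid hG, hG.comm v c, hG.comm v δ, hvφ, hvφ]
    have hz : β 0 = 0 := by simpa using hβsm hcc 0
    constructor
    · show β (proj3 G c δ c) p0 p0 = 0
      rw [h.proj3_c hG, hz]; rfl
    · show β (proj3 G c δ δ) p0 p0 = 0
      rw [h.proj3_d hG, hz]; rfl
  obtain ⟨vc, -, cv, -⟩ := h.om_mid hG hvm
  have hu : HasBeta G i c (embG i (sieG G c v))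
      (fun y => (-om G y v) • (1 : Matrix (Rest i m) (Rest i m) F)) := by
    refine ⟨isIso_embG i (sieG_mem hG hcc vc), by rw [cv, neg_zero, zero_smul], fun y hy u => ?_⟩
    rw [embG_val, emb_mulVec_lift, sieG_val hG hcc vc, sieM_mulVec, hy, zero_smul, add_zero, mul_zero, zero_smul,
      sub_zero, sub_eq_add_neg, ← neg_smul, lift_add_left, lift_smul_left, smul_mulVec, one_mulVec, map_smul]
  have hprod := hβ.mul hG hc hcc hu
  obtain ⟨b, -, hb⟩ := center_of_fix hG hprod.iso hc hcc fun y hy u => by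
    rw [hprod.act y hy]
    have e : y = om G y δ • c + proj3 G c δ y := by
      conv_lhs => rw [Hyp.proj3_eq (G := G) (c := c) (δ := δ) y, hy, zero_smul, add_zero]
    have e1 : β y = β (proj3 G c δ y) := by
      conv_lhs => rw [e, hβadd (by rw [om_smul_left, hcc, mul_zero]) (hp3 y), hβsm hcc, hβ.zero, smul_zero, zero_add]
    have e2 : om G (proj3 G c δ y) v = om G y v := by
      simp only [proj3, om_sub_left, om_smul_left, cv, (h.om_mid hG hvm).2.2.2]; ring
    rw [e1, hval _ (proj3_mem hG h y), e2, ← add_smul, add_neg_cancel, zero_smul, zero_mulVec, map_zero, add_zero]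
  have hb0 := hS.cen_zero h hns ⟨_, M.mul_mem hx (hS.sieg i c v hcc vc), hb⟩
  rw [hb0, TWSp.kr_zero_right, add_zero] at hb
  refine ⟨(-1 : F) • v, Submodule.smul_mem _ _ hvm, ?_⟩
  rw [neg_one_smul, ← sieG_inv hG hcc vc, map_inv]
  exact eq_inv_of_mul_eq_one_left (Units.ext hb)

end Setting

end CfsgLib.TWOr
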