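import Cfsg.Agent.TensorWreathOrth.Form
import Cfsg.Agent.TensorWreath.Classify

/-!
# An involution of one factor times a reflection of another
-/

set_option autoImplicit false
set_option linter.unusedSectionVars false

namespace CfsgLib.TWOr

open Matrix Module CfsgLib.MaxSub CfsgLib.TWreath
open CfsgLib.TWSp (om kr gram cen spG axis_dot cen_mulVec emb_eq_kr emb_rest kr_mulVec_lift)

variable {F : Type*} [Field F] {m : ℕ} {G : Matrix (Fin m) (Fin m) F}
  {ι : Type} [Fintype ι] [DecidableEq ι]

/-- The image of a reflection minus one is the block of its vector. -/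
theorem range_refG_sub_one (hG : OForm G) (i : ι) {e : Fin m → F} (he : om G e e ≠ 0) :
    LinearMap.range ((embG i (refG G e) : Matrix (ι → Fin m) (ι → Fin m) F) - 1).mulVecLin = block i e := by
  have he0 : e ≠ 0 := fun h => he (by rw [h, om_zero_left])
  have hk : (-(2 / om G e e) : F) • (G *ᵥ e) ≠ 0 :=
    smul_ne_zero (neg_ne_zero.2 (div_ne_zero hG.two he)) (hG.axis_ne he0)
  rw [block_eq_range hk, embG_val, refG_val he, refM, cen, emb_sub, emb_one, sub_sub_cancel_left, emb_smul,
    vecMulVec_smul, emb_smul, neg_smul]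

theorem bdim_eq_mul (i : ι) [Nontrivial ι] : bdim ι m = m * bdim {k // k ≠ i} m := by
  have h : Fintype.card {k // k ≠ i} = Fintype.card ι - 1 := by
    rw [Fintype.card_subtype_compl, Fintype.card_subtype_eq]
  have := Fintype.one_lt_card (α := ι)
  rw [bdim, bdim, h, ← pow_succ']
  congr 1; omega

/-- Such a product moves more than a block, unless the involution is trivial. -/
theorem bdim_lt_rank (hG : OForm G) [Nontrivial ι] (hm : 3 ≤ m) {i : ι} (j : {k // k ≠ i}) {a : GL (Fin m) F}
    (ha2 : a * a = 1) (ha1 : a ≠ 1) {g : Fin m → F} (hg : om G g g ≠ 0) :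
    bdim ι m <
      (((embG i a * embG (j : ι) (refG G g) : GL (ι → Fin m) F) : Matrix (ι → Fin m) (ι → Fin m) F) - 1).rank := by
  classical
  have h2 := hG.two
  have : NeZero m := ⟨by omega⟩
  set A := (a : Matrix (Fin m) (Fin m) F)
  set B := (embG j (refG G g) : Matrix (Rest i m) (Rest i m) F)
  set X := ((embG i a * embG (j : ι) (refG G g) : GL (ι → Fin m) F) : Matrix (ι → Fin m) (ι → Fin m) F) - 1
  have hA2 : ∀ v, A *ᵥ (A *ᵥ v) = v := fun v => by rw [mulVec_mulVec, ← Units.val_mul, ha2, Units.val_one, one_mulVec]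
  have hX : ∀ v w, X *ᵥ lift i v w = lift i (A *ᵥ v) (B *ᵥ w) - lift i v w := fun v w => by
    rw [sub_mulVec, one_mulVec, Units.val_mul, ← mulVec_mulVec, embG_val, embG_val,
      emb_rest i j, kr_mulVec_lift, one_mulVec, emb_mulVec_lift]
    rfl
  set R := LinearMap.range (B - 1).mulVecLin with hR
  set K := LinearMap.ker (B - 1).mulVecLin with hK
  have hRd : finrank F R = bdim {k // k ≠ i} m := by
    rw [hR, range_refG_sub_one hG j hg, finrank_block (fun h => hg (by rw [h, om_zero_left]))]
  have hKd : bdim {k // k ≠ i} m < finrank F K := by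
    have h1 := LinearMap.finrank_range_add_finrank_ker (B - 1).mulVecLin
    rw [← hR, ← hK, hRd, Module.finrank_pi, card_rest, bdim_eq_mul i] at h1
    have hpos : 0 < bdim {k // k ≠ i} m := pow_pos (by omega) _
    nlinarith
  let L : (Fin m → F) →ₗ[F] (Fin m → F) := A.mulVecLin
  set P := LinearMap.ker (L - LinearMap.id)
  set N := LinearMap.ker (L + LinearMap.id)
  have hPN : IsCompl P N := by
    refine ⟨Submodule.disjoint_def.2 fun v h1 h3 => ?_, codisjoint_iff.2 (eq_top_iff.2 fun v _ => ?_)⟩
    · have e1 : A *ᵥ v = v := sub_eq_zero.1 (LinearMap.mem_ker.1 h1)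
      have e2 : A *ᵥ v + v = 0 := LinearMap.mem_ker.1 h3
      rw [e1, ← two_smul F] at e2
      exact (smul_eq_zero.1 e2).resolve_left h2
    · have e : v = (2 : F)⁻¹ • (v + A *ᵥ v) + (2 : F)⁻¹ • (v - A *ᵥ v) := by
        match_scalars <;> (field_simp; try ring)
      rw [e]
      refine Submodule.add_mem_sup (Submodule.smul_mem _ _ ?_) (Submodule.smul_mem _ _ ?_)
      · refine LinearMap.mem_ker.2 ?_
        show A *ᵥ _ - (v + A *ᵥ v) = 0
        rw [mulVec_add, hA2]; abel
      · refine LinearMap.mem_ker.2 ?_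
        show A *ᵥ _ + (v - A *ᵥ v) = 0
        rw [mulVec_sub, hA2]; abel
  have hN : 0 < finrank F N := by
    rw [Nat.pos_iff_ne_zero, ne_eq, Submodule.finrank_eq_zero]
    intro hb
    refine ha1 (Units.ext (Matrix.ext_of_mulVec_single fun q => ?_))
    have hv : Pi.single q (1 : F) ∈ P := by
      have ht := hPN.sup_eq_top
      rw [hb, sup_bot_eq] at ht
      rw [ht]; trivial
    rw [Units.val_one, one_mulVec]
    exact sub_eq_zero.1 (LinearMap.mem_ker.1 hv)
  set f := finrank F P
  set n := finrank F N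
  have hfn : f + n = m := by rw [Submodule.finrank_add_eq_of_isCompl hPN, Module.finrank_fin_fun]
  set bP := Module.finBasis F P
  set bN := Module.finBasis F N
  set b : Basis (Fin f ⊕ Fin n) F (Fin m → F) := (bP.prod bN).map (Submodule.prodEquivOfIsCompl P N hPN)
  have hb1 : ∀ k, b (Sum.inl k) = (bP k : Fin m → F) := fun k => by simp [b]
  have hb2 : ∀ k, b (Sum.inr k) = (bN k : Fin m → F) := fun k => by simp [b]
  let W : Fin f ⊕ Fin n → Submodule F (Rest i m → F) := Sum.elim (fun _ => R) fun _ => K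
  let Φ : (∀ k, W k) →ₗ[F] ((ι → Fin m) → F) :=
    ∑ k, (lift i (b k)).comp ((W k).subtype.comp (LinearMap.proj k))
  have hΦ : ∀ w, Φ w = ∑ k, lift i (b k) (w k : Rest i m → F) := fun w => by
    simp [Φ, LinearMap.sum_apply]
  have hinj : Function.Injective Φ := by
    rw [← LinearMap.ker_eq_bot, LinearMap.ker_eq_bot']
    intro w hw
    funext k
    refine Subtype.ext (funext fun r => ?_)
    have h1 : (∑ k', (w k' : Rest i m → F) r • b k') = 0 := by
      funext p
      have := congrFun hw (extend i p r)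
      rw [hΦ, Finset.sum_apply] at this
      simp only [lift_apply, extend_self, extend_rest, Pi.zero_apply] at this
      simp only [Finset.sum_apply, Pi.smul_apply, smul_eq_mul, Pi.zero_apply]
      simpa only [mul_comm] using this
    exact Fintype.linearIndependent_iff.1 b.linearIndependent _ h1 k
  have hle : LinearMap.range Φ ≤ LinearMap.range X.mulVecLin := by
    rintro _ ⟨w, rfl⟩
    rw [hΦ]
    refine Submodule.sum_mem _ fun k _ => ?_
    rcases k with k | k
    · obtain ⟨w', hw'⟩ : (w (Sum.inl k) : Rest i m → F) ∈ R := (w (Sum.inl k)).2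
      refine ⟨lift i (b (Sum.inl k)) w', ?_⟩
      have e1 : A *ᵥ b (Sum.inl k) = b (Sum.inl k) := by
        rw [hb1]; exact sub_eq_zero.1 (LinearMap.mem_ker.1 (bP k).2)
      rw [mulVecLin_apply, hX, e1, ← map_sub, ← hw', mulVecLin_apply, sub_mulVec, one_mulVec]
    · have hw' : B *ᵥ (w (Sum.inr k) : Rest i m → F) = (w (Sum.inr k) : Rest i m → F) := by
        have := LinearMap.mem_ker.1 (w (Sum.inr k)).2
        rwa [mulVecLin_apply, sub_mulVec, one_mulVec, sub_eq_zero] at this
      refine ⟨(-(2 : F)⁻¹) • lift i (b (Sum.inr k)) (w (Sum.inr k) : Rest i m → F), ?_⟩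
      have e1 : A *ᵥ b (Sum.inr k) = -b (Sum.inr k) := by
        rw [hb2]; exact eq_neg_of_add_eq_zero_left (LinearMap.mem_ker.1 (bN k).2)
      rw [mulVecLin_apply, mulVec_smul, hX, e1, hw', ← neg_one_smul F (b (Sum.inr k)), lift_smul_left]
      match_scalars
      field_simp
      ring
  have h3 := Submodule.finrank_mono hle
  rw [LinearMap.finrank_range_of_inj hinj, Module.finrank_pi_fintype, Fintype.sum_sum_type] at h3
  have hW1 : ∀ k, finrank F (W (Sum.inl k)) = finrank F R := fun k => rfl
  have hW2 : ∀ k, finrank F (W (Sum.inr k)) = finrank F K := fun k => rfl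
  simp only [hW1, hW2, Finset.sum_const, Finset.card_univ, Fintype.card_fin, smul_eq_mul, hRd] at h3
  rw [Matrix.rank, bdim_eq_mul i]
  have e : m * bdim {k // k ≠ i} m = f * bdim {k // k ≠ i} m + n * bdim {k // k ≠ i} m := by
    rw [← add_mul, hfn]
  have := Nat.mul_lt_mul_of_pos_left hKd hN
  omega

/-- An involution of one factor times a reflection of another is a reflection only trivially. -/
theorem eq_one_of_conj_refl (hG : OForm G) [Nontrivial ι] (hm : 3 ≤ m) {i l : ι} (j : {k // k ≠ i})
    {a : GL (Fin m) F} (ha2 : a * a = 1) {g e : Fin m → F} (hg : om G g g ≠ 0) (he : om G e e ≠ 0)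
    {y : GL (ι → Fin m) F}
    (h : y * embG l (refG G e) * y⁻¹ = embG i a * embG (j : ι) (refG G g)) : a = 1 := by
  by_contra ha1
  have h1 := bdim_lt_rank hG hm j ha2 ha1 hg
  rw [← h, rank_conj_sub_one', Matrix.rank, range_refG_sub_one hG l he,
    finrank_block (fun h0 => he (by rw [h0, om_zero_left]))] at h1
  exact lt_irrefl _ h1

end CfsgLib.TWOr
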