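import Cfsg.Agent.TensorWreathOrth.Stab
import Cfsg.Agent.Signalizer.Generation
import Cfsg.Agent.TensorSquareThree.Coprime
import Cfsg.Agent.TensorSympOrth.URoot

/-!
# Centralisers of regular unipotent elements of one factor
-/

set_option autoImplicit false
set_option linter.unusedSectionVars false

namespace CfsgLib.TWOr

open Matrix Module CfsgLib.MaxSub CfsgLib.TWreath
open CfsgLib.TWSp (om kr gram proj cen wedge spG gsim IsIso om_add_left om_add_right om_smul_left om_smul_right
  axis_dot cen_mulVec mem_spG mem_spG_of_om om_of_mem_spG adj kr_mul emb_eq_kr emb_rest kr_mulVec_lift)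

variable {F : Type*} [Field F] [Finite F] {m : ℕ} {G : Matrix (Fin m) (Fin m) F} {d : F}
  {ι : Type} [Fintype ι] [DecidableEq ι] {M : Subgroup (GL (ι → Fin m) F)}

/-- The standing hypothesis of the proof that `M` lies in the wreath group. -/
structure Core (G : Matrix (Fin m) (Fin m) F) (d : F) (M : Subgroup (GL (ι → Fin m) F)) : Prop where
  set : Setting G d M
  noSeed : ¬ Seed G d M
  hrec : ∀ (i : ι) (X : Subgroup (GL (Rest i m) F)), Setting G d X → X ≤ wreath {j // j ≠ i} m F ∨ Seed G d X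

theorem sieG_pow (hG : OForm G) {c z : Fin m → F} (hc : om G c c = 0) (hz : om G z c = 0) (n : ℕ) :
    sieG G c z ^ n = sieG G c ((n : F) • z) := by
  induction n with
  | zero => rw [pow_zero, Nat.cast_zero, zero_smul, sieG_zero hG hc]
  | succ n ih =>
    rw [pow_succ, ih, sieG_mul hG hc (by rw [om_smul_left, hz, mul_zero]) hz, Nat.cast_succ, add_smul, one_smul]

/-- A space of regular parameters with more elements than the characteristic. -/
theorem exists_regular_space (hP : Par G d) {c δ : Fin m → F} (h : Hyp G c δ) {p : ℕ} [Fact p.Prime] [CharP F p]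
    (hmp : m ≠ 3 ∨ p < Nat.card F) :
    ∃ Z : Submodule F (Fin m → F), Z ≤ mid G c δ ∧ (∀ z ∈ Z, z ≠ 0 → om G z z ≠ 0) ∧ p < Nat.card Z := by
  classical
  have hG := hP.form
  have := Fintype.ofFinite F
  have hpq : p ≤ Nat.card F := by
    obtain ⟨n, hn, hq⟩ := FiniteField.card F p
    rw [Nat.card_eq_fintype_card, hq]
    exact Nat.le_self_pow n.pos.ne' p
  have hp2 : 2 ≤ p := (Fact.out : p.Prime).two_le
  rcases eq_or_ne m 3 with hm3 | hm3
  · obtain ⟨z, hz, hzz⟩ := h.exists_mid_aniso hP
    have hz0 : z ≠ 0 := fun e => hzz (by rw [e, om_zero_left])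
    refine ⟨Submodule.span F {z}, (Submodule.span_singleton_le_iff_mem _ _).2 hz, fun w hw hw0 => ?_, ?_⟩
    · obtain ⟨k, rfl⟩ := Submodule.mem_span_singleton.1 hw
      rw [om_smul_left, om_smul_right]
      have hk : k ≠ 0 := fun e => hw0 (by rw [e, zero_smul])
      exact mul_ne_zero hk (mul_ne_zero hk hzz)
    · rw [Module.natCard_eq_pow_finrank (K := F), finrank_span_singleton hz0, pow_one]
      exact hmp.resolve_left (not_not_intro hm3)
  have h4 : 4 ≤ m := by have := hP.three; omega
  have hfr := h.finrank_mid hG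
  have hnd := nonDeg_perp hG (h.nonDeg hG)
  have hlt : ∀ Z : Submodule F (Fin m → F), 2 ≤ finrank F Z → p < Nat.card Z := fun Z hZ => by
    rw [Module.natCard_eq_pow_finrank (K := F)]
    exact hpq.trans_lt (lt_of_lt_of_le (by nlinarith) (Nat.pow_le_pow_right (by omega) hZ))
  rcases eq_or_ne m 4 with hm4 | hm4
  · refine ⟨mid G c δ, le_rfl, fun z hz hz0 h0 => ?_, hlt _ (by omega)⟩
    obtain ⟨k, hk⟩ := hP.plane hm4 c z h.c_ne h.c_iso h0 (by rw [hG.comm]; exact (h.om_mid hG hz).1)
    have h1 := (h.om_mid hG hz).2.1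
    rw [← hk, om_smul_left, h.cd hG, mul_one] at h1
    exact hz0 (by rw [← hk, h1, zero_smul])
  obtain ⟨ν, hν⟩ := FiniteField.exists_nonsquare (F := F) (fun hch => hG.two (by
    have := (ringChar.spec F 2).mpr (by rw [hch]); exact_mod_cast this))
  obtain ⟨x, hx, hx0, hxv⟩ := exists_value hG hnd (show 2 ≤ finrank F (mid G c δ) by omega) (one_ne_zero (α := F))
  set S := Submodule.span F {c} ⊔ Submodule.span F {δ} ⊔ Submodule.span F {x}
  have hSnd : NonDeg G S := nonDeg_sup hG (h.nonDeg hG) (by rw [hxv]; exact one_ne_zero) ((mem_perp hG).1 hx)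
  have hS3 := finrank_sup_le (Submodule.span F {c} ⊔ Submodule.span F {δ}) x
  have hS2 := finrank_sup_le (Submodule.span F {c}) δ
  rw [finrank_span_singleton h.c_ne] at hS2
  have hfp := finrank_perp hG hSnd
  obtain ⟨y, hy, hy0, hyv⟩ := exists_value hG (nonDeg_perp hG hSnd)
    (show 2 ≤ finrank F (perp G S) by change finrank F S ≤ _ at hS3; omega)
    (neg_ne_zero.2 (fun e => hν (by rw [e]; exact IsSquare.zero)) : -ν ≠ 0)
  have hyS := (mem_perp hG).1 hy
  have hyx : om G y x = 0 := hyS x (Submodule.mem_sup_right (Submodule.mem_span_singleton_self x))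
  have hyM : y ∈ mid G c δ := (mem_perp hG).2 fun w hw => hyS w (Submodule.mem_sup_left hw)
  refine ⟨Submodule.span F {x} ⊔ Submodule.span F {y}, sup_le ((Submodule.span_singleton_le_iff_mem _ _).2 hx)
    ((Submodule.span_singleton_le_iff_mem _ _).2 hyM), fun z hz hz0 h0 => ?_, hlt _ ?_⟩
  · obtain ⟨a, ha, b, hb, rfl⟩ := Submodule.mem_sup.1 hz
    obtain ⟨r, rfl⟩ := Submodule.mem_span_singleton.1 ha
    obtain ⟨s, rfl⟩ := Submodule.mem_span_singleton.1 hb
    simp only [om_add_left, om_add_right, om_smul_left, om_smul_right, hG.comm x y, hyx, hxv, hyv] at h0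
    rcases eq_or_ne s 0 with rfl | hs
    · have hr : r = 0 := mul_self_eq_zero.1 (by linear_combination h0)
      exact hz0 (by rw [hr, zero_smul, zero_smul, add_zero])
    · exact hν ⟨r / s, by field_simp; linear_combination -h0⟩
  · have hind : Submodule.span F {x} < Submodule.span F {x} ⊔ Submodule.span F {y} := by
      refine left_lt_sup.2 fun hle => hy0 ?_
      obtain ⟨k, hk⟩ := Submodule.mem_span_singleton.1 (hle (Submodule.mem_span_singleton_self y))
      have h1 := hyx
      rw [← hk, om_smul_left, hxv, mul_one] at h1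
      rw [← hk, h1, zero_smul]
    have := Submodule.finrank_lt_finrank_of_lt hind
    rw [finrank_span_singleton hx0] at this
    omega

set_option maxHeartbeats 800000 in
/-- Coprime generation by the centralisers of the regular elements. -/
theorem le_of_regular (hP : Par G d) {p : ℕ} [Fact p.Prime] [CharP F p] {X D : Subgroup (GL (ι → Fin m) F)}
    (hX : ¬ p ∣ Nat.card X) (l : ι) {c δ : Fin m → F} (h : Hyp G c δ)
    (hn : ∀ z ∈ mid G c δ, embG l (sieG G c z) ∈ Subgroup.normalizer (X : Set (GL (ι → Fin m) F)))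
    (hD : ∀ y ∈ X, ∀ z ∈ mid G c δ, om G z z ≠ 0 → y * embG l (sieG G c z) = embG l (sieG G c z) * y → y ∈ D) :
    X ≤ D := by
  classical
  have hG := hP.form
  have : NeZero m := ⟨by have := hP.three; omega⟩
  have hinj : ∀ {z : Fin m → F}, z ∈ mid G c δ → embG l (sieG G c z) = 1 → z = 0 := fun {z} hz he => by
    have h1 := congrArg Units.val he
    rw [embG_val, Units.val_one, ← emb_one (F := F) (m := m) l] at h1
    have h2 := congrArg (· *ᵥ δ) (emb_injective l h1)
    rw [(h.sieG_apply hG hz).2.1, one_mulVec] at h2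
    have h3 : z = (om G z z / 2) • c := by linear_combination (norm := module) h2
    have h4 := (h.om_mid hG hz).2.1
    rw [h3, om_smul_left, h.cd hG, mul_one] at h4
    rw [h3, h4, zero_smul]
  have hpow : ∀ {z : Fin m → F}, z ∈ mid G c δ → embG l (sieG G c z) ^ p = 1 := fun {z} hz => by
    rw [← map_pow, sieG_pow hG h.c_iso (h.om_mid hG hz).1, CharP.cast_eq_zero, zero_smul, sieG_zero hG h.c_iso,
      map_one]
  by_cases hmp : m ≠ 3 ∨ p < Nat.card F
  · obtain ⟨Z, hZ, hZa, hZc⟩ := exists_regular_space hP h hmp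
    let φ : Multiplicative Z →* GL (ι → Fin m) F :=
      MonoidHom.mk' (fun z => embG l (sieG G c (z.toAdd : Fin m → F))) fun a b => by
        rw [← map_mul, sieG_mul hG h.c_iso (h.om_mid hG (hZ a.toAdd.2)).1 (h.om_mid hG (hZ b.toAdd.2)).1]
        rfl
    have hφi : Function.Injective φ := (injective_iff_map_eq_one φ).2 fun a ha => by
      have := hinj (hZ a.toAdd.2) ha
      exact toAdd_eq_zero.1 (Subtype.ext this)
    have hcard : Nat.card φ.range = Nat.card Z :=
      (Nat.card_congr (φ.ofInjective hφi).toEquiv).symm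
    have hA : Cfsg.IsElementaryAbelian p φ.range := by
      refine ⟨⟨⟨fun a b => ?_⟩⟩, ?_⟩
      · obtain ⟨_, x, rfl⟩ := a
        obtain ⟨_, y, rfl⟩ := b
        exact Subtype.ext (show φ x * φ y = φ y * φ x by rw [← map_mul, ← map_mul, mul_comm])
      · rintro _ ⟨x, rfl⟩
        exact hpow (hZ x.toAdd.2)
    refine CfsgLib.Signalizer.le_of_forall_hyperplane hA hX ?_ fun B hB hidx => ?_
    · rintro _ ⟨x, rfl⟩
      exact hn _ (hZ x.toAdd.2)
    · obtain ⟨b, hb, hb1⟩ : ∃ b ∈ B, b ≠ 1 := by
        by_contra! hall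
        have hB0 : B = ⊥ := (Subgroup.eq_bot_iff_forall B).2 hall
        rw [hB0, Subgroup.relIndex_bot_left, hcard] at hidx
        omega
      obtain ⟨x, rfl⟩ := hB hb
      intro y hy
      refine hD y hy.1 _ (hZ x.toAdd.2) (hZa _ x.toAdd.2 fun e => hb1 ?_) ?_
      · show embG l (sieG G c (x.toAdd : Fin m → F)) = 1
        rw [e, sieG_zero hG h.c_iso, map_one]
      · exact (Subgroup.mem_centralizer_iff.1 hy.2 _ hb).symm
  · push Not at hmp
    obtain ⟨hm3, hqp⟩ := hmp
    have hp5 : 5 ≤ p := (hP.five hm3).trans hqp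
    obtain ⟨z, hz, hzz⟩ := h.exists_mid_aniso hP
    have hzc := (h.om_mid hG hz).1
    intro y hy
    refine hD y hy z hz hzz ?_
    let ρ : GL (ι → Fin m) F →* Module.End F ((ι → Fin m) → F) :=
      (Matrix.toLinAlgEquiv' (R := F) (n := ι → Fin m)).toRingEquiv.toRingHom.toMonoidHom.comp (Units.coeHom _)
    have : Nontrivial ((ι → Fin m) → F) :=
      ⟨Pi.single (fun _ => (0 : Fin m)) (1 : F), 0, fun e =>
        one_ne_zero (α := F) (by simpa using congrFun e fun _ => (0 : Fin m))⟩
    refine (CfsgLib.TensorSquareThree.commute_of_cube hp5 ρ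
      (fun a b hab => Units.ext ((Matrix.toLinAlgEquiv' (R := F) (n := ι → Fin m)).injective hab)) hX (hn z hz)
      (hpow hz) ?_ hy).symm
    have e : (emb l (sieM G c z) - 1 : Matrix (ι → Fin m) (ι → Fin m) F) ^ 3 = 0 := by
      rw [← emb_one (F := F) (m := m) l, ← emb_sub, pow_succ, sq, ← emb_mul, ← emb_mul,
        sieM_sub_triple hG h.c_iso hzc hzc, emb_zero]
    have e2 : ρ (embG l (sieG G c z)) - 1 = Matrix.toLinAlgEquiv' (emb l (sieM G c z) - 1) := by
      rw [map_sub, map_one]
      congr 1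
      show Matrix.toLinAlgEquiv' _ = _
      rw [Units.coeHom_apply, embG_val, sieG_val hG h.c_iso hzc]
    rw [e2, ← map_pow, e, map_zero]

namespace Core

variable (hC : Core G d M)
include hC

/-- An element stabilising the block of a singular vector lies in the wreath group. -/
theorem stab_mem {i : ι} {c δ : Fin m → F} (h : Hyp G c δ) {y : GL (ι → Fin m) F} (hy : y ∈ M)
    (hst : ∀ u, (y : Matrix (ι → Fin m) (ι → Fin m) F) *ᵥ lift i c u ∈ block i c) : y ∈ wreath ι m F :=
  hC.set.stab_mem h hC.noSeed (hC.hrec i) hy hst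

/-- The centraliser of a regular unipotent element of one factor. -/
theorem mem_of_comm_sieG {i : ι} {c δ z : Fin m → F} (h : Hyp G c δ) (hz : z ∈ mid G c δ) (hzz : om G z z ≠ 0)
    {y : GL (ι → Fin m) F} (hy : y ∈ M)
    (hc : y * embG i (sieG G c z) = embG i (sieG G c z) * y) : y ∈ wreath ι m F := by
  have hG := hC.set.par.form
  have hzc := (h.om_mid hG hz).1
  refine hC.stab_mem (i := i) h hy fun u => ?_
  set Y := (y : Matrix (ι → Fin m) (ι → Fin m) F)
  have h1 : Y * emb i (sieM G c z - 1) = emb i (sieM G c z - 1) * Y := by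
    have := congrArg Units.val hc
    rw [Units.val_mul, Units.val_mul, embG_val, sieG_val hG h.c_iso hzc] at this
    rw [emb_sub, emb_one, mul_sub, sub_mul, mul_one, one_mul, this]
  have h2 : Y * emb i (cen G c) = emb i (cen G c) * Y := by
    have e : emb i (cen G c) =
        ((-(om G z z))⁻¹ • (emb i (sieM G c z - 1) * emb i (sieM G c z - 1)) :
          Matrix (ι → Fin m) (ι → Fin m) F) := by
      rw [← emb_mul, sieM_sub_sq hG h.c_iso hzc, ← neg_smul, emb_smul, smul_smul,
        inv_mul_cancel₀ (neg_ne_zero.2 hzz), one_smul]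
    rw [e, Matrix.mul_smul, Matrix.smul_mul, ← mul_assoc, h1, mul_assoc, h1, mul_assoc]
  have e : lift i c u = emb i (cen G c) *ᵥ lift i δ u := by
    rw [emb_mulVec_lift, cen_mulVec, h.dc, one_smul]
  rw [e, mulVec_mulVec, h2, ← mulVec_mulVec, block_eq_range (hG.axis_ne h.c_ne)]
  exact ⟨_, rfl⟩

/-- A group of order prime to the characteristic normalised by the Siegel group of a factor. -/
theorem le_wreath_of_pprime {p : ℕ} [Fact p.Prime] [CharP F p] {X : Subgroup (GL (ι → Fin m) F)} (hXM : X ≤ M)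
    (hX : ¬ p ∣ Nat.card X) (l : ι) {c δ : Fin m → F} (h : Hyp G c δ)
    (hn : ∀ z ∈ mid G c δ, embG l (sieG G c z) ∈ Subgroup.normalizer (X : Set (GL (ι → Fin m) F))) :
    X ≤ wreath ι m F :=
  le_of_regular hC.set.par hX l h hn fun _ hy _ hz hzz hc => hC.mem_of_comm_sieG (i := l) h hz hzz (hXM hy) hc

end Core

end CfsgLib.TWOr
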