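import Cfsg.Agent.TensorWreathOrth.Stab

/-!
# From a seed to all central elements at a block

If `M` contains a seed at two factors and, for three distinct factors, a permutation of the factors carrying
one ordered pair to the next, then every skew operator on the other factors occurs in a central element at
each of the two blocks.
-/

set_option autoImplicit false
set_option linter.unusedSectionVars false

namespace CfsgLib.TWOr

open Matrix Module CfsgLib.MaxSub CfsgLib.TWreath
open CfsgLib.TWSp (om kr gram proj cen wedge spG gsim IsIso om_add_left om_add_right om_smul_left om_smul_right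
  axis_dot cen_mulVec mem_spG mem_spG_of_om om_of_mem_spG adj kr_mul emb_eq_kr emb_rest kr_mulVec_lift form_lift
  isIso_embG adj_smul adj_one adj_add)

variable {F : Type*} [Field F] {m : ℕ} {G : Matrix (Fin m) (Fin m) F} {d : F}
  {ι : Type} [Fintype ι] [DecidableEq ι]

/-- All central elements at the block of `c` in the factor `i`. -/
def CenFull (G : Matrix (Fin m) (Fin m) F) (M : Subgroup (GL (ι → Fin m) F)) (i : ι) (c : Fin m → F) : Prop :=
  ∀ b : Matrix (Rest i m) (Rest i m) F, adj (gram {j // j ≠ i} G) b = -b →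
    ∃ x ∈ M, (x : Matrix (ι → Fin m) (ι → Fin m) F) = 1 + kr i (cen G c) b

/-- `M` contains three-cycles of the factors in both orientations. -/
def Cyc3 (M : Subgroup (GL (ι → Fin m) F)) : Prop :=
  ∀ a b x : ι, a ≠ b → x ≠ a → x ≠ b →
    ∃ σ : Equiv.Perm ι, σ a = b ∧ σ b = x ∧ pmG (F := F) (m := m) σ ∈ M

theorem kr_emb_eq_Pt (a : ι) (b : {j // j ≠ a}) (X Y : Matrix (Fin m) (Fin m) F) :
    kr a X (emb b Y) = Pt (Function.update (Function.update 1 a X) (b : ι) Y) := by
  rw [kr_emb, emb, emb, Pt_mul]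
  congr 1
  funext k
  by_cases hk : k = (b : ι)
  · rw [hk]; simp [Function.update_of_ne b.2]
  · simp [hk]

theorem one_add_commutator {R : Type*} [Ring R] {x y : Rˣ} {X Y : R} (hx : (x : R) = 1 + X)
    (hy : (y : R) = 1 + Y) (hXX : X * X = 0) (hYY : Y * Y = 0) (hXYX : X * Y * X = 0) (hYXY : Y * X * Y = 0) :
    ((x * y * x⁻¹ * y⁻¹ : Rˣ) : R) = 1 + (X * Y - Y * X) := by
  have hxi : ((x⁻¹ : Rˣ) : R) = 1 - X := Units.inv_eq_of_mul_eq_one_right (by
    rw [hx, add_mul, one_mul, mul_sub, mul_one, hXX, sub_zero, sub_add_cancel])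
  have hyi : ((y⁻¹ : Rˣ) : R) = 1 - Y := Units.inv_eq_of_mul_eq_one_right (by
    rw [hy, add_mul, one_mul, mul_sub, mul_one, hYY, sub_zero, sub_add_cancel])
  rw [Units.val_mul, Units.val_mul, Units.val_mul, hx, hy, hxi, hyi]
  have e : (1 + X) * (1 + Y) * (1 - X) * (1 - Y) = 1 + (X * Y - Y * X) +
      (X * X * Y - X * X - Y * Y + Y * X * Y - X * Y * X - X * (Y * Y) + X * Y * X * Y) := by noncomm_ring
  rw [e, hXX, hYY, hYXY, hXYX]
  simp

theorem conj_pmG_emb_pair (σ : Equiv.Perm ι) {a b : ι} {A B : Matrix (Fin m) (Fin m) F}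
    {x : GL (ι → Fin m) F} (hx : (x : Matrix (ι → Fin m) (ι → Fin m) F) = 1 + emb a A * emb b B) :
    ((pmG σ * x * (pmG σ)⁻¹ : GL (ι → Fin m) F) : Matrix (ι → Fin m) (ι → Fin m) F) =
      1 + emb (σ a) A * emb (σ b) B := by
  rw [Units.val_mul, Units.val_mul, hx, pmG_val, mul_add, mul_one, ← mul_assoc, pm_mul_emb, mul_assoc _ (pm σ),
    pm_mul_emb, ← mul_assoc, add_mul, mul_assoc _ (pm σ), ← pmG_val, Units.mul_inv, mul_one]

theorem Pt_update_sub (gs : ι → Matrix (Fin m) (Fin m) F) (i : ι) (A B : Matrix (Fin m) (Fin m) F) :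
    Pt (Function.update gs i (A - B)) = Pt (Function.update gs i A) - Pt (Function.update gs i B) := by
  rw [eq_sub_iff_add_eq, ← Pt_update_add, sub_add_cancel]

theorem Pt_single (r s : ι → Fin m) :
    Pt (fun k => Matrix.single (r k) (s k) (1 : F)) = Matrix.single r s 1 := by
  ext a b
  show ∏ k, Matrix.single (r k) (s k) (1 : F) (a k) (b k) = _
  simp only [Matrix.single_apply, Fintype.prod_boole, funext_iff, forall_and]

theorem adj_sub' {n : Type*} [Fintype n] [DecidableEq n] (J a b : Matrix n n F) :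
    adj J (a - b) = adj J a - adj J b := by
  rw [eq_sub_iff_add_eq, ← adj_add, sub_add_cancel]

variable [Finite F] {M : Subgroup (GL (ι → Fin m) F)} {c δ : Fin m → F}

theorem CenFull.smul {i : ι} (hc : CenFull G M i c) {k : F} (hk : k ≠ 0) : CenFull G M i (k • c) := by
  intro b hb
  obtain ⟨x, hx, he⟩ := hc ((k * k) • b) (by rw [adj_smul, hb, smul_neg])
  refine ⟨x, hx, ?_⟩
  rw [he, cen_smul, TWSp.kr_smul_right, TWSp.kr_smul_left]

namespace Setting

variable (hS : Setting G d M)
include hS

theorem cenFull_map {i : ι} (hc : CenFull G M i c) {g : GL (Fin m) F} (hg : g ∈ fgrp G d) :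
    CenFull G M i ((g : Matrix (Fin m) (Fin m) F) *ᵥ c) := by
  intro b hb
  obtain ⟨x, hx, he⟩ := hc b hb
  refine ⟨_, M.mul_mem (M.mul_mem (hS.mem i hg) hx) (M.inv_mem (hS.mem i hg)), ?_⟩
  rw [Units.val_mul, Units.val_mul, he, mul_add, add_mul, mul_one, Units.mul_inv, ← adM_apply (embG i g), adM_kr,
    adM_cen (fgrp_le hS.par.form hg)]

theorem cenFull_swap (h : Hyp G c δ) {i : ι} (hc : CenFull G M i c) : CenFull G M i δ := by
  obtain ⟨r, hr, a, ha, hrc, -⟩ := h.exists_flip hS.par
  have h1 := hS.cenFull_map hc hr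
  rw [hrc] at h1
  have h2 := h1.smul (inv_ne_zero ha)
  rwa [inv_smul_smul₀ ha] at h2

variable (h : Hyp G c δ) {a : ι} (b : {j // j ≠ a}) {f : Fin m → F} (hf : f ∈ mid G c δ) (hff : om G f f ≠ 0)
include h hf hff

/-- A seed gives the two short operators with all scalars. -/
theorem pair_ops
    (hseed : ∃ x ∈ M, (x : Matrix (ι → Fin m) (ι → Fin m) F) = 1 + kr a (cen G c) (emb b (wedge G f c))) :
    ∀ k : F, emb b (k • wedge G f c) ∈ cenSub (G := G) (c := c) M a h.c_iso ∧
      emb b (k • wedge G δ c) ∈ cenSub (G := G) (c := c) M a h.c_iso := by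
  have hP := hS.par
  have hG := hP.form
  have h2 := hG.two
  set CS := cenSub (G := G) (c := c) M a h.c_iso
  obtain ⟨fc, fd, cf, df⟩ := h.om_mid hG hf
  have hadM : ∀ (g : GL (Fin m) F) (X : Matrix (Fin m) (Fin m) F), adM (embG b g) (emb b X) = emb b (adM g X) :=
    fun g X => by rw [adM_apply, adM_apply, ← map_inv, embG_val, embG_val, ← emb_mul, ← emb_mul]
  let W : Submodule F (Matrix (Fin m) (Fin m) F) :=
    { carrier := {A | ∀ k : F, emb b (k • A) ∈ CS}
      add_mem' := fun {A B} hA hB k => by rw [smul_add, emb_add]; exact CS.add_mem (hA k) (hB k)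
      zero_mem' := fun k => by rw [smul_zero, emb_zero]; exact CS.zero_mem
      smul_mem' := fun r A hA k => by rw [smul_smul]; exact hA _ }
  have hinv : ∀ g ∈ fgrp G d, ∀ A ∈ W, adM g A ∈ W := fun g hg A hA k => by
    rw [← map_smul, ← hadM]
    exact hS.cen_conj h (hA k) b hg
  have hW : wedge G f c ∈ W := by
    intro k
    have hsq : ∀ s : F, emb b ((s * s) • wedge G f c) ∈ CS := fun s => by
      rcases eq_or_ne s 0 with rfl | hs
      · rw [mul_zero, zero_smul, emb_zero]; exact CS.zero_mem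
      obtain ⟨τ, hτ, hτc, hτz⟩ := h.exists_torus hP hs
      have h1 := hS.cen_conj h (show emb b (wedge G f c) ∈ CS from hseed) b hτ
      rw [hadM, adM_wedge hG (fgrp_le hG hτ), hτz f hf, hτc] at h1
      rwa [show wedge G f ((s * s) • c) = (s * s) • wedge G f c by
        rw [wedge_eq_dyad, wedge_eq_dyad, dyad_smul_left, dyad_smul_right, smul_sub]] at h1
    have h1 := CS.sub_mem (hsq ((k + 1) / 2)) (hsq ((k - 1) / 2))
    rw [← emb_sub, ← sub_smul] at h1
    convert h1 using 3
    field_simp
    ring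
  obtain ⟨r, hr, ρ, hρ, hrc, hrz⟩ := h.exists_flip hP
  have hfd : wedge G f δ ∈ W := by
    have h1 := hinv r hr _ hW
    rw [adM_wedge hG (fgrp_le hG hr), hrz f hf, hrc, wedge_eq_dyad, dyad_smul_left, dyad_smul_right, ← smul_sub,
      ← wedge_eq_dyad] at h1
    exact (W.smul_mem_iff hρ).1 h1
  have hact : ∀ t : F, adM (sieG G c (t • f)) (wedge G f δ) ∈ W := fun t =>
    hinv _ (sieG_mem_fgrp h.c_iso (h.om_mid hG (Submodule.smul_mem _ t hf)).1) _ hfd
  have hval : ∀ t : F, adM (sieG G c (t • f)) (wedge G f δ) =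
      wedge G (f - (t * om G f f) • c) (δ + t • f - (t * t * om G f f / 2) • c) := fun t => by
    obtain ⟨-, a2, a3⟩ := h.sieG_apply hG (Submodule.smul_mem _ t hf)
    rw [adM_wedge hG (sieG_mem hG h.c_iso (h.om_mid hG (Submodule.smul_mem _ t hf)).1), a3 f hf, a2, om_smul_right,
      om_smul_left, om_smul_right, mul_assoc t t]
  have hdc : wedge G δ c ∈ W := by
    have h1 := W.sub_mem (hact 1) (hact (-1))
    rw [hval, hval] at h1
    refine (W.smul_mem_iff (mul_ne_zero h2 hff)).1 ?_
    convert h1 using 1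
    simp only [wedge_eq_dyad, dyad_sub_left, dyad_sub_right, dyad_add_left, dyad_add_right, dyad_smul_left, dyad_smul_right]
    match_scalars <;> (field_simp; try ring)
  exact fun k => ⟨hW k, hdc k⟩

set_option maxHeartbeats 800000 in
/-- A seed gives an element typed by the product of all `cen`. -/
theorem long_elem (hcyc : Cyc3 M)
    (hseed : ∃ x ∈ M, (x : Matrix (ι → Fin m) (ι → Fin m) F) = 1 + kr a (cen G c) (emb b (wedge G f c))) :
    ∃ x ∈ M, (x : Matrix (ι → Fin m) (ι → Fin m) F) =
      1 + Pt (Function.update (fun _ => cen G c) (b : ι) (wedge G f c)) := by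
  classical
  have hP := hS.par
  have hG := hP.form
  have h2 := hG.two
  set C := cen G c with hC
  set W := wedge G f c with hW
  set A' := (-(2 : F)⁻¹) • wedge G δ c with hA'
  obtain ⟨xA, hxA, hxAe⟩ := ((hS.pair_ops h b hf hff hseed) (-(2 : F)⁻¹)).2
  rw [kr_emb] at hxAe
  have hba : (b : ι) ≠ a := b.2
  have hCC : C * C = 0 := cen_sq h.c_iso
  have hAC : A' * C = (2 : F)⁻¹ • C := by
    rw [hA', Matrix.smul_mul, hC, ← dyad_self, wedge_eq_dyad, sub_mul, dyad_mul_dyad, dyad_mul_dyad, h.c_iso,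
      h.cd hG, zero_smul, one_smul, zero_sub, smul_neg, neg_smul, neg_neg]
  have hCA : C * A' = (-(2 : F)⁻¹) • C := by
    rw [hA', Matrix.mul_smul, hC, ← dyad_self, wedge_eq_dyad, mul_sub, dyad_mul_dyad, dyad_mul_dyad, h.c_iso,
      h.dc, zero_smul, one_smul, sub_zero]
  have hbr : A' * C - C * A' = C := by
    rw [hAC, hCA, ← sub_smul, show (2 : F)⁻¹ - -(2 : F)⁻¹ = 1 by field_simp; ring, one_smul]
  have hCAC : C * A' * C = 0 := by rw [hCA, Matrix.smul_mul, hCC, smul_zero]
  let gsT : Finset ι → ι → Matrix (Fin m) (Fin m) F := fun T j => if j = b then W else if j ∈ insert a T then C else 1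
  suffices key : ∀ T : Finset ι, a ∉ T → (b : ι) ∉ T →
      ∃ x ∈ M, (x : Matrix (ι → Fin m) (ι → Fin m) F) = 1 + Pt (gsT T) by
    obtain ⟨x, hx, he⟩ := key ((Finset.univ.erase a).erase b) (by simp) (by simp)
    refine ⟨x, hx, he.trans ?_⟩
    congr 2
    funext j
    by_cases hj : j = (b : ι)
    · simp [gsT, hj]
    · rw [Function.update_of_ne hj]
      show (if j = (b : ι) then W else _) = C
      rw [if_neg hj, if_pos]
      by_cases hja : j = a <;> simp [hja, hj]
  intro T
  induction T using Finset.induction with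
  | empty =>
    intro _ _
    obtain ⟨x, hx, he⟩ := hseed
    refine ⟨x, hx, ?_⟩
    rw [he, kr_emb_eq_Pt]
    congr 2
    funext j
    by_cases hj : j = (b : ι)
    · simp [gsT, hj]
    · by_cases hja : j = a
      · simp [gsT, hja, hba.symm]
      · simp [gsT, hj, hja]
  | insert l T hl ih =>
    intro haT hbT
    simp only [Finset.mem_insert, not_or] at haT hbT
    obtain ⟨y, hy, hye⟩ := ih haT.2 hbT.2
    have hla : l ≠ a := Ne.symm haT.1
    have hlb : l ≠ (b : ι) := Ne.symm hbT.1
    obtain ⟨σ, hσ1, hσ2, hσ⟩ := hcyc (b : ι) a l hba hlb hla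
    set x := pmG σ * xA * (pmG σ)⁻¹ with hx
    have hxM : x ∈ M := M.mul_mem (M.mul_mem hσ hxA) (M.inv_mem hσ)
    set gx := Function.update (Function.update (1 : ι → Matrix (Fin m) (Fin m) F) l C) a A' with hgx
    have hxe : (x : Matrix (ι → Fin m) (ι → Fin m) F) = 1 + Pt gx := by
      rw [hx, conj_pmG_emb_pair σ hxAe, hσ1, hσ2, emb, emb, Pt_mul, hgx]
      congr 2
      funext j
      by_cases hj : j = a
      · simp [hj, Function.update_of_ne (Ne.symm hla), hA']
      · by_cases hjl : j = l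
        · simp [hjl, hla, hC]
        · simp [hj, hjl]
    set gy := gsT T with hgy
    have gxl : gx l = C := by simp [hgx, hla]
    have gxa : gx a = A' := by simp [hgx]
    have gyl : gy l = 1 := by simp [hgy, gsT, hlb, hla, hl]
    have gya : gy a = C := by simp [hgy, gsT, hba.symm]
    refine ⟨x * y * x⁻¹ * y⁻¹, M.mul_mem (M.mul_mem (M.mul_mem hxM hy) (M.inv_mem hxM)) (M.inv_mem hy), ?_⟩
    rw [one_add_commutator hxe hye
      (by rw [Pt_mul]; exact Pt_eq_zero (k := l) (by rw [Pi.mul_apply, gxl, hCC]))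
      (by rw [Pt_mul]; exact Pt_eq_zero (k := a) (by rw [Pi.mul_apply, gya, hCC]))
      (by rw [Pt_mul, Pt_mul]; exact Pt_eq_zero (k := l) (by rw [Pi.mul_apply, Pi.mul_apply, gxl, gyl, mul_one, hCC]))
      (by rw [Pt_mul, Pt_mul]; exact Pt_eq_zero (k := a) (by rw [Pi.mul_apply, Pi.mul_apply, gxa, gya, hCAC]))]
    congr 1
    set R := gsT (insert l T) with hR
    have e : ∀ j, j ≠ a → gx j * gy j = R j ∧ gy j * gx j = R j := fun j hj => by
      by_cases hjl : j = l
      · subst hjl
        rw [gxl, gyl, mul_one, one_mul]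
        simp [hR, gsT, hlb]
      · rw [show gx j = 1 by simp [hgx, hj, hjl], one_mul, mul_one]
        simp [hR, hgy, gsT, hjl]
    rw [Pt_mul, Pt_mul,
      show gx * gy = Function.update R a (A' * C) from funext fun j => by
        by_cases hj : j = a
        · rw [hj, Pi.mul_apply, gxa, gya, Function.update_self]
        · rw [Pi.mul_apply, Function.update_of_ne hj, (e j hj).1],
      show gy * gx = Function.update R a (C * A') from funext fun j => by
        by_cases hj : j = a
        · rw [hj, Pi.mul_apply, gxa, gya, Function.update_self]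
        · rw [Pi.mul_apply, Function.update_of_ne hj, (e j hj).2],
      ← Pt_update_sub, hbr, show C = R a by simp [hR, gsT, hba.symm], Function.update_eq_self]

set_option maxHeartbeats 800000 in
/-- A seed gives all central elements at the second block. -/
theorem cenFull_of_seed (hcyc : Cyc3 M)
    (hseed : ∃ x ∈ M, (x : Matrix (ι → Fin m) (ι → Fin m) F) = 1 + kr a (cen G c) (emb b (wedge G f c))) :
    CenFull G M (b : ι) c := by
  classical
  have hP := hS.par
  have hG := hP.form
  have h2 := hG.two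
  have : NeZero m := ⟨by have := hP.three; omega⟩
  obtain ⟨x, hx, he⟩ := hS.long_elem h b hf hff hcyc hseed
  set C := cen G c with hC
  set W := wedge G f c with hW
  obtain ⟨hiso, -⟩ := hS.cen_iso h (i := a) hx (by
    rw [he, TWSp.Pt_eq_kr _ a, Function.update_of_ne (Ne.symm b.2)])
  set i : ι := (b : ι)
  set K : Matrix (Rest i m) (Rest i m) F := Pt fun _ => C with hK
  have he' : (x : Matrix (ι → Fin m) (ι → Fin m) F) = 1 + kr i W K := by
    rw [he, TWSp.Pt_eq_kr _ i, Function.update_self]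
    congr 3
    funext j
    rw [Function.update_of_ne j.2]
  obtain ⟨fc, -, cf, -⟩ := h.om_mid hG hf
  have hβ : HasBeta G i c x (fun y => (-om G y f) • K) := by
    refine ⟨hiso, by rw [cf, neg_zero, zero_smul], fun y hy u => ?_⟩
    rw [he', add_mulVec, one_mulVec, kr_mulVec_lift, hW, wedge_mulVec, hy, zero_smul, zero_sub, smul_mulVec,
      ← neg_smul, lift_smul_left, map_smul]
  set T := hS.typedSub (i := i) h hf
  have hKT : K ∈ T := by
    have h1 : -K ∈ T := ⟨x, hx, _, hβ, fun y _ => by rw [neg_smul, smul_neg]⟩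
    exact neg_mem_iff.1 h1
  set J := gram {j // j ≠ i} G
  have hJ : IsUnit J.det := oForm_det hG
  set CS := cenSub (G := G) (c := c) M i h.c_iso
  have hcomm : ∀ A ∈ T, ∀ B ∈ T, A * adj J B - B * adj J A ∈ CS := by
    intro A hA B hB
    obtain ⟨x', hx', β', hβ', hK'⟩ := T.smul_mem (om G f f)⁻¹ hA
    obtain ⟨x₁, hx₁, β₁, hβ₁, hKB⟩ := hB
    refine ⟨_, M.mul_mem (M.mul_mem hx₁ hx') (M.inv_mem (M.mul_mem hx' hx₁)), ?_⟩
    rw [hβ₁.comm_typed hG h.c_ne h.c_iso fc fc hβ' hKB hK', adj_smul, Matrix.smul_mul, Matrix.mul_smul,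
      ← smul_sub, smul_smul, mul_inv_cancel₀ hff, one_smul]
  set Slot : Matrix (Fin m) (Fin m) F → Prop := fun X => ∃ g g' : GL (Fin m) F,
    g ∈ fgrp G d ∧ g' ∈ fgrp G d ∧ X = adM g C * adM g' C with hSlot
  set Ψ : ({j // j ≠ i} → Matrix (Fin m) (Fin m) F) → Prop :=
    fun P => ∀ t : F, t • Pt P - adj J (t • Pt P) ∈ CS with hΨ
  have hbase : ∀ P, (∀ k, Slot (P k)) → Ψ P := by
    intro P hPs t
    choose g g' hg hg' hX using hPs
    have hA : t • Pt (fun k => adM (g k) C) ∈ T :=
      T.smul_mem _ (InvSub.conj_Pt (hS.typed_invSub h hf) hg hKT)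
    have hB : Pt (fun k => adM (g' k) C) ∈ T := InvSub.conj_Pt (hS.typed_invSub h hf) hg' hKT
    have h1 := hcomm _ hA _ hB
    have e : t • Pt P = (t • Pt (fun k => adM (g k) C)) * adj J (Pt fun k => adM (g' k) C) := by
      rw [adj_Pt hG, Matrix.smul_mul, Pt_mul]
      congr 2
      funext k
      rw [Pi.mul_apply, adj_adM hG (fgrp_le hG (hg' k)), hC, hG.adj_cen, hX k, hC]
    rw [e, adj_mul hJ, adj_adj hJ (gram_symm hG)]
    exact h1
  have hall : ∀ S : Finset {j // j ≠ i}, ∀ P, (∀ k, k ∉ S → Slot (P k)) → Ψ P := by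
    intro S
    induction S using Finset.induction with
    | empty => exact fun P hPs => hbase P fun k => hPs k (Finset.notMem_empty k)
    | insert j S hj ih =>
      intro P hPs
      have key : ∀ X ∈ prodSpan G d C, Ψ (Function.update P j X) := by
        intro X hX
        unfold prodSpan at hX
        induction hX using Submodule.span_induction with
        | mem Y hY =>
          obtain ⟨g, hg, g', hg', rfl⟩ := hY
          refine ih _ fun k hk => ?_
          rcases eq_or_ne k j with rfl | hkj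
          · rw [Function.update_self]; exact ⟨g, g', hg, hg', rfl⟩
          · rw [Function.update_of_ne hkj]; exact hPs k (by simp [hkj, hk])
        | zero =>
          intro t
          rw [Pt_eq_zero (k := j) (Function.update_self _ _ _), smul_zero, adj_zero', sub_zero]
          exact CS.zero_mem
        | add Y Z _ _ hY hZ =>
          intro t
          rw [Pt_update_add, smul_add, adj_add, add_sub_add_comm]
          exact CS.add_mem (hY t) (hZ t)
        | smul k Y _ hY =>
          intro t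
          rw [Pt_update_smul, smul_smul]
          exact hY (t * k)
      have h1 := key (P j) (by rw [LowT.prodSpan_eq_top hP h (T := C) (Or.inl rfl)]; trivial)
      rwa [Function.update_eq_self] at h1
  have hZ : ∀ Z : Matrix (Rest i m) (Rest i m) F, Z - adj J Z ∈ CS := fun Z => by
    induction Z using Matrix.induction_on' with
    | h_zero => rw [adj_zero', sub_zero]; exact CS.zero_mem
    | h_add p q hp hq => rw [adj_add, add_sub_add_comm]; exact CS.add_mem hp hq
    | h_std_basis r s t =>
      have h1 := hall Finset.univ (fun k => Matrix.single (r k) (s k) 1)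
        (fun k hk => absurd (Finset.mem_univ k) hk) t
      rwa [Pt_single, Matrix.smul_single, smul_eq_mul, mul_one] at h1
  intro β hskew
  have h1 := hZ ((2 : F)⁻¹ • β)
  rw [adj_smul, hskew, smul_neg, sub_neg_eq_add, ← add_smul,
    show (2 : F)⁻¹ + (2 : F)⁻¹ = 1 by field_simp; ring, one_smul] at h1
  exact h1

omit b hf hff in
/-- All central elements at both blocks of a seed. -/
theorem cenFull_pair (b : {j // j ≠ a}) (hcyc : Cyc3 M) {f : Fin m → F} (hf : f ∈ mid G c δ) (hff : om G f f ≠ 0)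
    (hseed : ∃ x ∈ M, (x : Matrix (ι → Fin m) (ι → Fin m) F) = 1 + kr a (cen G c) (emb b (wedge G f c))) :
    CenFull G M (b : ι) c ∧ CenFull G M a c := by
  have hG := hS.par.form
  have hb := hS.cenFull_of_seed h b hf hff hcyc hseed
  refine ⟨hb, hS.cenFull_of_seed h ⟨a, Ne.symm b.2⟩ hf hff hcyc (hb _ ?_)⟩
  rw [adj_emb hG, hG.adj_wedge, ← neg_one_smul F (wedge G f c), emb_smul, neg_one_smul]

end Setting

end CfsgLib.TWOr
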