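import Cfsg.Agent.TensorWreathOrth.Form
import Cfsg.Agent.TensorWreath.Fusion

/-!
# Overgroups of orthogonal factors: the setting and one-factor linear algebra
-/

set_option autoImplicit false
set_option linter.unusedSectionVars false

namespace CfsgLib.TWOr

open Matrix Module CfsgLib.MaxSub CfsgLib.TWreath
open CfsgLib.TWSp (om kr gram proj cen wedge spG gsim IsIso om_add_left om_add_right om_smul_left om_smul_right
  axis_dot cen_mulVec mem_spG mem_spG_of_om om_of_mem_spG adj)

variable {F : Type*} [Field F] {m : ℕ} {G : Matrix (Fin m) (Fin m) F} {d : F}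

/-- The vectors whose reflections are used: all non-singular ones in even dimension, one square class in odd. -/
def Kap (G : Matrix (Fin m) (Fin m) F) (d : F) (e : Fin m → F) : Prop :=
  om G e e ≠ 0 ∧ (Even m ∨ IsSquare (om G e e * d))

theorem Kap.ne {e : Fin m → F} (h : Kap G d e) : om G e e ≠ 0 := h.1

theorem Kap.ne_zero {e : Fin m → F} (h : Kap G d e) : e ≠ 0 := fun h0 => h.1 (by rw [h0, om_zero_left])

theorem Kap.of_value {e : Fin m → F} (hd : d ≠ 0) (h : om G e e = d) : Kap G d e :=
  ⟨by rw [h]; exact hd, Or.inr ⟨d, by rw [h]⟩⟩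

theorem Kap.map {e : Fin m → F} (h : Kap G d e) {g : GL (Fin m) F} (hg : g ∈ spG G) :
    Kap G d ((g : Matrix (Fin m) (Fin m) F) *ᵥ e) := by rw [Kap, om_of_mem_spG hg]; exact h

theorem Kap.smul {e : Fin m → F} (h : Kap G d e) {k : F} (hk : k ≠ 0) : Kap G d (k • e) := by
  rw [Kap, om_smul_left, om_smul_right]
  refine ⟨mul_ne_zero hk (mul_ne_zero hk h.1), h.2.imp_right fun ⟨r, hr⟩ => ⟨k * r, ?_⟩⟩
  linear_combination (k * k) * hr

/-- The standing conditions on the factor. -/
structure Par [Finite F] (G : Matrix (Fin m) (Fin m) F) (d : F) : Prop where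
  form : OForm G
  d_ne : d ≠ 0
  three : 3 ≤ m
  five : m = 3 → 5 ≤ Nat.card F
  disc : Odd m → IsSquare (d * G.det)
  plane : m = 4 → ∀ x y : Fin m → F, x ≠ 0 → om G x x = 0 → om G y y = 0 → om G x y = 0 → ∃ k : F, k • x = y

theorem Par.kap_of_even [Finite F] (_hP : Par G d) (h : Even m) {e : Fin m → F} (he : om G e e ≠ 0) : Kap G d e :=
  ⟨he, Or.inl h⟩

/-! ### Orthogonal complements -/

/-- The bilinear form of a Gram matrix. -/
noncomputable def bform (G : Matrix (Fin m) (Fin m) F) : LinearMap.BilinForm F (Fin m → F) := Matrix.toBilin' G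

theorem bform_apply (x y : Fin m → F) : bform G x y = om G x y := Matrix.toBilin'_apply' G x y

/-- A subspace on which the form is non-degenerate. -/
def NonDeg (G : Matrix (Fin m) (Fin m) F) (S : Submodule F (Fin m → F)) : Prop :=
  ∀ x ∈ S, (∀ y ∈ S, om G x y = 0) → x = 0

/-- The orthogonal space. -/
noncomputable def perp (G : Matrix (Fin m) (Fin m) F) (S : Submodule F (Fin m → F)) : Submodule F (Fin m → F) :=
  (bform G).orthogonal S

theorem mem_perp (hG : OForm G) {S : Submodule F (Fin m → F)} {x : Fin m → F} :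
    x ∈ perp G S ↔ ∀ y ∈ S, om G x y = 0 := by
  rw [perp, LinearMap.BilinForm.mem_orthogonal_iff]
  exact forall₂_congr fun y _ => by rw [bform_apply, hG.comm]

theorem isCompl_perp (hG : OForm G) {S : Submodule F (Fin m → F)} (hS : NonDeg G S) : IsCompl S (perp G S) := by
  have hr : (bform G).IsRefl := fun x y h => by rwa [bform_apply, hG.comm, ← bform_apply]
  refine (LinearMap.BilinForm.restrict_nondegenerate_iff_isCompl_orthogonal hr).1 ?_
  refine ⟨fun x hx => ?_, fun x hx => ?_⟩
  · exact Subtype.ext (hS x.1 x.2 fun y hy => by rw [← bform_apply]; exact hx ⟨y, hy⟩)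
  · exact Subtype.ext (hS x.1 x.2 fun y hy => by rw [hG.comm, ← bform_apply]; exact hx ⟨y, hy⟩)

theorem nonDeg_perp (hG : OForm G) {S : Submodule F (Fin m → F)} (hS : NonDeg G S) : NonDeg G (perp G S) := by
  intro x hx h
  refine hG.ext fun y => ?_
  obtain ⟨a, ha, b, hb, rfl⟩ := Submodule.mem_sup.1
    (show y ∈ S ⊔ perp G S by rw [(isCompl_perp hG hS).sup_eq_top]; trivial)
  rw [om_add_left, hG.comm a, (mem_perp hG).1 hx a ha, hG.comm b, h b hb, om_zero_right, add_zero]

theorem finrank_perp (hG : OForm G) {S : Submodule F (Fin m → F)} (hS : NonDeg G S) :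
    finrank F S + finrank F (perp G S) = m := by
  rw [Submodule.finrank_add_eq_of_isCompl (isCompl_perp hG hS), Module.finrank_fin_fun]

/-- A non-degenerate non-zero space has a non-singular vector. -/
theorem exists_aniso (hG : OForm G) {S : Submodule F (Fin m → F)} (hS : NonDeg G S) (hne : S ≠ ⊥) :
    ∃ x ∈ S, om G x x ≠ 0 := by
  by_contra! h
  obtain ⟨x, hx, hx0⟩ := Submodule.exists_mem_ne_zero_of_ne_bot hne
  refine hx0 (hS x hx fun y hy => ?_)
  have := h (x + y) (S.add_mem hx hy)
  rw [om_add_left, om_add_right, om_add_right, h x hx, h y hy, hG.comm y x, zero_add, add_zero, ← two_mul,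
    mul_eq_zero] at this
  exact this.resolve_left hG.two

theorem nonDeg_bot : NonDeg G (⊥ : Submodule F (Fin m → F)) := fun _ hx _ => (Submodule.mem_bot F).1 hx

/-- Adding an orthogonal non-singular vector. -/
theorem nonDeg_sup (hG : OForm G) {S : Submodule F (Fin m → F)} (hS : NonDeg G S) {e : Fin m → F}
    (he : om G e e ≠ 0) (heS : ∀ y ∈ S, om G e y = 0) : NonDeg G (S ⊔ Submodule.span F {e}) := by
  intro x hx h
  obtain ⟨a, ha, b, hb, rfl⟩ := Submodule.mem_sup.1 hx
  obtain ⟨k, rfl⟩ := Submodule.mem_span_singleton.1 hb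
  have h1 := h e (Submodule.mem_sup_right (Submodule.mem_span_singleton_self e))
  rw [om_add_left, hG.comm a, heS a ha, zero_add, om_smul_left, mul_eq_zero] at h1
  have hk := h1.resolve_right he
  subst hk
  rw [zero_smul, add_zero] at h ⊢
  exact hS a ha fun y hy => h y (Submodule.mem_sup_left hy)

theorem finrank_sup_le (S : Submodule F (Fin m → F)) (e : Fin m → F) :
    finrank F (S ⊔ Submodule.span F {e} : Submodule F (Fin m → F)) ≤ finrank F S + 1 := by
  refine (Submodule.finrank_add_le_finrank_add_finrank S _).trans (Nat.add_le_add_left ?_ _)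
  simpa using finrank_span_le_card (R := F) ({e} : Set (Fin m → F))

/-- Binary non-degenerate spaces represent every value. -/
theorem exists_value [Finite F] (hG : OForm G) {S : Submodule F (Fin m → F)} (hS : NonDeg G S)
    (h2 : 2 ≤ finrank F S) {v : F} (hv : v ≠ 0) : ∃ x ∈ S, x ≠ 0 ∧ om G x x = v := by
  obtain ⟨e, heS, he⟩ := exists_aniso hG hS fun h => by rw [h, finrank_bot] at h2; omega
  obtain ⟨f, hfS, hfe, hf⟩ : ∃ f ∈ S, om G f e = 0 ∧ om G f f ≠ 0 := by
    by_contra! hcon
    have hproj : ∀ x ∈ S, ∀ y ∈ S, om G x e = 0 → om G y e = 0 → om G x y = 0 := fun x hx y hy hxe hye => by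
      have h1 := hcon (x + y) (S.add_mem hx hy) (by rw [om_add_left, hxe, hye, add_zero])
      rw [om_add_left, om_add_right, om_add_right, hcon x hx hxe, hcon y hy hye, hG.comm y x, zero_add,
        add_zero, ← two_mul, mul_eq_zero] at h1
      exact h1.resolve_left hG.two
    have hle : S ≤ Submodule.span F {e} := fun x hx => by
      set x' := x - (om G x e / om G e e) • e with hx'
      have hx'S : x' ∈ S := S.sub_mem hx (S.smul_mem _ heS)
      have hx'e : om G x' e = 0 := by rw [hx', om_sub_left, om_smul_left, div_mul_cancel₀ _ he, sub_self]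
      have h0 : x' = 0 := hS x' hx'S fun y hy => by
        have hy' : y - (om G y e / om G e e) • e ∈ S := S.sub_mem hy (S.smul_mem _ heS)
        have := hproj x' hx'S _ hy' hx'e (by rw [om_sub_left, om_smul_left, div_mul_cancel₀ _ he, sub_self])
        rwa [om_sub_right, om_smul_right, hx'e, mul_zero, sub_zero] at this
      exact Submodule.mem_span_singleton.2 ⟨om G x e / om G e e, (sub_eq_zero.1 h0).symm⟩
    have := (Submodule.finrank_mono hle).trans
      (le_of_eq (finrank_span_singleton (show e ≠ 0 from fun h => he (by rw [h, om_zero_left]))))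
    omega
  have := Fintype.ofFinite F
  have hc : ringChar F ≠ 2 := fun h => hG.two (by
    have := (ringChar.spec F 2).mpr (by rw [h])
    exact_mod_cast this)
  obtain ⟨a, b, hab⟩ := FiniteField.exists_root_sum_quadratic
    (f := Polynomial.C (om G e e) * Polynomial.X ^ 2)
    (g := Polynomial.C (om G f f) * Polynomial.X ^ 2 - Polynomial.C v)
    (Polynomial.degree_C_mul_X_pow 2 he) (by
      rw [Polynomial.degree_sub_eq_left_of_degree_lt, Polynomial.degree_C_mul_X_pow 2 hf]; · rfl
      rw [Polynomial.degree_C_mul_X_pow 2 hf, Polynomial.degree_C hv]; decide)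
    (by rw [← Nat.odd_iff]; rw [Nat.odd_iff, FiniteField.odd_card_of_char_ne_two hc])
  simp only [Polynomial.eval_mul, Polynomial.eval_C, Polynomial.eval_pow, Polynomial.eval_X,
    Polynomial.eval_sub] at hab
  refine ⟨a • e + b • f, S.add_mem (S.smul_mem _ heS) (S.smul_mem _ hfS), fun h => ?_, ?_⟩
  · have h1 := congrArg (fun x => om G x x) h
    simp only [om_add_left, om_add_right, om_smul_left, om_smul_right, hfe, hG.comm e f, om_zero_left] at h1
    exact hv (by linear_combination h1 - hab)
  · simp only [om_add_left, om_add_right, om_smul_left, om_smul_right, hfe, hG.comm e f]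
    linear_combination hab

variable [Finite F]

theorem exists_kap (hP : Par G d) {S : Submodule F (Fin m → F)} (hS : NonDeg G S) (h2 : 2 ≤ finrank F S) :
    ∃ x ∈ S, Kap G d x := by
  obtain ⟨x, hx, -, hv⟩ := exists_value hP.form hS h2 hP.d_ne
  exact ⟨x, hx, Kap.of_value hP.d_ne hv⟩

/-- A vector of `Kap` orthogonal to a small space. -/
theorem exists_kap_perp (hP : Par G d) {S : Submodule F (Fin m → F)} (hS : NonDeg G S)
    (h : finrank F S + 2 ≤ m) : ∃ x, Kap G d x ∧ ∀ y ∈ S, om G x y = 0 := by
  obtain ⟨x, hx, hk⟩ := exists_kap hP (nonDeg_perp hP.form hS) (by have := finrank_perp hP.form hS; omega)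
  exact ⟨x, hk, (mem_perp hP.form).1 hx⟩

/-! ### A hyperbolic pair -/

/-- A hyperbolic pair. -/
structure Hyp (G : Matrix (Fin m) (Fin m) F) (c δ : Fin m → F) : Prop where
  c_iso : om G c c = 0
  d_iso : om G δ δ = 0
  dc : om G δ c = 1

theorem Hyp.c_ne {c δ : Fin m → F} (h : Hyp G c δ) : c ≠ 0 := fun h0 => by
  have := h.dc; rw [h0, om_zero_right] at this; exact zero_ne_one this

theorem Hyp.swap {c δ : Fin m → F} (h : Hyp G c δ) (hG : OForm G) : Hyp G δ c :=
  ⟨h.d_iso, h.c_iso, by rw [hG.comm, h.dc]⟩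

theorem Hyp.nonDeg {c δ : Fin m → F} (h : Hyp G c δ) (hG : OForm G) :
    NonDeg G (Submodule.span F {c} ⊔ Submodule.span F {δ}) := by
  intro x hx hy
  obtain ⟨a, ha, b, hb, rfl⟩ := Submodule.mem_sup.1 hx
  obtain ⟨r, rfl⟩ := Submodule.mem_span_singleton.1 ha
  obtain ⟨s, rfl⟩ := Submodule.mem_span_singleton.1 hb
  have h1 := hy c (Submodule.mem_sup_left (Submodule.mem_span_singleton_self c))
  have h2 := hy δ (Submodule.mem_sup_right (Submodule.mem_span_singleton_self δ))
  simp only [om_add_left, om_smul_left, h.c_iso, h.d_iso, h.dc, hG.comm c δ] at h1 h2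
  simp only [mul_zero, mul_one, zero_add, add_zero] at h1 h2
  rw [h1, h2, zero_smul, zero_smul, add_zero]

/-- The space orthogonal to a pair. -/
noncomputable def mid (G : Matrix (Fin m) (Fin m) F) (c δ : Fin m → F) : Submodule F (Fin m → F) :=
  perp G (Submodule.span F {c} ⊔ Submodule.span F {δ})

theorem mem_mid (hG : OForm G) {c δ x : Fin m → F} : x ∈ mid G c δ ↔ om G x c = 0 ∧ om G x δ = 0 := by
  rw [mid, mem_perp hG]
  refine ⟨fun h => ⟨h c (Submodule.mem_sup_left (Submodule.mem_span_singleton_self c)),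
    h δ (Submodule.mem_sup_right (Submodule.mem_span_singleton_self δ))⟩, fun ⟨h1, h2⟩ y hy => ?_⟩
  obtain ⟨a, ha, b, hb, rfl⟩ := Submodule.mem_sup.1 hy
  obtain ⟨r, rfl⟩ := Submodule.mem_span_singleton.1 ha
  obtain ⟨s, rfl⟩ := Submodule.mem_span_singleton.1 hb
  rw [om_add_right, om_smul_right, om_smul_right, h1, h2]; ring

theorem Hyp.finrank_mid {c δ : Fin m → F} (h : Hyp G c δ) (hG : OForm G) : m ≤ finrank F (mid G c δ) + 2 := by
  have h1 := finrank_perp hG (h.nonDeg hG)
  have h2 := finrank_sup_le (Submodule.span F {c}) δ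
  rw [finrank_span_singleton h.c_ne] at h2
  rw [mid]; omega

theorem Hyp.exists_mid_aniso {c δ : Fin m → F} (h : Hyp G c δ) (hP : Par G d) :
    ∃ z ∈ mid G c δ, om G z z ≠ 0 :=
  exists_aniso hP.form (nonDeg_perp hP.form (h.nonDeg hP.form)) fun h0 => by
    have := h.finrank_mid hP.form
    rw [show mid G c δ = ⊥ from h0, finrank_bot] at this
    have := hP.three
    omega

/-- Decomposition along a pair. -/
theorem Hyp.decomp {c δ : Fin m → F} (h : Hyp G c δ) (hG : OForm G) (x : Fin m → F) :
    x - om G x δ • c - om G x c • δ ∈ mid G c δ := by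
  rw [mem_mid hG]
  simp only [om_sub_left, om_smul_left, h.c_iso, h.d_iso, h.dc, hG.comm c δ]
  constructor <;> ring

/-- A linear map vanishing on the vectors of `Kap` in the middle vanishes there. -/
theorem eq_zero_of_kap {c δ : Fin m → F} (h : Hyp G c δ) (hP : Par G d) (hm : 4 ≤ m)
    {V : Type*} [AddCommGroup V] [Module F V] (L : (Fin m → F) →ₗ[F] V)
    (hL : ∀ f ∈ mid G c δ, Kap G d f → L f = 0) {x : Fin m → F} (hx : x ∈ mid G c δ) : L x = 0 := by
  classical
  have hG := hP.form
  have key : ∀ x ∈ mid G c δ, om G x x ≠ 0 → L x = 0 := by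
    intro x hx hv
    by_cases hk : Kap G d x
    · exact hL x hx hk
    have hodd : ¬ Even m := fun he => hk (hP.kap_of_even he hv)
    have h5 : 5 ≤ m := by
      rcases hm.lt_or_eq with h | h
      · omega
      · exact absurd ⟨2, by omega⟩ hodd
    have hne : d - om G x x ≠ 0 := fun h0 => hk (Kap.of_value hP.d_ne (sub_eq_zero.1 h0).symm)
    set S := Submodule.span F {c} ⊔ Submodule.span F {δ} ⊔ Submodule.span F {x}
    have hSnd : NonDeg G S := nonDeg_sup hG (h.nonDeg hG) hv ((mem_perp hG).1 hx)
    have hfr := finrank_perp hG hSnd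
    have h3 := finrank_sup_le (Submodule.span F {c} ⊔ Submodule.span F {δ}) x
    have h4 := finrank_sup_le (Submodule.span F {c}) δ
    rw [finrank_span_singleton h.c_ne] at h4
    obtain ⟨y, hy, -, hyv⟩ := exists_value hG (nonDeg_perp hG hSnd)
      (show 2 ≤ finrank F (perp G S) by
        change finrank F S ≤ _ at h3
        omega) hne
    have hyS := (mem_perp hG).1 hy
    have hyx : om G y x = 0 := hyS x (Submodule.mem_sup_right (Submodule.mem_span_singleton_self x))
    have hyM : y ∈ mid G c δ := (mem_perp hG).2 fun w hw => hyS w (Submodule.mem_sup_left hw)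
    have e1 := hL (x + y) ((mid G c δ).add_mem hx hyM) (Kap.of_value hP.d_ne (by
      rw [om_add_left, om_add_right, om_add_right, hG.comm x y, hyx, hyv]; ring))
    have e2 := hL (x - y) ((mid G c δ).sub_mem hx hyM) (Kap.of_value hP.d_ne (by
      rw [om_sub_left, om_sub_right, om_sub_right, hG.comm x y, hyx, hyv]; ring))
    rw [map_add] at e1
    rw [map_sub] at e2
    have e3 : (2 : F) • L x = 0 := by rw [two_smul]; linear_combination (norm := abel) e1 + e2
    exact (smul_eq_zero.1 e3).resolve_left hG.two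
  rcases eq_or_ne (om G x x) 0 with hv | hv
  swap
  · exact key x hx hv
  obtain ⟨z, hz, hzz⟩ := h.exists_mid_aniso hP
  obtain ⟨s, hs⟩ : ∃ s : F, om G (x + s • z) (x + s • z) ≠ 0 := by
    by_contra! hall
    have h1 := hall 1
    have h2 := hall (-1)
    simp only [om_add_left, om_add_right, om_smul_left, om_smul_right, hv, hG.comm z x] at h1 h2
    exact hzz ((mul_eq_zero.1 (show (2 : F) * om G z z = 0 by linear_combination h1 + h2)).resolve_left hG.two)
  have e := key _ ((mid G c δ).add_mem hx ((mid G c δ).smul_mem s hz)) hs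
  rwa [map_add, map_smul, key z hz hzz, smul_zero, add_zero] at e

/-- The vectors `x` split along a pair. -/
def proj3 (G : Matrix (Fin m) (Fin m) F) (c δ x : Fin m → F) : Fin m → F := x - om G x δ • c - om G x c • δ

theorem proj3_mem (hG : OForm G) {c δ : Fin m → F} (h : Hyp G c δ) (x : Fin m → F) :
    proj3 G c δ x ∈ mid G c δ := h.decomp hG x

theorem exists_hyp (hP : Par G d) : ∃ c δ, Hyp G c δ := by
  have hG := hP.form
  obtain ⟨e, -, he⟩ := exists_aniso hG (S := ⊤) (fun x _ h => hG.ext fun y => by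
    rw [hG.comm, h y trivial, om_zero_right]) (fun h => by
      have := congrArg (fun S : Submodule F (Fin m → F) => finrank F S) h
      simp only [finrank_top, finrank_bot, Module.finrank_fin_fun] at this
      have := hP.three; omega)
  have h1 : NonDeg G (Submodule.span F {e}) := by
    simpa using nonDeg_sup hG nonDeg_bot he (fun y hy => by rw [(Submodule.mem_bot F).1 hy, om_zero_right])
  have h2 := finrank_perp hG h1
  rw [finrank_span_singleton (show e ≠ 0 from fun h => he (by rw [h, om_zero_left]))] at h2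
  obtain ⟨f, hf, -, hfv⟩ := exists_value hG (nonDeg_perp hG h1)
    (show 2 ≤ _ by have := hP.three; omega) (neg_ne_zero.2 he)
  have hfe := (mem_perp hG).1 hf e (Submodule.mem_span_singleton_self e)
  have hiso : om G (e + f) (e + f) = 0 := by
    rw [om_add_left, om_add_right, om_add_right, hG.comm e f, hfe, hfv]; ring
  have hne : e + f ≠ 0 := fun h => he (by
    have h3 : om G (e + f) e = 0 := by rw [h, om_zero_left]
    rwa [om_add_left, hfe, add_zero] at h3)
  obtain ⟨δ, hd1, hd2⟩ := hG.exists_partner hne hiso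
  exact ⟨_, δ, hiso, hd1, hd2⟩

/-! ### Siegel elements: powers -/

theorem sieM_sub_sq (hG : OForm G) {c z : Fin m → F} (hc : om G c c = 0) (hz : om G z c = 0) :
    (sieM G c z - 1) * (sieM G c z - 1) = -(om G z z • cen G c) := by
  refine Matrix.ext_of_mulVec_single fun k => ?_
  simp only [← mulVec_mulVec, sub_mulVec, one_mulVec, sieM_mulVec, neg_mulVec, smul_mulVec, cen_mulVec,
    om_add_left, om_sub_left, om_smul_left, hc, hz, hG.comm c z]
  match_scalars <;> ring

theorem sieM_sub_triple (hG : OForm G) {c z z' : Fin m → F} (hc : om G c c = 0) (hz : om G z c = 0)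
    (hz' : om G z' c = 0) : (sieM G c z - 1) * (sieM G c z - 1) * (sieM G c z' - 1) = 0 := by
  rw [sieM_sub_sq hG hc hz]
  refine Matrix.ext_of_mulVec_single fun k => ?_
  simp only [← mulVec_mulVec, sub_mulVec, one_mulVec, sieM_mulVec, neg_mulVec, smul_mulVec, cen_mulVec,
    om_add_left, om_sub_left, om_smul_left, hc, hz', zero_mulVec]
  match_scalars <;> ring

/-- The setting: `M` contains the factor reflections and Siegel elements. -/
structure Setting {ι : Type} [Fintype ι] [DecidableEq ι] (G : Matrix (Fin m) (Fin m) F) (d : F)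
    (M : Subgroup (GL (ι → Fin m) F)) : Prop where
  par : Par G d
  sim : M ≤ gsim ι G
  refl : ∀ (i : ι) (e : Fin m → F), Kap G d e → embG i (refG G e) ∈ M
  sieg : ∀ (i : ι) (c z : Fin m → F), om G c c = 0 → om G z c = 0 → embG i (sieG G c z) ∈ M

end CfsgLib.TWOr
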