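import Cfsg.Agent.TensorWreathOrth.Commutant

/-!
# The shape of a stabiliser of a singular block
-/

set_option autoImplicit false
set_option linter.unusedSectionVars false

namespace CfsgLib.TWOr

open Matrix Module CfsgLib.MaxSub CfsgLib.TWreath
open CfsgLib.TWSp (om kr gram proj cen wedge spG gsim IsIso om_add_left om_add_right om_smul_left om_smul_right
  axis_dot cen_mulVec mem_spG mem_spG_of_om om_of_mem_spG adj kr_mul emb_eq_kr emb_rest kr_mulVec_lift form_lift
  isIso_embG proj_lift mem_block_iff_proj eq_of_form_eq proj_add_axis proj_smul_axis)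

variable {F : Type*} [Field F] {m : ℕ} {G : Matrix (Fin m) (Fin m) F} {d : F}
  {ι : Type} [Fintype ι] [DecidableEq ι] {i : ι} {c δ : Fin m → F}

/-- The action of a stabiliser of the block of `c` on the block and on the middle. -/
structure Shape (G : Matrix (Fin m) (Fin m) F) (i : ι) (c δ : Fin m → F) (y : GL (ι → Fin m) F)
    (T : (Fin m → F) → Fin m → F) (ψ : GL (Rest i m) F) : Prop where
  axis : ∀ u, (y : Matrix (ι → Fin m) (ι → Fin m) F) *ᵥ lift i c u =
    lift i c ((ψ : Matrix (Rest i m) (Rest i m) F) *ᵥ u)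
  maps : ∀ w ∈ mid G c δ, T w ∈ mid G c δ
  inj : Set.InjOn T (mid G c δ)
  middle : ∀ w ∈ mid G c δ, ∀ u, ∃ r, (y : Matrix (ι → Fin m) (ι → Fin m) F) *ᵥ lift i w u =
    lift i (T w) ((ψ : Matrix (Rest i m) (Rest i m) F) *ᵥ u) + lift i c r

theorem shape_embG (l : {j // j ≠ i}) (g : GL (Fin m) F) : Shape G i c δ (embG (l : ι) g) id (embG l g) where
  axis u := by rw [embG_val, embG_val, emb_rest, kr_mulVec_lift, one_mulVec]
  maps _ hw := hw
  inj := Set.injOn_id _
  middle w _ u := ⟨0, by rw [embG_val, embG_val, emb_rest, kr_mulVec_lift, one_mulVec, map_zero, add_zero]; rfl⟩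

theorem shape_embG_self {g : GL (Fin m) F} (hc : (g : Matrix (Fin m) (Fin m) F) *ᵥ c = c)
    (hw : ∀ w ∈ mid G c δ, (g : Matrix (Fin m) (Fin m) F) *ᵥ w = w) : Shape G i c δ (embG i g) id 1 where
  axis u := by rw [embG_val, emb_mulVec_lift, hc, Units.val_one, one_mulVec]
  maps _ h := h
  inj := Set.injOn_id _
  middle w h u := ⟨0, by rw [embG_val, emb_mulVec_lift, hw w h, Units.val_one, one_mulVec, map_zero, add_zero]; rfl⟩

theorem Shape.mul {a b : GL (ι → Fin m) F} {T T' : (Fin m → F) → Fin m → F} {ψ ψ' : GL (Rest i m) F}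
    (ha : Shape G i c δ a T ψ) (hb : Shape G i c δ b T' ψ') : Shape G i c δ (a * b) (T ∘ T') (ψ * ψ') where
  axis u := by rw [Units.val_mul, Units.val_mul, ← mulVec_mulVec, hb.axis, ha.axis, mulVec_mulVec]
  maps w hw := ha.maps _ (hb.maps w hw)
  inj := ha.inj.comp hb.inj hb.maps
  middle w hw u := by
    obtain ⟨r, hr⟩ := hb.middle w hw u
    obtain ⟨r', hr'⟩ := ha.middle _ (hb.maps w hw) ((ψ' : Matrix (Rest i m) (Rest i m) F) *ᵥ u)
    refine ⟨r' + (ψ : Matrix (Rest i m) (Rest i m) F) *ᵥ r, ?_⟩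
    rw [Units.val_mul, Units.val_mul, ← mulVec_mulVec, hr, mulVec_add, hr', ha.axis, ← mulVec_mulVec, map_add,
      add_assoc]
    rfl

variable [Finite F]

theorem Shape.surj {a : GL (ι → Fin m) F} {T : (Fin m → F) → Fin m → F} {ψ : GL (Rest i m) F}
    (ha : Shape G i c δ a T ψ) {w : Fin m → F} (hw : w ∈ mid G c δ) : ∃ v ∈ mid G c δ, T v = w := by
  let f : mid G c δ → mid G c δ := fun v => ⟨T v.1, ha.maps _ v.2⟩
  have hf : Function.Injective f := fun u v huv => Subtype.ext (ha.inj u.2 v.2 (congrArg Subtype.val huv))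
  obtain ⟨v, hv⟩ := Finite.injective_iff_surjective.1 hf ⟨w, hw⟩
  exact ⟨v.1, v.2, congrArg Subtype.val hv⟩

/-- Elements with the same middle differ by an element trivial on the middle. -/
theorem Shape.quot {a b : GL (ι → Fin m) F} {T : (Fin m → F) → Fin m → F} {ψ ψ' : GL (Rest i m) F}
    (ha : Shape G i c δ a T ψ) (hb : Shape G i c δ b T ψ') : Shape G i c δ (a * b⁻¹) id (ψ * ψ'⁻¹) := by
  set A := (a : Matrix (ι → Fin m) (ι → Fin m) F)
  set Bi := ((b⁻¹ : GL (ι → Fin m) F) : Matrix (ι → Fin m) (ι → Fin m) F)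
  set P := (ψ : Matrix (Rest i m) (Rest i m) F)
  set P' := (ψ' : Matrix (Rest i m) (Rest i m) F)
  set Pi' := ((ψ'⁻¹ : GL (Rest i m) F) : Matrix (Rest i m) (Rest i m) F)
  have hBi : ∀ v, Bi *ᵥ ((b : Matrix (ι → Fin m) (ι → Fin m) F) *ᵥ v) = v := fun v => by
    rw [mulVec_mulVec, Units.inv_mul, one_mulVec]
  have hP : ∀ u, P' *ᵥ (Pi' *ᵥ u) = u := fun u => by rw [mulVec_mulVec, Units.mul_inv, one_mulVec]
  have haxis : ∀ u, Bi *ᵥ lift i c u = lift i c (Pi' *ᵥ u) := fun u => by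
    conv_lhs => rw [← hP u, ← hb.axis, hBi]
  refine ⟨fun u => ?_, fun _ h => h, Set.injOn_id _, fun w hw u => ?_⟩
  · rw [Units.val_mul, Units.val_mul, ← mulVec_mulVec, haxis, ha.axis, mulVec_mulVec]
  · obtain ⟨v, hv, hvw⟩ := hb.surj hw
    obtain ⟨r, hr⟩ := hb.middle v hv (Pi' *ᵥ u)
    obtain ⟨r', hr'⟩ := ha.middle v hv (Pi' *ᵥ u)
    rw [hP, hvw] at hr
    refine ⟨r' - P *ᵥ (Pi' *ᵥ r), ?_⟩
    have e : lift i w u = (b : Matrix (ι → Fin m) (ι → Fin m) F) *ᵥ lift i v (Pi' *ᵥ u) - lift i c r := by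
      rw [hr, add_sub_cancel_right]
    conv_lhs => rw [e, Units.val_mul, ← mulVec_mulVec, mulVec_sub, hBi, haxis, mulVec_sub, hr', ha.axis, hvw]
    rw [Units.val_mul, ← mulVec_mulVec, map_sub, add_sub_assoc]
    rfl

/-- Trivial shapes give the unipotent form. -/
theorem Shape.hasBeta (hG : OForm G) (h : Hyp G c δ) {x : GL (ι → Fin m) F} (hx : Shape G i c δ x id 1)
    (hiso : IsIso G x) : ∃ β, HasBeta G i c x β := by
  set X := (x : Matrix (ι → Fin m) (ι → Fin m) F)
  refine ⟨fun y => LinearMap.toMatrix' (proj i (G *ᵥ δ) ∘ₗ (X - 1).mulVecLin ∘ₗ lift i y), hiso, ?_, fun y hy u => ?_⟩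
  · refine Matrix.ext_of_mulVec_single fun q => ?_
    rw [LinearMap.toMatrix'_mulVec, zero_mulVec]
    simp only [LinearMap.comp_apply, mulVecLin_apply, sub_mulVec, one_mulVec, X, hx.axis, Units.val_one, sub_self,
      map_zero]
  · obtain ⟨r, hr⟩ := hx.middle _ (proj3_mem hG h y) u
    have e : (X - 1) *ᵥ lift i y u = lift i c r := by
      conv_lhs => rw [Hyp.proj3_eq (G := G) (c := c) (δ := δ) y, hy, zero_smul, add_zero, lift_add_left,
        lift_smul_left, mulVec_add, mulVec_smul]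
      simp only [sub_mulVec, one_mulVec, X, hx.axis, Units.val_one, sub_self, smul_zero, zero_add, hr, id,
        add_sub_cancel_left]
    rw [LinearMap.toMatrix'_mulVec]
    simp only [LinearMap.comp_apply, mulVecLin_apply, e, proj_lift, axis_dot, h.cd hG, one_smul]
    rw [← e, sub_mulVec, one_mulVec, add_sub_cancel]

set_option maxHeartbeats 1000000 in
/-- The stabiliser of a block has a shape. -/
theorem Setting.exists_shape {M : Subgroup (GL (ι → Fin m) F)} (hS : Setting G d M) (h : Hyp G c δ)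
    (hns : ¬ Seed G d M) {y : GL (ι → Fin m) F} (hy : y ∈ M)
    (hst : ∀ u, (y : Matrix (ι → Fin m) (ι → Fin m) F) *ᵥ lift i c u ∈ block i c) :
    ∃ T ψ, Shape G i c δ y T ψ ∧ ψ ∈ gsim {j // j ≠ i} G := by
  classical
  have hP := hS.par
  have hG := hP.form
  have : NeZero m := ⟨by have := hP.three; omega⟩
  have hc := h.c_ne
  have hcc := h.c_iso
  set Y := (y : Matrix (ι → Fin m) (ι → Fin m) F) with hY
  set Yi := ((y⁻¹ : GL (ι → Fin m) F) : Matrix (ι → Fin m) (ι → Fin m) F)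
  set J := gram {j // j ≠ i} G
  have hJ : IsUnit J.det := oForm_det hG
  have hYi : Function.Injective Y.mulVec := mulVec_injective_iff_isUnit.mpr y.isUnit
  have hYY : ∀ v, Y *ᵥ (Yi *ᵥ v) = v := fun v => by rw [mulVec_mulVec, hY, Units.mul_inv, one_mulVec]
  obtain ⟨μ, hμ, hsim⟩ := TWSp.mem_gsim.1 (hS.sim hy)
  have hform : ∀ u v, (Y *ᵥ u) ⬝ᵥ gram ι G *ᵥ (Y *ᵥ v) = μ * (u ⬝ᵥ gram ι G *ᵥ v) := fun u v => by
    have := congrArg (fun A => u ⬝ᵥ A *ᵥ v) hsim
    simp only [smul_mulVec, dotProduct_smul, smul_eq_mul] at this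
    rw [← this, ← mulVec_mulVec, ← mulVec_mulVec, dotProduct_mulVec u, vecMul_transpose]
  -- the action on the block
  choose f hf using fun u => exists_lift_of_mem_block hc (hst u)
  let Ψ : (Rest i m → F) →ₗ[F] (Rest i m → F) :=
    { toFun := f
      map_add' := fun u v => lift_injective (i := i) hc (by
        rw [map_add (lift i c), ← hf, ← hf, ← hf, map_add, mulVec_add])
      map_smul' := fun k u => lift_injective (i := i) hc (by
        rw [map_smul (lift i c), ← hf, RingHom.id_apply, ← hf, map_smul, mulVec_smul]) }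
  set P := LinearMap.toMatrix' Ψ
  have hPf : ∀ u, Y *ᵥ lift i c u = lift i c (P *ᵥ u) := fun u => by rw [LinearMap.toMatrix'_mulVec]; exact hf u
  have hPi : Function.Injective P.mulVec := fun u v huv =>
    lift_injective (i := i) hc (hYi (by rw [hPf, hPf]; exact congrArg _ huv))
  have hPu : IsUnit P := mulVec_injective_iff_isUnit.mp hPi
  have hPs : Function.Surjective P.mulVec := mulVec_surjective_iff_isUnit.mpr hPu
  have hperp : ∀ v, proj i (G *ᵥ c) v = 0 → proj i (G *ᵥ c) (Y *ᵥ v) = 0 := fun v hv => by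
    refine eq_of_form_eq hJ fun u => ?_
    obtain ⟨u', rfl⟩ := hPs u
    rw [mulVec_zero, dotProduct_zero, ← form_proj hG, ← hPf, hform, form_proj hG, hv, mulVec_zero,
      dotProduct_zero, mul_zero]
  have hperp' : ∀ v, proj i (G *ᵥ c) v = 0 → proj i (G *ᵥ c) (Yi *ᵥ v) = 0 := fun v hv => by
    refine eq_of_form_eq hJ fun u => ?_
    rw [mulVec_zero, dotProduct_zero, ← form_proj hG]
    have h1 := hform (lift i c u) (Yi *ᵥ v)
    rw [hYY, hPf, form_proj hG, hv, mulVec_zero, dotProduct_zero, eq_comm, mul_eq_zero] at h1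
    exact h1.resolve_left hμ
  have hu : ∀ z ∈ mid G c δ, HasBeta G i c (embG i (sieG G c z))
      (fun w => (-om G w z) • (1 : Matrix (Rest i m) (Rest i m) F)) := fun z hz => by
    obtain ⟨zc, -, cz, -⟩ := h.om_mid hG hz
    refine ⟨isIso_embG i (sieG_mem hG hcc zc), by rw [cz, neg_zero, zero_smul], fun w hw u => ?_⟩
    rw [embG_val, emb_mulVec_lift, sieG_val hG hcc zc, sieM_mulVec, hw, zero_smul, add_zero, mul_zero, zero_smul,
      sub_zero, sub_eq_add_neg, ← neg_smul, lift_add_left, lift_smul_left, smul_mulVec, one_mulVec, map_smul]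
  have hact : ∀ z ∈ mid G c δ, ∀ v, proj i (G *ᵥ c) v = 0 →
      (embG i (sieG G c z) : Matrix (ι → Fin m) (ι → Fin m) F) *ᵥ v = v - lift i c (proj i (G *ᵥ z) v) := by
    intro z hz v hv
    rw [(hu z hz).act_ortho hG hc hcc (a := z) (K := -1) (fun w _ => by rw [neg_smul, smul_neg]) hv, neg_mulVec,
      one_mulVec, map_neg, ← sub_eq_add_neg]
  -- the map of the Siegel elements
  have hφ : ∀ z ∈ mid G c δ, ∃ v ∈ mid G c δ, y * embG i (sieG G c z) * y⁻¹ = embG i (sieG G c v) := by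
    intro z hz
    set x := y * embG i (sieG G c z) * y⁻¹ with hx
    have hxv : ∀ v, (x : Matrix (ι → Fin m) (ι → Fin m) F) *ᵥ v =
        Y *ᵥ ((embG i (sieG G c z) : Matrix (ι → Fin m) (ι → Fin m) F) *ᵥ (Yi *ᵥ v)) := fun v => by
      rw [hx, Units.val_mul, Units.val_mul, ← mulVec_mulVec, ← mulVec_mulVec]
    refine hS.rad_eq h hns (M.mul_mem (M.mul_mem hy (hS.sieg i c z hcc (h.om_mid hG hz).1)) (M.inv_mem hy))
      (β := fun w => LinearMap.toMatrix' (-(Ψ ∘ₗ proj i (G *ᵥ z) ∘ₗ Yi.mulVecLin ∘ₗ lift i w))) ⟨?_, ?_, ?_⟩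
    · exact TWSp.isIso_conj (hS.sim hy) (isIso_embG i (sieG_mem hG hcc (h.om_mid hG hz).1))
    · refine Matrix.ext_of_mulVec_single fun q => ?_
      obtain ⟨u, hu⟩ := hPs (Pi.single q 1)
      have e : Yi *ᵥ lift i c (Pi.single q 1) = lift i c u := by
        rw [← hu, ← hPf, mulVec_mulVec, hY, Units.inv_mul, one_mulVec]
      rw [LinearMap.toMatrix'_mulVec, zero_mulVec]
      simp only [LinearMap.neg_apply, LinearMap.comp_apply, mulVecLin_apply, e, proj_lift, axis_dot,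
        (h.om_mid hG hz).2.2.1, zero_smul, map_zero, neg_zero]
    · intro w hw u
      have hv0 : proj i (G *ᵥ c) (Yi *ᵥ lift i w u) = 0 :=
        hperp' _ (by rw [proj_lift, axis_dot, hw, zero_smul])
      rw [hxv, hact z hz _ hv0, mulVec_sub, hYY, LinearMap.toMatrix'_mulVec]
      simp only [LinearMap.neg_apply, LinearMap.comp_apply, mulVecLin_apply, map_neg, ← sub_eq_add_neg]
      congr 1
      exact hf _
  choose! φ hφm hφe using hφ
  have hφact : ∀ z ∈ mid G c δ, ∀ w ∈ mid G c δ, ∀ u,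
      proj i (G *ᵥ φ z) (Y *ᵥ lift i w u) = om G w z • (P *ᵥ u) := by
    intro z hz w hw u
    have h0 : proj i (G *ᵥ c) (lift i w u) = 0 := by rw [proj_lift, axis_dot, (h.om_mid hG hw).1, zero_smul]
    have h1 := congrArg (fun g : GL (ι → Fin m) F => (g : Matrix (ι → Fin m) (ι → Fin m) F) *ᵥ (Y *ᵥ lift i w u))
      (hφe z hz)
    simp only [Units.val_mul, ← mulVec_mulVec] at h1
    rw [mulVec_mulVec _ _ Y, hY, Units.inv_mul, one_mulVec, ← hY, hact z hz _ h0, hact _ (hφm z hz) _ (hperp _ h0),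
      mulVec_sub, sub_right_inj, proj_lift, axis_dot, map_smul, mulVec_smul, hPf, ← map_smul] at h1
    exact (lift_injective hc h1).symm
  have hφinj : ∀ z ∈ mid G c δ, ∀ z' ∈ mid G c δ, φ z = φ z' → z = z' := by
    intro z hz z' hz' e
    have h1 : y * embG i (sieG G c z) * y⁻¹ = y * embG i (sieG G c z') * y⁻¹ := by rw [hφe z hz, hφe z' hz', e]
    have h2 := congrArg (fun g : GL (Fin m) F => (g : Matrix (Fin m) (Fin m) F) *ᵥ δ)
      (embG_injective i (mul_left_cancel (mul_right_cancel h1)))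
    simp only [(h.sieG_apply hG hz).2.1, (h.sieG_apply hG hz').2.1] at h2
    have h3 := congrArg (proj3 G c δ) h2
    simp only [proj3, om_add_left, om_sub_left, om_smul_left, h.d_iso, h.dc, h.cd hG, h.c_iso,
      (h.om_mid hG hz).1, (h.om_mid hG hz).2.1, (h.om_mid hG hz').1, (h.om_mid hG hz').2.1] at h3
    linear_combination (norm := module) h3
  have hφsurj : ∀ e ∈ mid G c δ, ∃ z ∈ mid G c δ, φ z = e := fun e he => by
    let g : mid G c δ → mid G c δ := fun z => ⟨φ z.1, hφm _ z.2⟩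
    have hg : Function.Injective g := fun a b hab => Subtype.ext (hφinj _ a.2 _ b.2 (congrArg Subtype.val hab))
    obtain ⟨z, hz⟩ := Finite.injective_iff_surjective.1 hg ⟨e, he⟩
    exact ⟨z.1, z.2, congrArg Subtype.val hz⟩
  -- the middle map
  set u0 : Rest i m → F := fun _ => 1
  have hu00 : P *ᵥ u0 ≠ 0 := fun h0 => one_ne_zero (congrFun (hPi (h0.trans (mulVec_zero P).symm)) fun _ => 0)
  obtain ⟨χ, hχ⟩ := exists_dot_one hu00
  let t0 : (Fin m → F) → Fin m → F := fun w q => χ ⬝ᵥ proj i (Pi.single q 1) (Y *ᵥ lift i w u0)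
  have ht0 : ∀ w (e : Fin m → F), e ⬝ᵥ t0 w = χ ⬝ᵥ proj i e (Y *ᵥ lift i w u0) := fun w e => by
    conv_rhs => rw [show e = ∑ q, e q • (Pi.single q 1 : Fin m → F) by
      funext r; simp [Finset.sum_apply, Pi.single_apply], TWSp.proj_sum_axis, dotProduct_sum]
    refine Finset.sum_congr rfl fun q _ => ?_
    rw [proj_smul_axis, dotProduct_smul]
    rfl
  have ht0c : ∀ w ∈ mid G c δ, om G (t0 w) c = 0 := fun w hw => by
    rw [← axis_dot, ht0, hperp _ (by rw [proj_lift, axis_dot, (h.om_mid hG hw).1, zero_smul]), dotProduct_zero]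
  have hshape : ∀ w ∈ mid G c δ, ∀ u, ∃ r,
      Y *ᵥ lift i w u = lift i (proj3 G c δ (t0 w)) (P *ᵥ u) + lift i c r := by
    intro w hw u
    have hmem : Y *ᵥ lift i w u - lift i (proj3 G c δ (t0 w)) (P *ᵥ u) ∈ block i c := by
      refine mem_block_iff_proj.mpr fun χ' hχ' => ?_
      obtain ⟨e, rfl⟩ := hG.exists_axis χ'
      rw [axis_dot, hG.comm] at hχ'
      obtain ⟨z, hz, hze⟩ := hφsurj _ (proj3_mem hG h e)
      have he : G *ᵥ e = om G e δ • (G *ᵥ c) + G *ᵥ φ z := by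
        rw [hze, proj3, mulVec_sub, mulVec_sub, mulVec_smul, mulVec_smul, hχ', zero_smul]
        abel
      have e1 : om G (proj3 G c δ (t0 w)) (φ z) = om G w z := by
        obtain ⟨-, -, cφ, dφ⟩ := h.om_mid hG (hφm z hz)
        have e2 : om G (proj3 G c δ (t0 w)) (φ z) = om G (t0 w) (φ z) := by
          simp only [proj3, om_sub_left, om_smul_left, cφ, dφ]; ring
        rw [e2, ← axis_dot, ht0, hφact z hz w hw, dotProduct_smul, hχ, smul_eq_mul, mul_one]
      rw [map_sub, he, proj_add_axis, proj_add_axis, proj_smul_axis, proj_smul_axis,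
        hperp _ (by rw [proj_lift, axis_dot, (h.om_mid hG hw).1, zero_smul]), proj_lift i (G *ᵥ c), proj_lift,
        axis_dot, axis_dot, (h.om_mid hG (proj3_mem hG h (t0 w))).1, hφact z hz w hw, e1]
      simp
    obtain ⟨r, hr⟩ := exists_lift_of_mem_block hc hmem
    exact ⟨r, by rw [← hr, add_sub_cancel]⟩
  set T : (Fin m → F) → Fin m → F := fun w => proj3 G c δ (t0 w)
  have hTm : ∀ w ∈ mid G c δ, T w ∈ mid G c δ := fun w _ => proj3_mem hG h _
  have hmid : ∀ w w', w ∈ mid G c δ → w' ∈ mid G c δ → ∀ u u',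
      μ * (om G w w' * (u ⬝ᵥ J *ᵥ u')) = om G (T w) (T w') * ((P *ᵥ u) ⬝ᵥ J *ᵥ (P *ᵥ u')) := by
    intro w w' hw hw' u u'
    obtain ⟨r, hr⟩ := hshape w hw u
    obtain ⟨r', hr'⟩ := hshape w' hw' u'
    rw [← form_lift, ← hform, hr, hr', mulVec_add, dotProduct_add, add_dotProduct, add_dotProduct, form_lift,
      form_lift, form_lift, form_lift, hcc, (h.om_mid hG (hTm w hw)).1, (h.om_mid hG (hTm w' hw')).2.2.1]
    ring
  obtain ⟨v0, hv0⟩ : ∃ v0, u0 ⬝ᵥ J *ᵥ v0 = 1 := by
    obtain ⟨g, hg⟩ := exists_dot_one (show u0 ≠ 0 from fun h0 => one_ne_zero (congrFun h0 fun _ => 0))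
    exact ⟨J⁻¹ *ᵥ g, by rw [mulVec_mulVec, mul_nonsing_inv J hJ, one_mulVec, dotProduct_comm, hg]⟩
  have hTadd : ∀ a ∈ mid G c δ, ∀ b ∈ mid G c δ, T a = T b → a = b := by
    intro a ha b hb hab
    by_contra hne
    have h0 : ∀ w ∈ mid G c δ, om G (a - b) w = 0 := fun w hw => by
      have e1 := hmid a w ha hw u0 v0
      have e2 := hmid b w hb hw u0 v0
      rw [← hab, ← e1, hv0, mul_one, mul_one] at e2
      rw [om_sub_left, sub_eq_zero]
      exact (mul_left_cancel₀ hμ e2).symm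
    exact sub_ne_zero.2 hne (nonDeg_perp hG (h.nonDeg hG) _ (Submodule.sub_mem _ ha hb) h0)
  obtain ⟨w1, hw1, hw11⟩ := h.exists_mid_aniso hP
  set a := om G (T w1) (T w1)
  have ha0 : a ≠ 0 := fun h0 => by
    have := hmid w1 w1 hw1 hw1 u0 v0
    rw [show om G (T w1) (T w1) = 0 from h0, hv0, zero_mul, mul_one] at this
    exact mul_ne_zero hμ hw11 this
  refine ⟨T, hPu.unit, ⟨fun u => hPf u, hTm, fun a ha b hb => hTadd a ha b hb, fun w hw u => hshape w hw u⟩,
    μ * om G w1 w1 / a, div_ne_zero (mul_ne_zero hμ hw11) ha0, ?_⟩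
  show Pᵀ * J * P = _
  ext p q
  have h1 := hmid w1 w1 hw1 hw1 (Pi.single p 1) (Pi.single q 1)
  rw [← mul_assoc, mul_comm (om G (T w1) (T w1))] at h1
  replace h1 := (eq_div_iff ha0).2 h1.symm
  rw [mulVec_mulVec, dotProduct_comm (P *ᵥ _), dotProduct_mulVec, ← mulVec_transpose, mulVec_mulVec,
    dotProduct_comm] at h1
  rw [Matrix.smul_apply, smul_eq_mul, div_mul_eq_mul_div]
  simpa [single_dotProduct, mulVec_single, transpose_mul, Matrix.mul_assoc, mul_comm, mul_left_comm, div_eq_mul_inv,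
    eq_comm] using h1

end CfsgLib.TWOr
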