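import Cfsg.Agent.TensorWreathOrth.Span
import Cfsg.Agent.TensorWreath.Classify

/-!
# A unipotent element of one factor times a regular Siegel element of another
-/

set_option autoImplicit false
set_option linter.unusedSectionVars false

namespace CfsgLib.TWOr

open Matrix Module CfsgLib.MaxSub CfsgLib.TWreath
open CfsgLib.TWSp (om kr gram cen spG om_of_mem_spG om_add_left om_add_right om_smul_left om_smul_right
  axis_dot cen_mulVec emb_eq_kr emb_rest kr_mulVec_lift)

variable {F : Type*} [Field F] {m : ℕ} {G : Matrix (Fin m) (Fin m) F} {d : F}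
  {ι : Type} [Fintype ι] [DecidableEq ι]

/-- The last non-zero image under a nilpotent matrix. -/
theorem exists_last {n : Type*} [Fintype n] [DecidableEq n] {N : Matrix n n F} {p : ℕ} (hN : N ^ p = 0)
    {v : n → F} (hv : v ≠ 0) : ∃ r, (N ^ r) *ᵥ v ≠ 0 ∧ N *ᵥ ((N ^ r) *ᵥ v) = 0 := by
  by_contra! h
  have : ∀ r, (N ^ r) *ᵥ v ≠ 0 := fun r => by
    induction r with
    | zero => rwa [pow_zero, one_mulVec]
    | succ r ih => rw [pow_succ', ← mulVec_mulVec]; exact h r ih
  exact this p (by rw [hN, zero_mulVec])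

theorem ctr_emb_comm {i j : ι} (hij : i ≠ j) (φ : Fin m → F) (A : Matrix (Fin m) (Fin m) F)
    (v : (ι → Fin m) → F) : ctr j φ (emb i A *ᵥ v) = emb i A *ᵥ ctr j φ v := by
  have e : ∀ u : (ι → Fin m) → F, ctr j φ u = emb j (vecMulVec 1 φ) *ᵥ u := fun u => by
    rw [emb_vecMulVec_mulVec]; funext a; simp
  rw [e, e, mulVec_mulVec, mulVec_mulVec, emb_comm hij]

variable [Finite F]

theorem sub_one_pow_eq_zero {p : ℕ} [Fact p.Prime] [CharP F p] [NeZero m] {a : GL (Fin m) F} (hap : a ^ p = 1) :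
    ((a : Matrix (Fin m) (Fin m) F) - 1) ^ p = 0 := by
  rw [sub_pow_char_of_commute (p := p) (h := Commute.one_right _), one_pow, ← Units.val_pow_eq_pow_val, hap, Units.val_one,
    sub_self]

/-- In dimension three a `p`-element fixing a non-singular vector is trivial. -/
theorem eq_one_of_fix_three {p : ℕ} [Fact p.Prime] [CharP F p] (hP : Par G d) (hm : m = 3) {a : GL (Fin m) F}
    (ha : a ∈ spG G) (hap : a ^ p = 1) {f : Fin m → F} (hf : om G f f ≠ 0)
    (haf : (a : Matrix (Fin m) (Fin m) F) *ᵥ f = f) : a = 1 := by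
  have hG := hP.form
  have : NeZero m := ⟨by omega⟩
  set A := (a : Matrix (Fin m) (Fin m) F)
  set N := A - 1
  by_contra hne
  obtain ⟨e, he⟩ : ∃ e, N *ᵥ e ≠ 0 := by
    by_contra! h
    refine hne (Units.ext (sub_eq_zero.1 (Matrix.ext_of_mulVec_single fun k => ?_)))
    rw [Units.val_one, zero_mulVec]
    exact h _
  have hN := sub_one_pow_eq_zero hap
  obtain ⟨r, hr0, hr⟩ := exists_last hN he
  set v := (N ^ r) *ᵥ (N *ᵥ e)
  have hvN : v = N *ᵥ ((N ^ r) *ᵥ e) := by
    rw [mulVec_mulVec, ← pow_succ', pow_succ, ← mulVec_mulVec]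
  have hav : A *ᵥ v = v := by rwa [sub_mulVec, one_mulVec, sub_eq_zero] at hr
  have hperp : ∀ u, A *ᵥ u = u → om G v u = 0 := fun u hu => by
    rw [hvN, sub_mulVec, one_mulVec, om_sub_left]
    conv_lhs => arg 1; rw [← hu]
    rw [om_of_mem_spG ha, sub_self]
  have hvv := hperp v hav
  obtain ⟨δ, hd1, hd2⟩ := hG.exists_partner hr0 hvv
  have h : Hyp G v δ := ⟨hvv, hd1, hd2⟩
  have hfv : om G f v = 0 := by rw [hG.comm]; exact hperp f haf
  set z := proj3 G v δ f with hz'
  have hz : z ∈ mid G v δ := proj3_mem hG h f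
  have hzz : om G z z ≠ 0 := by
    have e1 : f = om G f δ • v + z := by
      conv_lhs => rw [Hyp.proj3_eq (G := G) (c := v) (δ := δ) f, hfv, zero_smul, add_zero]
    obtain ⟨z1, z2, z3, z4⟩ := h.om_mid hG hz
    rw [e1] at hf
    simpa only [om_add_left, om_add_right, om_smul_left, om_smul_right, h.c_iso, z1, z3, mul_zero, zero_add,
      add_zero] using hf
  have haz : A *ᵥ z = z := by
    rw [hz', proj3, hfv, zero_smul, sub_zero, mulVec_sub, mulVec_smul, hav, haf]
  obtain ⟨z1, z2, z3, z4⟩ := h.om_mid hG hz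
  set w := A *ᵥ δ with hw
  have w1 : om G w v = 1 := by rw [← hav, hw, om_of_mem_spG ha, hd2]
  have w2 : om G w z = 0 := by rw [← haz, hw, om_of_mem_spG ha, z4]
  have w3 : om G w w = 0 := by rw [hw, om_of_mem_spG ha, hd1]
  have hw3 : proj3 G v δ w = 0 := by
    have hpm := proj3_mem hG h w
    rw [h.mid_three hP hm hz hzz hpm]
    have : om G (proj3 G v δ w) z = 0 := by
      simp only [proj3, om_sub_left, om_smul_left, z3, z4, w2, mul_zero, sub_zero]
    rw [this, zero_div, zero_smul]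
  have hwe : w = om G w δ • v + δ := by
    conv_lhs => rw [Hyp.proj3_eq (G := G) (c := v) (δ := δ) w, w1, one_smul, hw3, add_zero]
  have ht : om G w δ = 0 := by
    have h3 := w3
    rw [hwe] at h3
    simp only [om_add_left, om_add_right, om_smul_left, om_smul_right, h.c_iso, hd1, hd2, h.cd hG, mul_zero, mul_one,
      zero_add, add_zero] at h3
    rw [← two_mul] at h3
    exact (mul_eq_zero.1 h3).resolve_left hG.two
  refine hne (Units.ext (h.ext_hyp hG (by rw [Units.val_one, one_mulVec]; exact hav) ?_ fun y hy => ?_))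
  · rw [Units.val_one, one_mulVec, ← hw, hwe, ht, zero_smul, zero_add]
  · rw [Units.val_one, one_mulVec, h.mid_three hP hm hz hzz hy, mulVec_smul, haz]

set_option maxHeartbeats 800000 in
/-- Such a product moves more than a regular element, unless the first part is trivial. -/
theorem lt_rank_of_unipotent {p : ℕ} [Fact p.Prime] [CharP F p] (hP : Par G d) (hm : 4 ≤ m) {i j : ι} (hij : i ≠ j)
    {a : GL (Fin m) F} (hap : a ^ p = 1) (ha1 : a ≠ 1) {c δ z : Fin m → F} (h : Hyp G c δ) (hz : z ∈ mid G c δ)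
    (hzz : om G z z ≠ 0) :
    2 * bdim ι m <
      (((embG i a * embG j (sieG G c z) : GL (ι → Fin m) F) : Matrix (ι → Fin m) (ι → Fin m) F) - 1).rank := by
  classical
  have hG := hP.form
  have : NeZero m := ⟨by omega⟩
  obtain ⟨zc, zd, cz, dz⟩ := h.om_mid hG hz
  set E := emb i ((a : Matrix (Fin m) (Fin m) F) - 1) with hE
  set U := emb j (sieM G c z - 1) with hU
  set X := ((embG i a * embG j (sieG G c z) : GL (ι → Fin m) F) : Matrix (ι → Fin m) (ι → Fin m) F) - 1 with hX
  have hXe : X = E * emb j (sieM G c z) + U := by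
    rw [hX, hE, hU, Units.val_mul, embG_val, embG_val, sieG_val hG h.c_iso zc, emb_sub, emb_one, emb_sub, emb_one,
      sub_mul, one_mul]
    abel
  have hEp : E ^ p = 0 := by
    rw [hE, ← embAlg_apply, ← map_pow, sub_one_pow_eq_zero hap, map_zero]
  have hEU : ∀ v, X *ᵥ (E *ᵥ v) = E *ᵥ (X *ᵥ v) := fun v => by
    rw [mulVec_mulVec, mulVec_mulVec, hXe, hU, add_mul, mul_add, hE, mul_assoc, ← emb_comm hij, ← emb_comm hij]
  -- the domain
  set D := block j δ ⊔ block j z with hD
  have hδ0 : δ ≠ 0 := (h.swap hG).c_ne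
  have hz0 : z ≠ 0 := fun e => hzz (by rw [e, om_zero_left])
  have hDE : ∀ v ∈ D, E *ᵥ v ∈ D := by
    intro v hv
    obtain ⟨v1, h1, v2, h2, rfl⟩ := Submodule.mem_sup.1 hv
    rw [mulVec_add]
    refine Submodule.add_mem_sup ?_ ?_ <;>
    · refine mem_block.mpr fun χ hχ => ?_
      rw [hE, ctr_emb_comm hij, mem_block.mp (by assumption) χ hχ, mulVec_zero]
  have hlift : ∀ v ∈ D, ∃ s t, v = lift j δ s + lift j z t := by
    intro v hv
    obtain ⟨v1, h1, v2, h2, rfl⟩ := Submodule.mem_sup.1 hv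
    obtain ⟨s, rfl⟩ := exists_lift_of_mem_block hδ0 h1
    obtain ⟨t, rfl⟩ := exists_lift_of_mem_block hz0 h2
    exact ⟨s, t, rfl⟩
  have hu1 : (sieM G c z - 1) *ᵥ δ = z - (om G z z / 2) • c := by
    rw [sub_mulVec, one_mulVec, sieM_mulVec, h.dc, dz]; module
  have hu2 : (sieM G c z - 1) *ᵥ z = (-om G z z) • c := by
    rw [sub_mulVec, one_mulVec, sieM_mulVec, zc]; simp
  have hker : ∀ v ∈ D, U *ᵥ v = 0 → v = 0 := by
    intro v hv h0
    obtain ⟨s, t, rfl⟩ := hlift v hv
    rw [mulVec_add, hU, emb_mulVec_lift, emb_mulVec_lift, hu1, hu2, sub_eq_add_neg, ← neg_smul, lift_add_left,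
      lift_smul_left, lift_smul_left] at h0
    have hsd : ∀ r, z r = z r := fun _ => rfl
    have h1 : ∀ (χ : Fin m → F) (q : Rest j m),
        (χ ⬝ᵥ z) * s q + (-(om G z z / 2)) * ((χ ⬝ᵥ c) * s q) + (-om G z z) * ((χ ⬝ᵥ c) * t q) = 0 := fun χ q => by
      have := congrFun (congrArg (ctr j χ) h0) (extend j 0 q)
      simpa only [map_add, map_smul, map_zero, Pi.add_apply, Pi.smul_apply, smul_eq_mul, Pi.zero_apply, ctr_lift,
        extend_rest] using this
    have hs : s = 0 := funext fun q => by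
      have := h1 (G *ᵥ z) q
      rw [axis_dot, axis_dot, cz] at this
      simpa [hzz] using this
    have ht : t = 0 := funext fun q => by
      have := h1 (G *ᵥ δ) q
      rw [axis_dot, axis_dot, h.cd hG, zd, hs] at this
      simpa [hzz] using this
    rw [hs, ht, map_zero, map_zero, add_zero]
  have hinj : ∀ v ∈ D, X *ᵥ v = 0 → v = 0 := by
    intro v hv h0
    by_contra hv0
    obtain ⟨r, hr0, hr⟩ := exists_last hEp hv0
    have hk : (E ^ r) *ᵥ v ∈ D ∧ X *ᵥ ((E ^ r) *ᵥ v) = 0 := by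
      clear hr0 hr
      induction r with
      | zero => rw [pow_zero, one_mulVec]; exact ⟨hv, h0⟩
      | succ r ih =>
        rw [pow_succ', ← mulVec_mulVec]
        exact ⟨hDE _ ih.1, by rw [hEU, ih.2, mulVec_zero]⟩
    refine hr0 (hker _ hk.1 ?_)
    have e := hk.2
    rwa [hXe, hU, hE, ← emb_comm hij.symm, add_mulVec, ← mulVec_mulVec, ← hE, hr, mulVec_zero, zero_add] at e
  -- one more vector
  obtain ⟨w, hw, hww, hwz⟩ := h.exists_mid_perp hP hm hz hzz
  obtain ⟨wc, wd, cw, dw⟩ := h.om_mid hG hw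
  have hw0 : w ≠ 0 := fun e => hww (by rw [e, om_zero_left])
  have zw : om G z w = 0 := by rw [hG.comm, hwz]
  obtain ⟨q, hq⟩ : ∃ q, emb i ((a : Matrix (Fin m) (Fin m) F) - 1) *ᵥ lift j w q ≠ 0 := by
    by_contra! h0
    refine ha1 (Units.ext (sub_eq_zero.1 (emb_injective (i := (⟨i, hij⟩ : {k // k ≠ j})) ?_)))
    rw [emb_zero]
    refine Matrix.ext_of_mulVec_single fun t => ?_
    have := h0 (Pi.single t 1)
    rw [emb_rest j (⟨i, hij⟩ : {k // k ≠ j}), kr_mulVec_lift, one_mulVec, ← map_zero (lift j w)] at this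
    rw [Units.val_one, lift_injective hw0 this, zero_mulVec]
  have hX0 : X *ᵥ lift j w q = E *ᵥ lift j w q := by
    have e1 : sieM G c z *ᵥ w = w := by rw [sieM_mulVec, wc, hwz]; simp
    rw [hXe, hU, add_mulVec, ← mulVec_mulVec, emb_mulVec_lift, emb_mulVec_lift, sub_mulVec, one_mulVec, e1, sub_self,
      show lift j (0 : Fin m → F) q = 0 from funext fun _ => zero_mul _, add_zero]
  set Y := X *ᵥ lift j w q
  have hY : ctr j (G *ᵥ w) Y ≠ 0 := by
    intro h0
    rw [hX0, hE, ctr_emb_comm hij] at h0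
    refine hq ?_
    have e : lift j w q = (om G w w)⁻¹ • (emb j (cen G w) *ᵥ lift j w q) := by
      rw [emb_mulVec_lift, cen_mulVec, lift_smul_left, smul_smul, inv_mul_cancel₀ hww, one_smul]
    rw [e, mulVec_smul, mulVec_mulVec, emb_comm hij, ← mulVec_mulVec, cen,
      (emb_vecMulVec_eq_zero hw0).2 (by rw [ctr_emb_comm hij]; exact h0), smul_zero]
  have himg : ∀ v ∈ D, ctr j (G *ᵥ w) (X *ᵥ v) = 0 := by
    intro v hv
    obtain ⟨s, t, rfl⟩ := hlift v hv
    have key : ∀ (x : Fin m → F) u, om G x w = 0 → ctr j (G *ᵥ w) (lift j x u) = 0 := fun x u hx => by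
      funext p; rw [ctr_lift, axis_dot, hx, zero_mul]; rfl
    rw [hXe, hU, hE, add_mulVec, ← mulVec_mulVec]
    have k1 : ∀ x u, om G x w = 0 → ctr j (G *ᵥ w) (emb i ((a : Matrix (Fin m) (Fin m) F) - 1) *ᵥ lift j x u) = 0 :=
      fun x u hx => by rw [ctr_emb_comm hij, key x u hx, mulVec_zero]
    have k2 : om G (sieM G c z *ᵥ δ) w = 0 := by
      rw [sieM_mulVec]; simp [om_add_left, om_sub_left, om_smul_left, cw, dw, zw]
    have k3 : om G (sieM G c z *ᵥ z) w = 0 := by
      rw [sieM_mulVec]; simp [om_add_left, om_sub_left, om_smul_left, cw, zw, zc]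
    simp only [mulVec_add, map_add, emb_mulVec_lift, sub_mulVec, one_mulVec]
    rw [k1 _ _ k2, k1 _ _ k3, key _ _ (by rw [om_sub_left, k2, dw, sub_zero]),
      key _ _ (by rw [om_sub_left, k3, zw, sub_zero])]
    simp
  -- count
  have hdisj : Disjoint (block (F := F) j δ) (block j z) := Submodule.disjoint_def.2 fun v h1 h3 => by
    obtain ⟨s, rfl⟩ := exists_lift_of_mem_block hδ0 h1
    have h4 := mem_block.mp h3 (G *ᵥ c) (by rw [axis_dot, zc])
    have : s = 0 := funext fun p => by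
      have := congrFun h4 (extend j 0 p)
      simpa [ctr_lift, axis_dot, h.dc, extend_rest] using this
    rw [this, map_zero]
  have hDd : finrank F D = 2 * bdim ι m := by
    have := Submodule.finrank_sup_add_finrank_inf_eq (block (F := F) j δ) (block j z)
    rw [hdisj.eq_bot, finrank_bot, finrank_block hδ0, finrank_block hz0, add_zero] at this
    rw [hD, this, two_mul]
  have himd : finrank F (Submodule.map X.mulVecLin D) = 2 * bdim ι m := by
    rw [← hDd, ← LinearMap.range_domRestrict]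
    refine LinearMap.finrank_range_of_inj ?_
    rw [← LinearMap.ker_eq_bot, LinearMap.ker_eq_bot']
    exact fun v h0 => Subtype.ext (hinj v v.2 h0)
  have hlt : Submodule.map X.mulVecLin D < LinearMap.range X.mulVecLin := by
    refine lt_of_le_of_ne LinearMap.map_le_range fun e => hY ?_
    obtain ⟨v, hv, hv'⟩ : Y ∈ Submodule.map X.mulVecLin D := by rw [e]; exact ⟨_, rfl⟩
    rw [← hv', mulVecLin_apply, himg v hv]
  have := Submodule.finrank_lt_finrank_of_lt hlt
  rw [Matrix.rank]
  omega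

end CfsgLib.TWOr
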