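import Cfsg.Agent.TensorWreathOrth.Regular
import Cfsg.Agent.TensorWreathOrth.Rank
import Cfsg.Agent.TensorWreathOrth.UnipRank

/-!
# Stabilisers of slices
-/

set_option autoImplicit false
set_option linter.unusedSectionVars false

namespace CfsgLib.TWOr

open Matrix Module CfsgLib.MaxSub CfsgLib.TWreath
open CfsgLib.TWSp (om kr gram proj cen wedge spG gsim IsIso om_add_left om_add_right om_smul_left om_smul_right
  axis_dot cen_mulVec mem_spG mem_spG_of_om om_of_mem_spG adj kr_mul emb_eq_kr emb_rest kr_mulVec_lift form_lift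
  isIso_embG isIso_conj mem_gsim)

variable {F : Type*} [Field F] [Finite F] {m : ℕ} {G : Matrix (Fin m) (Fin m) F} {d : F}
  {ι : Type} [Fintype ι] [DecidableEq ι] {M : Subgroup (GL (ι → Fin m) F)}

theorem exists_smul_of_parallel {A : Matrix (Fin m) (Fin m) F} (h : ∀ x, ∃ k : F, A *ᵥ x = k • x) :
    ∃ k : F, ∀ x, A *ᵥ x = k • x := by
  rcases Nat.eq_zero_or_pos m with hm | hm
  · exact ⟨0, fun x => funext fun q => absurd q.2 (by omega)⟩
  choose a ha using fun q : Fin m => h (Pi.single q 1)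
  have heq : ∀ q r, a q = a r := by
    intro q r
    rcases eq_or_ne q r with rfl | hqr
    · rfl
    obtain ⟨k, hk⟩ := h (Pi.single q 1 + Pi.single r 1)
    rw [mulVec_add, ha, ha] at hk
    have h1 := congrFun hk q
    have h2 := congrFun hk r
    simp [hqr, hqr.symm] at h1 h2
    rw [h1, h2]
  refine ⟨a ⟨0, hm⟩, fun x => ?_⟩
  conv_lhs => rw [show x = ∑ q, x q • (Pi.single q 1 : Fin m → F) by
    funext q; simp [Finset.sum_apply, Pi.single_apply]]
  rw [mulVec_sum]
  funext q
  simp [mulVec_smul, ha, heq _ ⟨0, hm⟩, Finset.sum_apply, Pi.single_apply, mul_comm]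

/-- The action of an element on the block of a vector it stabilises. -/
theorem exists_slice_map {i : ι} {f : Fin m → F} (hf : f ≠ 0) {y : GL (ι → Fin m) F}
    (hst : ∀ u, (y : Matrix (ι → Fin m) (ι → Fin m) F) *ᵥ lift i f u ∈ block i f) :
    ∃ ψ : GL (Rest i m) F,
      ∀ u, (y : Matrix (ι → Fin m) (ι → Fin m) F) *ᵥ lift i f u = lift i f ((ψ : Matrix (Rest i m) (Rest i m) F) *ᵥ u) := by
  choose w hw using fun u => exists_lift_of_mem_block hf (hst u)
  have hadd : ∀ u v, w (u + v) = w u + w v := fun u v => lift_injective (i := i) hf (by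
    rw [← hw, map_add, mulVec_add, hw, hw, map_add])
  have hsmul : ∀ (k : F) u, w (k • u) = k • w u := fun k u => lift_injective (i := i) hf (by
    rw [← hw, map_smul, mulVec_smul, hw, map_smul])
  let L : (Rest i m → F) →ₗ[F] (Rest i m → F) := { toFun := w, map_add' := hadd, map_smul' := hsmul }
  have hL : ∀ u, (LinearMap.toMatrix' L) *ᵥ u = w u := fun u => by
    rw [← Matrix.toLin'_apply, Matrix.toLin'_toMatrix']; rfl
  have hu : IsUnit (LinearMap.toMatrix' L) := mulVec_injective_iff_isUnit.mp fun u v huv => by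
    rw [hL, hL] at huv
    refine lift_injective (i := i) hf (mulVec_injective_iff_isUnit.mpr y.isUnit ?_)
    show (y : Matrix (ι → Fin m) (ι → Fin m) F) *ᵥ _ = (y : Matrix (ι → Fin m) (ι → Fin m) F) *ᵥ _
    rw [hw, hw, huv]
  exact ⟨hu.unit, fun u => by rw [hw, IsUnit.unit_spec, hL]⟩

/-- A factor of a pure tensor split off. -/
theorem isPure_of_lift {i : ι} (l : {j // j ≠ i}) {f : Fin m → F} (hf : f ≠ 0) {v : Rest i m → F}
    (h : IsPure (lift i f v)) : IsPure v := by
  classical
  obtain ⟨zs, hz, he⟩ := h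
  obtain ⟨χ, hχ⟩ := exists_dot_eq_one hf
  have hm0 : ∀ q : Rest i m, Fin m := fun q => q l
  have hv : v = (χ ⬝ᵥ zs i) • pten fun j : {j // j ≠ i} => zs j := by
    funext r
    have h1 := congrFun (congrArg (ctr i χ) he) (extend i (hm0 r) r)
    rw [ctr_lift, ctr_pten, extend_rest, hχ, one_mul] at h1
    rw [h1]
    simp only [Pi.smul_apply, smul_eq_mul, pten]
    congr 1
    rw [← Finset.mul_prod_erase _ _ (Finset.mem_univ i), Function.update_self, Pi.one_apply, one_mul]
    rw [Finset.prod_subtype (Finset.univ.erase i) (p := fun k => k ≠ i) (by simp)]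
    refine Finset.prod_congr rfl fun k _ => ?_
    rw [Function.update_of_ne k.2, ← extend_rest i (hm0 r) r]
    simp only [extend_rest]
  have hk : χ ⬝ᵥ zs i ≠ 0 := fun h0 => by
    rw [h0, zero_smul] at hv
    exact pten_ne_zero hz (by rw [← he, hv, map_zero])
  refine ⟨Function.update (fun j : {j // j ≠ i} => zs j) l ((χ ⬝ᵥ zs i) • zs l), fun k => ?_, ?_⟩
  · rcases eq_or_ne k l with rfl | hkl
    · rw [Function.update_self]; exact smul_ne_zero hk (hz _)
    · rw [Function.update_of_ne hkl]; exact hz _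
  · rw [pten_update_smul, Function.update_eq_self, hv]

/-- An element of the wreath group fixing a slice lives on the factor. -/
theorem exists_embG_of_fix (hm : 2 ≤ m) {i : ι} {e : Fin m → F} (he : e ≠ 0) {y : GL (ι → Fin m) F}
    (hy : y ∈ wreath ι m F) (hfix : ∀ w, (y : Matrix (ι → Fin m) (ι → Fin m) F) *ᵥ lift i e w = lift i e w) :
    ∃ a : GL (Fin m) F, y = embG i a ∧ (a : Matrix (Fin m) (Fin m) F) *ᵥ e = e := by
  classical
  have : NeZero m := ⟨by omega⟩
  obtain ⟨σ, gs, rfl⟩ := hy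
  have key : ∀ xs : ι → Fin m → F, xs i = e →
      pten (fun l => (gs l : Matrix (Fin m) (Fin m) F) *ᵥ xs (σ.symm l)) = pten xs := by
    intro xs hxs
    have h := hfix (pten fun j : {j // j ≠ i} => xs j)
    rw [lift_pten, ← hxs, Function.update_eq_self] at h
    rwa [Units.val_mul, PtG_val, pmG_val, ← mulVec_mulVec, pm_mulVec_pten, Pt_mulVec_pten] at h
  have hne : ∀ xs : ι → Fin m → F, (∀ l, xs l ≠ 0) →
      pten (fun l => (gs l : Matrix (Fin m) (Fin m) F) *ᵥ xs (σ.symm l)) ≠ 0 := fun xs hx =>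
    pten_ne_zero fun l h0 => hx _ (mulVec_injective_iff_isUnit.mpr (gs l).isUnit (h0.trans (mulVec_zero _).symm))
  have hprop : ∀ l, l ≠ i → ∀ x : Fin m → F, x ≠ 0 → ∃ k : F, k ≠ 0 ∧
      x = k • (gs l : Matrix (Fin m) (Fin m) F) *ᵥ Function.update (fun _ : ι => e) l x (σ.symm l) := by
    intro l hl x hx
    set xs := Function.update (fun _ : ι => e) l x
    have hx0 : ∀ q, xs q ≠ 0 := fun q => by
      rcases eq_or_ne q l with rfl | hq
      · simpa [xs] using hx
      · simpa [xs, hq] using he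
    obtain ⟨k, hk, hk'⟩ := prop_of_pten_eq (hne xs hx0) (key xs (Function.update_of_ne hl.symm _ _)) l
    rw [show xs l = x from Function.update_self _ _ _] at hk'
    exact ⟨k, hk, hk'⟩
  have hσ : σ = 1 := by
    by_contra hne1
    obtain ⟨l, hl, hli⟩ : ∃ l, σ.symm l ≠ l ∧ l ≠ i := by
      by_contra! h
      refine hne1 (Equiv.ext fun q => ?_)
      by_contra hq
      have h1 := h (σ q) (by rw [Equiv.symm_apply_apply]; exact fun e => hq e.symm)
      have h2 := h q fun e => hq (by conv_lhs => rw [← e, Equiv.apply_symm_apply]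
                                     rfl)
      exact hq (h1.trans h2.symm)
    obtain ⟨φ, hφ, hφe⟩ := exists_ortho hm e
    obtain ⟨x, hx⟩ := exists_dot_eq_one hφ
    have hx0 : x ≠ 0 := fun e => by simp [e] at hx
    obtain ⟨k1, hk1, h1⟩ := hprop l hli x hx0
    obtain ⟨k2, hk2, h2⟩ := hprop l hli e he
    simp only [Function.update_of_ne hl, Function.update_eq_self] at h1 h2
    set v := (gs l : Matrix (Fin m) (Fin m) F) *ᵥ e
    rw [dotProduct_comm] at hx
    rw [h1, dotProduct_smul] at hx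
    rw [h2, dotProduct_smul, smul_eq_mul, mul_eq_zero, or_iff_right hk2] at hφe
    rw [hφe, smul_zero] at hx
    exact zero_ne_one hx
  subst hσ
  have hsc : ∀ l, l ≠ i → ∃ k : F, ∀ x, (gs l : Matrix (Fin m) (Fin m) F) *ᵥ x = k • x := by
    intro l hl
    refine exists_smul_of_parallel (A := (gs l : Matrix (Fin m) (Fin m) F)) fun x => ?_
    rcases eq_or_ne x 0 with rfl | hx
    · exact ⟨0, by rw [mulVec_zero, zero_smul]⟩
    obtain ⟨k, hk, h⟩ := hprop l hl x hx
    rw [Equiv.Perm.one_symm, Equiv.Perm.one_apply, Function.update_self] at h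
    exact ⟨k⁻¹, by conv_rhs => rw [h, smul_smul, inv_mul_cancel₀ hk, one_smul]⟩
  choose! k hk using hsc
  set P := ∏ l ∈ Finset.univ.erase i, k l
  set A := P • (gs i : Matrix (Fin m) (Fin m) F) with hA
  have hy' : ((PtG gs * pmG 1 : GL (ι → Fin m) F) : Matrix (ι → Fin m) (ι → Fin m) F) = emb i A := by
    refine ext_pten fun xs => ?_
    rw [map_one, mul_one, PtG_val, Pt_mulVec_pten, emb_mulVec_pten, hA, smul_mulVec, pten_update_smul]
    have e1 : (fun l => (gs l : Matrix (Fin m) (Fin m) F) *ᵥ xs l) = fun l =>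
        (Function.update k i (1 : F) l) • Function.update xs i ((gs i : Matrix (Fin m) (Fin m) F) *ᵥ xs i) l := by
      funext l
      rcases eq_or_ne l i with rfl | hl
      · simp
      · rw [Function.update_of_ne hl, Function.update_of_ne hl, hk l hl]
    rw [e1, pten_smul]
    congr 1
    rw [← Finset.mul_prod_erase _ _ (Finset.mem_univ i), Function.update_self, one_mul]
    exact Finset.prod_congr rfl fun l hl => Function.update_of_ne (Finset.ne_of_mem_erase hl) _ _
  have hAu : IsUnit A := mulVec_injective_iff_isUnit.mp fun u v huv => by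
    obtain ⟨q⟩ : Nonempty (Rest i m) := ⟨fun _ => 0⟩
    have h1 := mulVec_injective_iff_isUnit.mpr (PtG gs * pmG 1 : GL (ι → Fin m) F).isUnit
      (a₁ := lift i u (Pi.single q 1)) (a₂ := lift i v (Pi.single q 1)) (by
        show (_ : Matrix (ι → Fin m) (ι → Fin m) F) *ᵥ _ = (_ : Matrix (ι → Fin m) (ι → Fin m) F) *ᵥ _
        rw [hy', emb_mulVec_lift, emb_mulVec_lift]; exact congrArg (fun t => lift i t _) huv)
    funext p
    simpa [lift_apply, extend_self, extend_rest] using congrFun h1 (extend i p q)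
  refine ⟨hAu.unit, Units.ext (by rw [hy', embG_val, IsUnit.unit_spec]), ?_⟩
  obtain ⟨q⟩ : Nonempty (Rest i m) := ⟨fun _ => 0⟩
  have h1 := hfix (Pi.single q 1)
  rw [hy', emb_mulVec_lift] at h1
  funext p
  simpa [lift_apply, extend_self, extend_rest] using congrFun h1 (extend i p q)

/-- The stabiliser of the slices through a subspace. -/
def fixSl (i : ι) (S : Submodule F (Fin m → F)) : Subgroup (GL (ι → Fin m) F) where
  carrier := {y | ∀ e ∈ S, ∀ w, (y : Matrix (ι → Fin m) (ι → Fin m) F) *ᵥ lift i e w = lift i e w}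
  one_mem' := fun e _ w => by rw [Units.val_one, one_mulVec]
  mul_mem' := fun {a b} ha hb e he w => by rw [Units.val_mul, ← mulVec_mulVec, hb e he, ha e he]
  inv_mem' := fun {a} ha e he w => by
    conv_lhs => rw [← ha e he w]
    rw [mulVec_mulVec, Units.inv_mul, one_mulVec]

theorem fixSl_mono (i : ι) {S S' : Submodule F (Fin m → F)} (h : S ≤ S') : fixSl i S' ≤ fixSl i S :=
  fun _ hy e he => hy e (h he)

theorem mem_fixSl_sup (i : ι) {S : Submodule F (Fin m → F)} {f : Fin m → F} {y : GL (ι → Fin m) F}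
    (hy : y ∈ fixSl i S) (hf : ∀ w, (y : Matrix (ι → Fin m) (ι → Fin m) F) *ᵥ lift i f w = lift i f w) :
    y ∈ fixSl i (S ⊔ Submodule.span F {f}) := by
  intro e he w
  obtain ⟨a, ha, b, hb, rfl⟩ := Submodule.mem_sup.1 he
  obtain ⟨k, rfl⟩ := Submodule.mem_span_singleton.1 hb
  rw [lift_add_left, mulVec_add, hy a ha, lift_smul_left, mulVec_smul, hf]

/-- The other factors normalise the slice stabilisers. -/
theorem embG_mem_normalizer_fixSl (i : ι) (l : {j // j ≠ i}) (g : GL (Fin m) F) (S : Submodule F (Fin m → F)) :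
    embG (l : ι) g ∈ Subgroup.normalizer (fixSl (ι := ι) i S : Set (GL (ι → Fin m) F)) := by
  have key : ∀ (g : GL (Fin m) F) (y : GL (ι → Fin m) F), y ∈ fixSl i S →
      embG (l : ι) g * y * (embG (l : ι) g)⁻¹ ∈ fixSl i S := by
    intro g y hy e he w
    rw [Units.val_mul, Units.val_mul, ← map_inv, embG_val, embG_val, ← mulVec_mulVec, ← mulVec_mulVec]
    simp only [emb_rest i l, kr_mulVec_lift, one_mulVec, hy e he]
    rw [mulVec_mulVec, ← emb_mul, Units.mul_inv, emb_one, one_mulVec]
  refine Subgroup.mem_normalizer_iff.2 fun y => ⟨key g y, fun h => ?_⟩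
  have := key g⁻¹ _ h
  rw [map_inv] at this
  simpa [mul_assoc] using this

theorem mem_spG_of_isIso (hP : Par G d) {j : ι} {a : GL (Fin m) F} (h : IsIso G (embG j a)) : a ∈ spG G := by
  have : NeZero m := ⟨by have := hP.three; omega⟩
  exact spG_of_isIso_embG hP.form h

/-- A regular element times an element of another factor is conjugate to a regular one only trivially. -/
theorem eq_one_of_conj_sieG {p : ℕ} [Fact p.Prime] [CharP F p] (hP : Par G d) {i j : ι} (hij : i ≠ j)
    {a : GL (Fin m) F} (ha : a ∈ spG G) {f : Fin m → F} (hf : om G f f ≠ 0)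
    (haf : (a : Matrix (Fin m) (Fin m) F) *ᵥ f = f) {c δ z : Fin m → F} (h : Hyp G c δ) (hz : z ∈ mid G c δ)
    (hzz : om G z z ≠ 0) {y : GL (ι → Fin m) F}
    (e : y * embG j (sieG G c z) * y⁻¹ = embG i a * embG j (sieG G c z)) : a = 1 := by
  classical
  have hG := hP.form
  have hm := hP.three
  have : NeZero m := ⟨by omega⟩
  have zc := (h.om_mid hG hz).1
  have hup : embG j (sieG G c z) ^ p = (1 : GL (ι → Fin m) F) := by
    rw [← map_pow, sieG_pow hG h.c_iso zc, CharP.cast_eq_zero, zero_smul, sieG_zero hG h.c_iso, map_one]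
  have hap : a ^ p = 1 := by
    refine embG_injective i ?_
    have h1 := congrArg (· ^ p) e
    simp only [conj_pow, hup, mul_one, mul_inv_cancel] at h1
    rw [(show Commute (embG i a) (embG j (sieG G c z)) from embG_comm hij _ _).mul_pow, hup, mul_one] at h1
    rw [map_pow, ← h1, map_one]
  rcases eq_or_ne m 3 with hm3 | hm3
  · exact eq_one_of_fix_three hP hm3 ha hap hf haf
  by_contra ha1
  have h1 := lt_rank_of_unipotent hP (show 4 ≤ m by omega) hij hap ha1 h hz hzz
  rw [← e, rank_conj_sub_one', Matrix.rank, embG_val, sieG_val hG h.c_iso zc, ← emb_one (F := F) (m := m) j,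
    ← emb_sub] at h1
  have hle : LinearMap.range (emb j (sieM G c z - 1)).mulVecLin ≤ block j z ⊔ block j c := by
    rintro _ ⟨v, rfl⟩
    rw [mulVecLin_apply, sieM, add_sub_assoc, add_sub_cancel_left, wedge, cen, sub_sub, emb_sub, emb_add, emb_smul,
      sub_mulVec, add_mulVec]
    refine Submodule.sub_mem _ (Submodule.mem_sup_left ?_) (Submodule.add_mem _ (Submodule.mem_sup_right ?_)
      (Submodule.mem_sup_right ?_))
    · rw [block_eq_range (hG.axis_ne h.c_ne)]; exact ⟨v, rfl⟩
    · rw [block_eq_range (hG.axis_ne (show z ≠ 0 from fun e => hzz (by rw [e, om_zero_left])))]; exact ⟨v, rfl⟩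
    · rw [smul_mulVec]
      exact Submodule.smul_mem _ _ (by rw [block_eq_range (hG.axis_ne h.c_ne)]; exact ⟨v, rfl⟩)
  have h2 := (Submodule.finrank_mono hle).trans (Submodule.finrank_add_le_finrank_add_finrank _ _)
  rw [finrank_block (show z ≠ 0 from fun e => hzz (by rw [e, om_zero_left])), finrank_block h.c_ne] at h2
  omega

/-- The element of a seed does not preserve the pure tensors. -/
theorem seed_not_pure (hP : Par G d) {a : ι} {b : {k // k ≠ a}} {c δ f : Fin m → F} (h : Hyp G c δ)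
    (hf : f ∈ mid G c δ) (hff : om G f f ≠ 0) {x : GL (ι → Fin m) F}
    (hx : (x : Matrix (ι → Fin m) (ι → Fin m) F) = 1 + kr a (cen G c) (emb b (wedge G f c))) :
    ¬ IsPure ((x : Matrix (ι → Fin m) (ι → Fin m) F) *ᵥ pten fun _ : ι => δ) := by
  classical
  rintro ⟨zs, hzs0, hzs⟩
  have hG := hP.form
  have hδ0 : δ ≠ 0 := (h.swap hG).c_ne
  obtain ⟨fc, fd, cf, df⟩ := h.om_mid hG hf
  have hb : (b : ι) ≠ a := b.2
  set ys := Function.update (Function.update (fun _ : ι => δ) (b : ι) f) a c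
  have hy : ∀ k, ys k ≠ 0 := fun k => by
    rcases eq_or_ne k a with rfl | hka
    · simpa [ys] using h.c_ne
    rcases eq_or_ne k (b : ι) with rfl | hkb
    · simp only [ys, Function.update_of_ne hka, Function.update_self]
      exact fun e => hff (by rw [e, om_zero_left])
    · simpa [ys, hka, hkb] using hδ0
  have e : (x : Matrix (ι → Fin m) (ι → Fin m) F) *ᵥ pten (fun _ : ι => δ) = pten (fun _ : ι => δ) + pten ys := by
    rw [hx, add_mulVec, one_mulVec, kr_emb, ← mulVec_mulVec, emb_mulVec_pten, emb_mulVec_pten, wedge_mulVec,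
      h.dc, df, one_smul, zero_smul, sub_zero, Function.update_of_ne hb.symm, cen_mulVec, h.dc, one_smul]
  rw [e] at hzs
  obtain ⟨k, hk⟩ := prop_of_pure_add (fun _ => hδ0) hy hzs hb.symm (fun k hk => by
    simp only [ys, Function.update_self] at hk
    have := congrArg (fun v => om G v δ) hk
    simp [om_smul_left, h.d_iso, h.cd hG] at this)
  simp only [ys, Function.update_of_ne hb, Function.update_self] at hk
  have h1 := congrArg (fun v => om G v c) hk
  simp only [om_smul_left, h.dc, fc, mul_one] at h1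
  exact hff (by rw [← hk, h1, zero_smul, om_zero_left])

/-- The slice stabiliser acts by similitudes of the other factors. -/
theorem gsim_of_slice {i : ι} {f : Fin m → F} (hf : om G f f ≠ 0) {y : GL (ι → Fin m) F} (hy : y ∈ gsim ι G)
    {ψ : GL (Rest i m) F}
    (h : ∀ u, (y : Matrix (ι → Fin m) (ι → Fin m) F) *ᵥ lift i f u = lift i f ((ψ : Matrix (Rest i m) (Rest i m) F) *ᵥ u)) :
    ψ ∈ gsim {j // j ≠ i} G := by
  obtain ⟨μ, hμ, he⟩ := mem_gsim.mp hy
  refine mem_gsim.mpr ⟨μ, hμ, Matrix.ext fun r s => ?_⟩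
  have h1 := congrArg (fun X => lift i f (Pi.single r 1) ⬝ᵥ X *ᵥ lift i f (Pi.single s 1)) he
  simp only [smul_mulVec, dotProduct_smul, smul_eq_mul] at h1
  rw [← mulVec_mulVec, ← mulVec_mulVec, dotProduct_mulVec (lift i f (Pi.single r 1)), vecMul_transpose, h, h,
    form_lift, form_lift] at h1
  refine mul_left_cancel₀ hf ?_
  have h2 : ∀ X : Matrix (Rest i m) (Rest i m) F, X r s = Pi.single r 1 ⬝ᵥ X *ᵥ Pi.single s 1 := fun X => by
    rw [mulVec_single_one, single_dotProduct, one_mul]; rfl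
  rw [h2 ((ψ : Matrix (Rest i m) (Rest i m) F)ᵀ * gram {j // j ≠ i} G * (ψ : Matrix (Rest i m) (Rest i m) F)),
    ← mulVec_mulVec, ← mulVec_mulVec, dotProduct_mulVec (Pi.single r 1), vecMul_transpose, h1,
    Matrix.smul_apply, smul_eq_mul, h2 (gram {j // j ≠ i} G)]
  ring

namespace Core

variable (hC : Core G d M) [Nontrivial ι]
include hC

set_option maxHeartbeats 1600000 in
/-- The stabiliser of a slice. -/
theorem slice_mem {i : ι} {f : Fin m → F} (hf : om G f f ≠ 0)
    (hK : ∀ x ∈ M, x ∈ fixSl i (Submodule.span F {f}) → x ∈ wreath ι m F)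
    {y : GL (ι → Fin m) F} (hy : y ∈ M)
    (hst : ∀ u, (y : Matrix (ι → Fin m) (ι → Fin m) F) *ᵥ lift i f u ∈ block i f) : y ∈ wreath ι m F := by
  classical
  have hP := hC.set.par
  have hG := hP.form
  have hm := hP.three
  have : NeZero m := ⟨by omega⟩
  obtain ⟨p, hp'⟩ := CharP.exists F
  have : Fact p.Prime := ⟨CharP.char_is_prime F p⟩
  have hf0 : f ≠ 0 := fun e => hf (by rw [e, om_zero_left])
  -- the image on the other factors
  obtain ⟨ψ, hψ⟩ : ∃ ψ : GL (Rest i m) F,
      ∀ u, (y : Matrix (ι → Fin m) (ι → Fin m) F) *ᵥ lift i f u = lift i f ((ψ : Matrix (Rest i m) (Rest i m) F) *ᵥ u) :=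
    exists_slice_map hf0 hst
  have hlift : ∀ (l : {j // j ≠ i}) (g : GL (Fin m) F) u, (embG (l : ι) g : Matrix (ι → Fin m) (ι → Fin m) F) *ᵥ
      lift i f u = lift i f ((embG l g : Matrix (Rest i m) (Rest i m) F) *ᵥ u) := fun l g u => by
    rw [embG_val, emb_rest i l, kr_mulVec_lift, one_mulVec, embG_val]
  set X := stabImage M i f
  have hXset : Setting G d X :=
    { par := hP
      sim := fun ψ ⟨y, hy, ha⟩ => gsim_of_slice hf (hC.set.sim hy) ha
      refl := fun l e he => ⟨_, hC.set.refl (l : ι) e he, hlift l _⟩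
      sieg := fun l c z hc hz => ⟨_, hC.set.sieg (l : ι) c z hc hz, hlift l _⟩ }
  have hfixf : ∀ {x : GL (ι → Fin m) F}, x ∈ M → IsIso G x →
      (∀ u, (x : Matrix (ι → Fin m) (ι → Fin m) F) *ᵥ lift i f u = lift i f u) →
      ∃ a, x = embG i a ∧ a ∈ spG G ∧ (a : Matrix (Fin m) (Fin m) F) *ᵥ f = f := by
    intro x hx hiso hfx
    obtain ⟨a, ha, haf⟩ := exists_embG_of_fix (by omega) hf0 (hK x hx fun e he w => by
      obtain ⟨k, rfl⟩ := Submodule.mem_span_singleton.1 he
      rw [lift_smul_left, mulVec_smul, hfx]) hfx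
    exact ⟨a, ha, mem_spG_of_isIso hP (ha ▸ hiso), haf⟩
  rcases hC.hrec i X hXset with hW | ⟨a, b, c, δ, g, h, hg, hgg, -, s, ⟨ys, hys, hs⟩, hsv⟩
  · -- the image is in the wreath group
    have hψW : ψ ∈ wreath {j // j ≠ i} m F := hW ⟨y, hy, hψ⟩
    have hψs : ψ ∈ gsim {j // j ≠ i} G := gsim_of_slice hf (hC.set.sim hy) hψ
    obtain ⟨σ, gs, hgs⟩ := hψW
    have hsim : ∀ l, IsSim G (gs (σ l)) := fun l => isSim_of_conj hP fun e he => by
      have h1 := isIso_conj hψs (isIso_embG l (refG_mem hG he.ne))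
      rw [hgs, conj_perm] at h1
      exact spG_of_isIso_embG hG h1
    set σ' : Equiv.Perm ι := Equiv.Perm.ofSubtype σ
    set gs' : ι → GL (Fin m) F := fun k => if hk : k = i then 1 else gs ⟨k, hk⟩
    set w := PtG gs' * pmG σ'
    have hσ' : ∀ l : {j // j ≠ i}, σ' (l : ι) = (σ l : ι) := fun l => Equiv.Perm.ofSubtype_apply_coe σ l
    have hgs' : ∀ l : {j // j ≠ i}, gs' (l : ι) = gs l := fun l => dif_neg l.2
    have hconj : ∀ (l : {j // j ≠ i}) e, Kap G d e →
        Commute (w⁻¹ * y) (embG (l : ι) (refG G e)) := by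
      intro l e he
      obtain ⟨her, hek⟩ := (hsim l).conj_refG hP he
      set r' := refG G ((gs (σ l) : Matrix (Fin m) (Fin m) F) *ᵥ e)
      set dd := embG (l : ι) (refG G e) with hdd
      set dd' := embG (σ l : ι) r' with hdd'
      have hψr : ψ * embG l (refG G e) * ψ⁻¹ = embG (σ l) r' := by rw [hgs, conj_perm, her]
      have hx1 : ∀ u, ((y * dd * y⁻¹ * dd'⁻¹ : GL (ι → Fin m) F) : Matrix (ι → Fin m) (ι → Fin m) F) *ᵥ lift i f u =
          lift i f u := fun u => by
        have hyi : ∀ u, ((y⁻¹ : GL (ι → Fin m) F) : Matrix (ι → Fin m) (ι → Fin m) F) *ᵥ lift i f u =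
            lift i f (((ψ⁻¹ : GL (Rest i m) F) : Matrix (Rest i m) (Rest i m) F) *ᵥ u) := fun u => by
          refine mulVec_injective_iff_isUnit.mpr y.isUnit ?_
          show (y : Matrix (ι → Fin m) (ι → Fin m) F) *ᵥ _ = (y : Matrix (ι → Fin m) (ι → Fin m) F) *ᵥ _
          rw [mulVec_mulVec, Units.mul_inv, one_mulVec, hψ, mulVec_mulVec, Units.mul_inv, one_mulVec]
        simp only [Units.val_mul, ← mulVec_mulVec, hdd', hdd, ← map_inv, hlift, hyi, hψ]
        simp only [mulVec_mulVec, ← Units.val_mul, ← hψr, map_inv]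
        group
        simp
      have hiso : IsIso G (y * dd * y⁻¹ * dd'⁻¹) :=
        (isIso_conj (hC.set.sim hy) (isIso_embG _ (refG_mem hG he.ne))).mul (isIso_embG _ (refG_mem hG hek.ne)).inv
      obtain ⟨a, ha, -, -⟩ := hfixf (M.mul_mem (M.mul_mem (M.mul_mem hy (hC.set.refl _ e he)) (M.inv_mem hy))
        (M.inv_mem (hC.set.refl _ _ hek))) hiso hx1
      have hx : y * dd * y⁻¹ = embG i a * dd' := by rw [← ha, inv_mul_cancel_right]
      have hd2 : dd' * dd' = 1 := by rw [hdd', ← map_mul, refG_sq hek.ne, map_one]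
      have hcm : Commute (embG i a) dd' := embG_comm (Ne.symm (σ l).2) _ _
      have ha2 : a * a = 1 := by
        refine embG_injective i ?_
        have h1 : (embG i a * dd') * (embG i a * dd') = 1 := by
          rw [← hx]
          calc y * dd * y⁻¹ * (y * dd * y⁻¹) = y * (dd * dd) * y⁻¹ := by group
            _ = 1 := by rw [hdd, ← map_mul, refG_sq he.ne, map_one, mul_one, mul_inv_cancel]
        rw [hcm.symm.mul_mul_mul_comm, hd2, mul_one] at h1
        rw [map_mul, h1, map_one]
      have ha1 := eq_one_of_conj_refl hG hm (σ l) ha2 hek.ne he.ne hx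
      rw [ha1, map_one, one_mul] at hx
      have hw' : w * dd * w⁻¹ = dd' := by rw [hdd, conj_perm, hσ', hgs', hdd', her]
      show w⁻¹ * y * dd = dd * (w⁻¹ * y)
      calc w⁻¹ * y * dd = w⁻¹ * (y * dd * y⁻¹) * y := by group
        _ = w⁻¹ * (w * dd * w⁻¹) * y := by rw [hx, hw']
        _ = dd * (w⁻¹ * y) := by group
    have hwmem : w ∈ wreath ι m F := ⟨σ', gs', rfl⟩
    have hall : ∀ g : GL (ι → Fin m) F, (∀ (l : {j // j ≠ i}) e, Kap G d e → Commute g (embG (l : ι) (refG G e))) →
        ∃ A, (g : Matrix (ι → Fin m) (ι → Fin m) F) = emb i A := by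
      intro g hg
      refine exists_emb_of_comm i fun l hl X => ?_
      obtain ⟨K, hK⟩ := exists_kr_of_comm_refl hP l (C := (g : Matrix (ι → Fin m) (ι → Fin m) F)) fun e he => by
        have h1 := congrArg Units.val (hg ⟨l, hl⟩ e he).eq
        simpa only [Units.val_mul, embG_val, refG_val he.ne] using h1
      rw [hK, emb_eq_kr, kr_mul, kr_mul, Matrix.one_mul, Matrix.mul_one, Matrix.one_mul, Matrix.mul_one]
    obtain ⟨A, hA⟩ := hall _ hconj
    obtain ⟨A', hA'⟩ := hall (w⁻¹ * y)⁻¹ fun l e he => (hconj l e he).inv_left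
    have hAA : A * A' = 1 := emb_injective (ι := ι) i (by rw [emb_mul, ← hA, ← hA', Units.mul_inv, emb_one])
    have e : w⁻¹ * y = embG i ⟨A, A', hAA, mul_eq_one_comm.1 hAA⟩ := Units.ext (by rw [hA, embG_val])
    rw [show y = w * (w⁻¹ * y) by group, e]
    exact (wreath ι m F).mul_mem hwmem (embG_mem _ _)
  · -- a seed in the image
    exfalso
    obtain ⟨z, hz, hzz⟩ := h.exists_mid_aniso hP
    have zc := (h.om_mid hG hz).1
    set u := embG (a : ι) (sieG G c z) with hu
    have hsu : (s : Matrix (Rest i m) (Rest i m) F) * (embG a (sieG G c z) : Matrix (Rest i m) (Rest i m) F) = (embG a (sieG G c z) : Matrix (Rest i m) (Rest i m) F) * s := by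
      rw [hsv, embG_val, sieG_val hG h.c_iso zc, add_mul, mul_add, one_mul, mul_one, emb_eq_kr, kr_mul, kr_mul,
        Matrix.one_mul, Matrix.mul_one]
      congr 2
      have e1 : cen G c * sieM G c z = cen G c ∧ sieM G c z * cen G c = cen G c := by
        constructor <;> refine Matrix.ext_of_mulVec_single fun q => ?_
        · rw [← mulVec_mulVec, cen_mulVec, cen_mulVec, sieM_mulVec]
          simp [om_add_left, om_sub_left, om_smul_left, h.c_iso, zc]
        · rw [← mulVec_mulVec, cen_mulVec, mulVec_smul, sieM_mulVec, h.c_iso, (h.om_mid hG hz).2.2.1]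
          simp
      rw [e1.1, e1.2]
    have hsc : Commute s (embG a (sieG G c z)) := Units.ext (by rw [Units.val_mul, Units.val_mul]; exact hsu)
    have hyi : ∀ u, ((ys⁻¹ : GL (ι → Fin m) F) : Matrix (ι → Fin m) (ι → Fin m) F) *ᵥ lift i f u =
        lift i f (((s⁻¹ : GL (Rest i m) F) : Matrix (Rest i m) (Rest i m) F) *ᵥ u) := fun u => by
      refine mulVec_injective_iff_isUnit.mpr ys.isUnit ?_
      show (ys : Matrix (ι → Fin m) (ι → Fin m) F) *ᵥ _ = (ys : Matrix (ι → Fin m) (ι → Fin m) F) *ᵥ _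
      rw [mulVec_mulVec, Units.mul_inv, one_mulVec, hs, mulVec_mulVec, Units.mul_inv, one_mulVec]
    have huM : u ∈ M := hC.set.sieg _ c z h.c_iso zc
    obtain ⟨a', ha', has, haf⟩ := hfixf (M.mul_mem (M.mul_mem (M.mul_mem hys huM) (M.inv_mem hys)) (M.inv_mem huM))
      ((isIso_conj (hC.set.sim hys) (isIso_embG _ (sieG_mem hG h.c_iso zc))).mul
        (isIso_embG _ (sieG_mem hG h.c_iso zc)).inv) fun v => by
        simp only [Units.val_mul, ← mulVec_mulVec, hu, ← map_inv, hlift, hyi, hs]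
        simp only [mulVec_mulVec, ← Units.val_mul, map_inv]
        rw [← mul_assoc, hsc.eq]
        group
        simp
    have e : ys * u * ys⁻¹ = embG i a' * u := by rw [← ha', inv_mul_cancel_right]
    have ha1 := eq_one_of_conj_sieG (p := p) hP (Ne.symm a.2) has hf haf h hz hzz e
    rw [ha1, map_one, one_mul, mul_inv_eq_iff_eq_mul] at e
    obtain ⟨σ, gs, hgs⟩ := hC.mem_of_comm_sieG h hz hzz hys e
    refine seed_not_pure hP h hg hgg hsv (isPure_of_lift a hf0 ?_)
    rw [← hs]
    have hδ0 : δ ≠ 0 := (h.swap hG).c_ne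
    refine HasPerm.map_pure ⟨gs, hgs⟩ ⟨Function.update (fun _ => δ) i f, fun k => ?_, ?_⟩
    · rcases eq_or_ne k i with rfl | hk
      · rwa [Function.update_self]
      · rwa [Function.update_of_ne hk]
    · exact lift_pten i f fun _ => δ

end Core

end CfsgLib.TWOr
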