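import Cfsg.Agent.TensorWreathOrth.Unipotent

/-!
# Products of conjugates of nilpotent matrices, and operators with self-adjoint entries
-/

set_option autoImplicit false
set_option linter.unusedSectionVars false

namespace CfsgLib.TWOr

open Matrix CfsgLib.MaxSub CfsgLib.TWreath
open CfsgLib.TWSp (om kr gram proj cen wedge spG gsim IsIso om_add_left om_add_right om_smul_left om_smul_right
  axis_dot cen_mulVec mem_spG mem_spG_of_om om_of_mem_spG adj)

variable {F : Type*} [Field F] {m : ℕ} {G : Matrix (Fin m) (Fin m) F} {d : F}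

/-- The rank one matrix of two vectors. -/
def dyad (G : Matrix (Fin m) (Fin m) F) (x y : Fin m → F) : Matrix (Fin m) (Fin m) F := vecMulVec x (G *ᵥ y)

theorem dyad_self (x : Fin m → F) : dyad G x x = cen G x := rfl

theorem dyad_add_left (x x' y : Fin m → F) : dyad G (x + x') y = dyad G x y + dyad G x' y := add_vecMulVec _ _ _

theorem dyad_add_right (x y y' : Fin m → F) : dyad G x (y + y') = dyad G x y + dyad G x y' := by
  rw [dyad, mulVec_add, vecMulVec_add]; rfl

theorem dyad_smul_left (k : F) (x y : Fin m → F) : dyad G (k • x) y = k • dyad G x y := smul_vecMulVec _ _ _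

theorem dyad_smul_right (k : F) (x y : Fin m → F) : dyad G x (k • y) = k • dyad G x y := by
  rw [dyad, mulVec_smul, vecMulVec_smul]; rfl

theorem dyad_sub_left (x x' y : Fin m → F) : dyad G (x - x') y = dyad G x y - dyad G x' y := sub_vecMulVec _ _ _

theorem dyad_sub_right (x y y' : Fin m → F) : dyad G x (y - y') = dyad G x y - dyad G x y' := by
  rw [dyad, mulVec_sub, vecMulVec_sub]; rfl

theorem dyad_mulVec (x y v : Fin m → F) : dyad G x y *ᵥ v = om G v y • x := by
  rw [dyad, vecMulVec_mulVec', axis_dot]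

theorem wedge_eq_dyad (x y : Fin m → F) : wedge G x y = dyad G x y - dyad G y x := rfl

theorem dyad_mul_dyad (a b c e : Fin m → F) : dyad G a b * dyad G c e = om G c b • dyad G a e := by
  rw [dyad, dyad, vecMulVec_mul_vecMulVec, axis_dot, vecMulVec_smul]; rfl

theorem adM_dyad (hG : OForm G) {h : GL (Fin m) F} (hh : h ∈ spG G) (x y : Fin m → F) :
    adM h (dyad G x y) =
      dyad G ((h : Matrix (Fin m) (Fin m) F) *ᵥ x) ((h : Matrix (Fin m) (Fin m) F) *ᵥ y) := by
  rw [adM_apply, dyad, hG.conj_vecMulVec hh]; rfl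

variable [Finite F] {c δ : Fin m → F}

/-- The reflection exchanging the lines of a pair. -/
theorem Hyp.exists_flip (h : Hyp G c δ) (hP : Par G d) :
    ∃ r ∈ fgrp G d, ∃ a : F, a ≠ 0 ∧ (r : Matrix (Fin m) (Fin m) F) *ᵥ c = a • δ ∧
      ∀ z ∈ mid G c δ, (r : Matrix (Fin m) (Fin m) F) *ᵥ z = z := by
  have hG := hP.form
  have h2 := hG.two
  have hd := hP.d_ne
  set e := c + (d / 2) • δ with he
  have qe : om G e e = d := by
    rw [he, om_add_left, om_add_right, om_add_right, om_smul_left, om_smul_right, om_smul_left, om_smul_right,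
      h.c_iso, h.d_iso, h.dc, h.cd hG]
    field_simp; ring
  have ke : Kap G d e := Kap.of_value hd qe
  refine ⟨refG G e, refG_mem_fgrp ke, -(d / 2), neg_ne_zero.2 (div_ne_zero hd h2), ?_, fun z hz => ?_⟩
  · rw [refG_val ke.ne, refM_mulVec, qe, he, om_add_right, om_smul_right, h.c_iso, h.cd hG]
    match_scalars <;> (field_simp; try ring)
  · obtain ⟨z1, z2, -, -⟩ := h.om_mid hG hz
    rw [refG_val ke.ne, refM_fix]
    rw [he, om_add_right, om_smul_right, z1, z2, mul_zero, add_zero]

theorem Hyp.sieG_apply (h : Hyp G c δ) (hG : OForm G) {z : Fin m → F} (hz : z ∈ mid G c δ) :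
    (sieG G c z : Matrix (Fin m) (Fin m) F) *ᵥ c = c ∧
      (sieG G c z : Matrix (Fin m) (Fin m) F) *ᵥ δ = δ + z - (om G z z / 2) • c ∧
      ∀ w ∈ mid G c δ, (sieG G c z : Matrix (Fin m) (Fin m) F) *ᵥ w = w - om G w z • c := by
  obtain ⟨zc, -, cz, dz⟩ := h.om_mid hG hz
  rw [sieG_val hG h.c_iso zc]
  refine ⟨?_, ?_, fun w hw => ?_⟩
  · rw [sieM_mulVec, h.c_iso, cz]; simp
  · rw [sieM_mulVec, h.dc, dz]; simp
  · rw [sieM_mulVec, (h.om_mid hG hw).1]; simp

/-- An invariant space with all dyads on one singular vector is everything. -/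
theorem Hyp.span_top (h : Hyp G c δ) (hP : Par G d) {A : Submodule F (Matrix (Fin m) (Fin m) F)}
    (hinv : ∀ g ∈ fgrp G d, ∀ X ∈ A, adM g X ∈ A) (hc : ∀ x, dyad G c x ∈ A) : A = ⊤ := by
  have hG := hP.form
  let E : Submodule F (Fin m → F) :=
    { carrier := {x | ∀ y, dyad G x y ∈ A}
      add_mem' := fun {a b} ha hb y => by rw [dyad_add_left]; exact A.add_mem (ha y) (hb y)
      zero_mem' := fun y => by simp [dyad]
      smul_mem' := fun k a ha y => by rw [dyad_smul_left]; exact A.smul_mem k (ha y) }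
  have hE : ∀ g ∈ fgrp G d, ∀ x ∈ E, (g : Matrix (Fin m) (Fin m) F) *ᵥ x ∈ E := fun g hg x hx y => by
    have h1 := hinv g hg _ (hx (((g⁻¹ : GL (Fin m) F) : Matrix (Fin m) (Fin m) F) *ᵥ y))
    rwa [adM_dyad hG (fgrp_le hG hg), mulVec_mulVec _ (g : Matrix (Fin m) (Fin m) F), Units.mul_inv,
      one_mulVec] at h1
  have hcE : c ∈ E := hc
  obtain ⟨r, hr, a, ha, hrc, -⟩ := h.exists_flip hP
  have hdE : δ ∈ E := by
    have h1 := hE r hr c hcE
    rw [hrc] at h1
    exact (E.smul_mem_iff ha).1 h1
  have hall : ∀ x, x ∈ E := fun x => by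
    rw [Hyp.proj3_eq (G := G) (c := c) (δ := δ) x]
    refine E.add_mem (E.add_mem (E.smul_mem _ hcE) (E.smul_mem _ hdE)) ?_
    have hz := proj3_mem hG h x
    obtain ⟨-, h2, -⟩ := h.sieG_apply hG hz
    have h1 := hE _ (sieG_mem_fgrp (d := d) h.c_iso (h.om_mid hG hz).1) δ hdE
    rw [h2] at h1
    have h3 := E.sub_mem (E.add_mem h1 (E.smul_mem (om G (proj3 G c δ x) (proj3 G c δ x) / 2) hcE)) hdE
    convert h3 using 1
    abel
  refine Submodule.eq_top_iff'.2 fun X => ?_
  rw [show X = ∑ p, vecMulVec (X.col p) (Pi.single p 1) by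
    ext r s; simp [Matrix.sum_apply, vecMulVec_apply, Pi.single_apply]]
  refine A.sum_mem fun p _ => ?_
  obtain ⟨y, hy⟩ := hG.exists_axis (Pi.single p 1)
  rw [← hy]
  exact hall _ y

/-- The products of two conjugates of a matrix. -/
def prodSpan (G : Matrix (Fin m) (Fin m) F) (d : F) (T : Matrix (Fin m) (Fin m) F) :
    Submodule F (Matrix (Fin m) (Fin m) F) :=
  Submodule.span F {X | ∃ g ∈ fgrp G d, ∃ g' ∈ fgrp G d, X = adM g T * adM g' T}

theorem adM_mul_mat {n : Type*} [Fintype n] [DecidableEq n] (g : GL n F) (X Y : Matrix n n F) :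
    adM g (X * Y) = adM g X * adM g Y := by
  simp only [adM_apply, mul_assoc]
  congr 2
  rw [← mul_assoc ((g⁻¹ : GL n F) : Matrix n n F), Units.inv_mul, one_mul]

theorem prodSpan_inv {T : Matrix (Fin m) (Fin m) F} {g : GL (Fin m) F} (hg : g ∈ fgrp G d)
    {X : Matrix (Fin m) (Fin m) F} (hX : X ∈ prodSpan G d T) : adM g X ∈ prodSpan G d T := by
  unfold prodSpan at hX ⊢
  induction hX using Submodule.span_induction with
  | mem Y hY =>
    obtain ⟨a, ha, b, hb, rfl⟩ := hY
    exact Submodule.subset_span ⟨g * a, (fgrp G d).mul_mem hg ha, g * b, (fgrp G d).mul_mem hg hb,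
      by rw [adM_mul_mat, adM_mul, adM_mul]⟩
  | zero => rw [map_zero]; exact Submodule.zero_mem _
  | add Y Z _ _ hY hZ => rw [map_add]; exact Submodule.add_mem _ hY hZ
  | smul k Y _ hY => rw [map_smul]; exact Submodule.smul_mem _ _ hY

set_option maxHeartbeats 800000 in
/-- The products of two conjugates span everything. -/
theorem LowT.prodSpan_eq_top (hP : Par G d) (h : Hyp G c δ) {T : Matrix (Fin m) (Fin m) F}
    (hT : LowT G d c δ T) : prodSpan G d T = ⊤ := by
  have hG := hP.form
  have h2 := hG.two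
  set A := prodSpan G d T
  have hinv : ∀ g ∈ fgrp G d, ∀ X ∈ A, adM g X ∈ A := fun g hg X hX => prodSpan_inv hg hX
  have hmem : ∀ g ∈ fgrp G d, ∀ g' ∈ fgrp G d, adM g T * adM g' T ∈ A := fun g hg g' hg' =>
    Submodule.subset_span ⟨g, hg, g', hg', rfl⟩
  have hone : adM (1 : GL (Fin m) F) T = T := by rw [adM_apply]; simp
  obtain ⟨r, hr, a, ha, hrc, hrz⟩ := h.exists_flip hP
  have hrG := fgrp_le hG hr
  have hsG : ∀ z ∈ mid G c δ, sieG G c z ∈ fgrp G d ∧ sieG G c z ∈ spG G := fun z hz =>
    ⟨sieG_mem_fgrp h.c_iso (h.om_mid hG hz).1, sieG_mem hG h.c_iso (h.om_mid hG hz).1⟩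
  obtain ⟨v, hv, hvv⟩ := h.exists_mid_aniso hP
  refine h.span_top hP hinv fun x => ?_
  suffices key : dyad G c c ∈ A ∧ dyad G c δ ∈ A ∧ ∀ w ∈ mid G c δ, dyad G c w ∈ A by
    rw [Hyp.proj3_eq (G := G) (c := c) (δ := δ) x, dyad_add_right, dyad_add_right, dyad_smul_right, dyad_smul_right]
    exact A.add_mem (A.add_mem (A.smul_mem _ key.1) (A.smul_mem _ key.2.1)) (key.2.2 _ (proj3_mem hG h x))
  rcases hT with rfl | ⟨f, hf, hff, -, rfl⟩
  · -- the central type
    have hD : ∀ w ∈ mid G c δ, dyad G c (δ + w - (om G w w / 2) • c) ∈ A := fun w hw => by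
      obtain ⟨hu, hu'⟩ := hsG w hw
      have h1 := hmem 1 (fgrp G d).one_mem _ ((fgrp G d).mul_mem hu hr)
      rw [hone, adM_cen ((spG G).mul_mem hu' hrG), Units.val_mul, ← mulVec_mulVec, hrc, mulVec_smul,
        (h.sieG_apply hG hw).2.1, cen_smul, ← dyad_self, ← dyad_self, Matrix.mul_smul, dyad_mul_dyad] at h1
      rw [om_sub_left, om_add_left, om_smul_left, h.dc, h.c_iso, (h.om_mid hG hw).1, mul_zero, sub_zero, add_zero,
        one_smul] at h1
      exact (A.smul_mem_iff (mul_ne_zero ha ha)).1 h1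
    have h0 : dyad G c δ ∈ A := by simpa [om_zero_left] using hD 0 (Submodule.zero_mem _)
    have hw : ∀ w ∈ mid G c δ, dyad G c w ∈ A ∧ om G w w • dyad G c c ∈ A := fun w hw => by
      have h1 := hD w hw
      have h1' := hD ((-1 : F) • w) (Submodule.smul_mem _ _ hw)
      simp only [dyad_sub_right, dyad_add_right, dyad_smul_right, om_smul_left, om_smul_right] at h1 h1'
      refine ⟨(A.smul_mem_iff h2).1 ?_, ?_⟩
      · convert A.sub_mem h1 h1' using 1
        match_scalars <;> ring
      · convert A.sub_mem (A.smul_mem (2 : F) h0) (A.add_mem h1 h1') using 1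
        match_scalars <;> (field_simp; try ring)
    exact ⟨(A.smul_mem_iff hvv).1 (hw v hv).2, h0, fun w hww => (hw w hww).1⟩
  · -- the short type
    obtain ⟨fc, fd, cf, df⟩ := h.om_mid hG hf
    set Q := om G f f
    have hcd := h.cd hG
    have hWW : cen G c ∈ A := by
      have h1 := hmem 1 (fgrp G d).one_mem 1 (fgrp G d).one_mem
      rw [hone, show wedge G f c = -wedge G c f by rw [wedge_eq_dyad, wedge_eq_dyad]; abel, neg_mul_neg,
        wedge_sq hG h.c_iso cf] at h1
      rw [neg_mem_iff] at h1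
      exact (A.smul_mem_iff hff).1 h1
    have hr' : adM r (wedge G f c) = a • wedge G f δ := by
      rw [adM_wedge hG hrG, hrz f hf, hrc, wedge_eq_dyad, wedge_eq_dyad, dyad_smul_left, dyad_smul_right,
        smul_sub]
    have hY : -(dyad G f f) - Q • dyad G c δ ∈ A := by
      have h1 := hmem 1 (fgrp G d).one_mem r hr
      rw [hone, hr', Matrix.mul_smul] at h1
      convert (A.smul_mem_iff ha).1 h1 using 1
      simp only [wedge_eq_dyad, sub_mul, mul_sub, dyad_mul_dyad, fc, h.dc, df]
      module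
    have hY' : -(dyad G f f) - Q • dyad G δ c ∈ A := by
      have h1 := hmem r hr 1 (fgrp G d).one_mem
      rw [hone, hr', Matrix.smul_mul] at h1
      convert (A.smul_mem_iff ha).1 h1 using 1
      simp only [wedge_eq_dyad, sub_mul, mul_sub, dyad_mul_dyad, fd, hcd, cf]
      module
    have hcc : dyad G c c ∈ A := hWW
    have hu : ∀ (t : F) (X : Matrix (Fin m) (Fin m) F), X ∈ A → adM (sieG G c (t • f)) X ∈ A := fun t X hX =>
      hinv _ (hsG _ (Submodule.smul_mem _ t hf)).1 X hX
    have act : ∀ t : F, (sieG G c (t • f) : Matrix (Fin m) (Fin m) F) *ᵥ f = f - (t * Q) • c ∧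
        (sieG G c (t • f) : Matrix (Fin m) (Fin m) F) *ᵥ δ = δ + t • f - (t * t * Q / 2) • c ∧
        (sieG G c (t • f) : Matrix (Fin m) (Fin m) F) *ᵥ c = c := fun t => by
      obtain ⟨a1, a2, a3⟩ := h.sieG_apply hG (Submodule.smul_mem _ t hf)
      refine ⟨?_, ?_, a1⟩
      · rw [a3 f hf, om_smul_right]
      · rw [a2, om_smul_left, om_smul_right, mul_assoc]
    have hX : dyad G f c ∈ A ∧ dyad G c f ∈ A := by
      have p := A.sub_mem (hu 1 _ hY) (hu (-1) _ hY)
      have p' := A.sub_mem (hu 1 _ hY') (hu (-1) _ hY')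
      simp only [map_sub, map_neg, map_smul, adM_dyad hG (hsG _ (Submodule.smul_mem _ _ hf)).2, (act _).1,
        (act _).2.1, (act _).2.2, dyad_sub_left, dyad_sub_right, dyad_add_left, dyad_add_right, dyad_smul_left,
        dyad_smul_right] at p p'
      refine ⟨(A.smul_mem_iff (mul_ne_zero h2 hff)).1 ?_, (A.smul_mem_iff (mul_ne_zero h2 hff)).1 ?_⟩
      · convert p using 1
        match_scalars <;> (field_simp; try ring)
      · convert p' using 1
        match_scalars <;> (field_simp; try ring)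
    have hfd : dyad G f δ ∈ A := by
      have h1 := hinv r hr _ hX.1
      rw [adM_dyad hG hrG, hrz f hf, hrc, dyad_smul_right] at h1
      exact (A.smul_mem_iff ha).1 h1
    have hcd' : dyad G c δ ∈ A := by
      have p := A.sub_mem (hu 1 _ hfd) (hu (-1) _ hfd)
      simp only [adM_dyad hG (hsG _ (Submodule.smul_mem _ _ hf)).2, (act _).1, (act _).2.1, dyad_sub_left,
        dyad_sub_right, dyad_add_right, dyad_smul_left, dyad_smul_right] at p
      refine (A.smul_mem_iff (mul_ne_zero (mul_ne_zero h2 h2) hff)).1 ?_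
      convert A.sub_mem (A.smul_mem (Q * Q) hcc) (A.add_mem p (A.smul_mem (2 : F) hY)) using 1
      match_scalars <;> (field_simp; try ring)
    refine ⟨hcc, hcd', fun w hw => ?_⟩
    set w' := w - (om G w f / Q) • f with hw'
    have hw'm : w' ∈ mid G c δ := Submodule.sub_mem _ hw (Submodule.smul_mem _ _ hf)
    have hw'f : om G w' f = 0 := by rw [hw', om_sub_left, om_smul_left, div_mul_cancel₀ _ hff, sub_self]
    obtain ⟨hu', hu''⟩ := hsG w' hw'm
    obtain ⟨b1, b2, b3⟩ := h.sieG_apply hG hw'm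
    have p := A.sub_mem (hinv _ hu' _ hY) hY
    simp only [map_sub, map_neg, map_smul, adM_dyad hG hu'', b3 f hf, b1, b2, hG.comm f w', hw'f, zero_smul,
      sub_zero, dyad_sub_right, dyad_add_right, dyad_smul_right] at p
    have p1 : dyad G c w' ∈ A := by
      refine (A.smul_mem_iff hff).1 ?_
      convert A.sub_mem (A.smul_mem (Q * (om G w' w' / 2)) hcc) p using 1
      match_scalars <;> (field_simp; try ring)
    rw [show w = w' + (om G w f / Q) • f by rw [hw', sub_add_cancel], dyad_add_right, dyad_smul_right]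
    exact A.add_mem p1 (A.smul_mem _ hX.2)

variable {ι : Type} [Fintype ι] [DecidableEq ι]

/-- An operator with self-adjoint entries in every factor is self-adjoint. -/
theorem adj_eq_of_ent (hG : OForm G) {C : Matrix (ι → Fin m) (ι → Fin m) F}
    (h : ∀ j r s, (G * ent j C r s)ᵀ = G * ent j C r s) : adj (gram ι G) C = C := by
  classical
  set J := gram ι G with hJ
  have hent : ∀ (j : ι) r s, (ent j (J * C) r s)ᵀ = ent j (J * C) r s := by
    intro j r s
    have e : ent j (J * C) r s = ∑ t, gram {k // k ≠ j} G r t • (G * ent j C t s) := by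
      ext p q
      show (J * C) (extend j p r) (extend j q s) = _
      rw [hJ, TWSp.gram_eq_kr G j, mul_apply, ← (TWSp.splitEquiv j).symm.sum_comp, Fintype.sum_prod_type,
        Matrix.sum_apply, Finset.sum_comm]
      refine Finset.sum_congr rfl fun t _ => ?_
      rw [Matrix.smul_apply, mul_apply, smul_eq_mul, Finset.mul_sum]
      refine Finset.sum_congr rfl fun k _ => ?_
      show kr j G _ (extend j p r) (extend j k t) * C (extend j k t) (extend j q s) = _
      rw [kr, extend_self, extend_self, extend_rest, extend_rest, ent]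
      ring
    rw [e, transpose_sum]
    exact Finset.sum_congr rfl fun t _ => by rw [transpose_smul, h]
  have hswap : ∀ (S : Finset ι) (a b : ι → Fin m),
      (J * C) a b = (J * C) (S.piecewise b a) (S.piecewise a b) := by
    intro S
    induction S using Finset.induction with
    | empty => intro a b; simp
    | insert j S hj ih =>
      intro a b
      rw [ih a b, Finset.piecewise_insert, Finset.piecewise_insert]
      set a' := S.piecewise b a
      set b' := S.piecewise a b
      have h1 := congrFun (congrFun (hent j (fun k => a' k) fun k => b' k) (a' j)) (b' j)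
      simp only [transpose_apply, ent, TWSp.extend_eta] at h1
      rw [← update_eq_extend, ← update_eq_extend] at h1
      rw [show a' j = a j from Finset.piecewise_eq_of_notMem _ _ _ hj,
        show b' j = b j from Finset.piecewise_eq_of_notMem _ _ _ hj] at h1
      exact h1.symm
  have hsymm : (J * C)ᵀ = J * C := by
    ext a b
    have h1 := hswap Finset.univ b a
    simp only [Finset.piecewise_univ] at h1
    exact h1
  have hJs : Jᵀ = J := gram_symm hG
  rw [transpose_mul, hJs] at hsymm
  rw [adj, Matrix.mul_assoc, hsymm, ← Matrix.mul_assoc, nonsing_inv_mul J (oForm_det hG), Matrix.one_mul]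

end CfsgLib.TWOr
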