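import Cfsg.Agent.TensorWreathOrth.Shape

/-!
# Stabilisers of singular blocks

Without a seed, and if the statement holds for the smaller power, an element of `M` stabilising the block
of a singular vector lies in the wreath group.
-/

set_option autoImplicit false
set_option linter.unusedSectionVars false

namespace CfsgLib.TWOr

open Matrix Module CfsgLib.MaxSub CfsgLib.TWreath
open CfsgLib.TWSp (om kr gram proj cen wedge spG gsim IsIso om_add_left om_add_right om_smul_left om_smul_right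
  axis_dot cen_mulVec mem_spG mem_spG_of_om om_of_mem_spG adj kr_mul emb_eq_kr emb_rest kr_mulVec_lift form_lift
  isIso_embG proj_lift adj_smul adj_one)

variable {F : Type*} [Field F] {m : ℕ} {G : Matrix (Fin m) (Fin m) F} {d : F}
  {ι : Type} [Fintype ι] [DecidableEq ι]

theorem wedge_self (c : Fin m → F) : wedge G c c = 0 := sub_self _

theorem kr_emb (x : ι) (y : {j // j ≠ x}) (X Y : Matrix (Fin m) (Fin m) F) :
    kr x X (emb y Y) = emb x X * emb (y : ι) Y := by
  rw [emb_eq_kr x X, emb_rest x y, kr_mul, Matrix.mul_one, Matrix.one_mul]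

theorem conj_perm (gs : ι → GL (Fin m) F) (σ : Equiv.Perm ι) (k : ι) (A : GL (Fin m) F) :
    PtG gs * pmG σ * embG k A * (PtG gs * pmG σ)⁻¹ = embG (σ k) (gs (σ k) * A * (gs (σ k))⁻¹) := by
  rw [mul_inv_eq_iff_eq_mul]
  apply Units.ext
  rw [Units.val_mul, Units.val_mul, Units.val_mul, Units.val_mul, PtG_val, pmG_val, embG_val, embG_val,
    mul_assoc, pm_mul_emb, ← mul_assoc, Units.val_mul, Units.val_mul]
  rw [Pt_mul_emb (A' := (gs (σ k) : Matrix (Fin m) (Fin m) F) * (A : Matrix (Fin m) (Fin m) F) *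
      (((gs (σ k))⁻¹ : GL (Fin m) F) : Matrix (Fin m) (Fin m) F)) _ _
    (by rw [mul_assoc _ _ (gs (σ k) : Matrix (Fin m) (Fin m) F), Units.inv_mul, mul_one]), mul_assoc]

theorem spG_of_isIso_embG (hG : OForm G) [NeZero m] {j : ι} {g : GL (Fin m) F} (h : IsIso G (embG j g)) :
    g ∈ spG G := by
  have h1 := h
  rw [IsIso, embG_val, emb_eq_kr, TWSp.gram_eq_kr G j, TWSp.kr_transpose, transpose_one, kr_mul, kr_mul,
    Matrix.one_mul, Matrix.mul_one] at h1
  refine mem_spG.2 (TWSp.kr_right_injective (fun e => ?_) h1)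
  have := (oForm_det (ι := {k // k ≠ j}) hG)
  have : Nonempty (Rest j m) := ⟨fun _ => 0⟩
  rw [e, Matrix.det_zero] at *
  exact not_isUnit_zero (by assumption)

/-- `1` on the factor `i` tensor an element on the others. -/
def krG (i : ι) : GL (Rest i m) F →* GL (ι → Fin m) F where
  toFun g := ⟨kr i 1 g.val, kr i 1 (g⁻¹ : GL (Rest i m) F).val,
    by rw [kr_mul, Matrix.one_mul, Units.mul_inv, TWSp.kr_one],
    by rw [kr_mul, Matrix.one_mul, Units.inv_mul, TWSp.kr_one]⟩
  map_one' := Units.ext (TWSp.kr_one i)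
  map_mul' g h := Units.ext (by simp only [Units.val_mul, kr_mul, Matrix.one_mul])

theorem krG_val (i : ι) (g : GL (Rest i m) F) :
    (krG i g : Matrix (ι → Fin m) (ι → Fin m) F) = kr i 1 g.val := rfl

theorem embG_comm_krG (i : ι) (g : GL (Fin m) F) (h : GL (Rest i m) F) :
    embG i g * krG i h = krG i h * embG i g :=
  Units.ext (by simp only [Units.val_mul, embG_val, krG_val, emb_eq_kr, kr_mul, Matrix.one_mul, Matrix.mul_one])

theorem embG_rest (i : ι) (l : {j // j ≠ i}) (g : GL (Fin m) F) : embG (l : ι) g = krG i (embG l g) :=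
  Units.ext (by rw [embG_val, krG_val, embG_val, emb_rest])

variable [Finite F] {M : Subgroup (GL (ι → Fin m) F)} {i : ι} {c δ : Fin m → F}

namespace Setting

variable (hS : Setting G d M) (h : Hyp G c δ)

include hS h

set_option maxHeartbeats 800000 in
/-- An element whose commutators with the factor lie in `M` has a scalar middle part. -/
theorem center_of_comm (hns : ¬ Seed G d M) {x : GL (ι → Fin m) F}
    {β : (Fin m → F) → Matrix (Rest i m) (Rest i m) F} (hβ : HasBeta G i c x β)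
    (hx : ∀ g ∈ fgrp G d, embG i g * x * (embG i g)⁻¹ * x⁻¹ ∈ M) :
    ∃ v ∈ mid G c δ, ∃ b : Matrix (Rest i m) (Rest i m) F,
      ((x * embG i (sieG G c v) : GL (ι → Fin m) F) : Matrix (ι → Fin m) (ι → Fin m) F) = 1 + kr i (cen G c) b := by
  have hP := hS.par
  have hG := hP.form
  have hc := h.c_ne
  have hcc := h.c_iso
  have hβadd := fun {y z : Fin m → F} (hy : om G y c = 0) (hz : om G z c = 0) => hβ.map_add' hG hc hcc hy hz
  have hβsm := fun {y : Fin m → F} (hy : om G y c = 0) (k : F) => hβ.map_smul' hG hc hcc hy k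
  have hp3 : ∀ y, om G (proj3 G c δ y) c = 0 := fun y => (h.om_mid hG (proj3_mem hG h y)).1
  have hsplit : ∀ y, om G y c = 0 → β y = β (proj3 G c δ y) := fun y hy => by
    conv_lhs => rw [Hyp.proj3_eq (G := G) (c := c) (δ := δ) y, hy, zero_smul, add_zero,
      hβadd (by rw [om_smul_left, hcc, mul_zero]) (hp3 y), hβsm hcc, hβ.zero, smul_zero, zero_add]
  let L : (Fin m → F) →ₗ[F] Matrix (Rest i m) (Rest i m) F :=
    { toFun := fun y => β (proj3 G c δ y)
      map_add' := fun y z => by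
        rw [← hβadd (hp3 y) (hp3 z)]; congr 1
        simp only [proj3, om_add_left]; module
      map_smul' := fun k y => by
        rw [RingHom.id_apply, ← hβsm (hp3 y) k]; congr 1
        simp only [proj3, om_smul_left]; module }
  have hscal : ∀ y ∈ mid G c δ, ∃ s : F, β y = s • 1 := by
    intro y hy
    rcases eq_or_ne m 3 with hm | hm
    · obtain ⟨z, hz, hzz⟩ := h.exists_mid_aniso hP
      have hzc := (h.om_mid hG hz).1
      obtain ⟨t, ht, ht1⟩ := exists_sq_ne (hP.five hm)
      obtain ⟨τ, hτ, hτc, hτz⟩ := h.exists_torus hP ht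
      have hτG := fgrp_le hG hτ
      obtain ⟨s, hs⟩ := hS.typed_scalar h hns hz hzz (K := ((t * t - 1) / om G z z) • β z) (i := i)
        ⟨_, hx τ hτ, _, (hβ.conj hG hc hcc hτG (mul_ne_zero ht ht) hτc).mul hG hc hcc (hβ.inv hG hc hcc),
          fun w hw => by
          set w' := ((τ⁻¹ : GL (Fin m) F) : Matrix (Fin m) (Fin m) F) *ᵥ w
          have hτw : (τ : Matrix (Fin m) (Fin m) F) *ᵥ w' = w := by
            rw [mulVec_mulVec, Units.mul_inv, one_mulVec]
          have e1 : om G w' c = 0 := by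
            have := om_of_mem_spG hτG w' c
            rw [hτw, hτc, om_smul_right, hw, mul_zero] at this
            exact this.symm
          have e2 : ∀ v, om G v c = 0 → β v = (om G v z / om G z z) • β z := fun v hv => by
            obtain ⟨-, -, cz, dz⟩ := h.om_mid hG hz
            rw [hsplit v hv, h.mid_three hP hm hz hzz (proj3_mem hG h v), hβsm hzc]
            congr 1
            simp only [proj3, om_sub_left, om_smul_left, cz, dz]; ring
          have e3 : om G w' z = om G w z := by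
            have := om_of_mem_spG hτG w' z
            rw [hτw, hτz z hz] at this
            exact this.symm
          show (t * t) • β w' + -β w = _
          rw [e2 w' e1, e2 w hw, e3]
          module⟩
      refine ⟨om G y z / (t * t - 1) * s, ?_⟩
      conv_lhs => rw [h.mid_three hP hm hz hzz hy, hβsm hzc]
      rw [← smul_smul, ← hs, smul_smul]
      congr 1
      have := sub_ne_zero.2 ht1
      field_simp
      rw [mul_div_assoc, div_self (by rwa [sq]), mul_one]
    · have hm4 : 4 ≤ m := by have := hP.three; omega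
      let q := Submodule.mkQ (Submodule.span F {(1 : Matrix (Rest i m) (Rest i m) F)})
      have h1 : q (L y) = 0 := eq_zero_of_kap h hP hm4 (q.comp L) (fun f hf hk => ?_) hy
      · change q (β (proj3 G c δ y)) = 0 at h1
        rw [h.proj3_id hG hy, Submodule.mkQ_apply, Submodule.Quotient.mk_eq_zero,
          Submodule.mem_span_singleton] at h1
        obtain ⟨s, hs⟩ := h1
        exact ⟨s, hs.symm⟩
      · obtain ⟨fc, -, cf, -⟩ := h.om_mid hG hf
        have hrc : (refG G f : Matrix (Fin m) (Fin m) F) *ᵥ c = (1 : F) • c := by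
          rw [refG_val hk.ne, refM_fix cf, one_smul]
        obtain ⟨s, hs⟩ := hS.typed_scalar h hns hf hk.ne (K := (-(2 / om G f f)) • β f) (i := i)
          ⟨_, hx _ (refG_mem_fgrp hk), _,
            (hβ.conj hG hc hcc (refG_mem hG hk.ne) one_ne_zero hrc).mul hG hc hcc (hβ.inv hG hc hcc), fun w hw => by
            have e : (((refG G f)⁻¹ : GL (Fin m) F) : Matrix (Fin m) (Fin m) F) *ᵥ w =
                w + (-(2 / om G f f * om G w f)) • f := by
              rw [refG_inv hk.ne, refG_val hk.ne, refM_mulVec, neg_smul, ← sub_eq_add_neg]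
            show (1 : F) • β _ + -β w = _
            rw [e, one_smul, hβadd hw (by rw [om_smul_left, fc, mul_zero]), hβsm fc, smul_smul]
            module⟩
        show q (β (proj3 G c δ f)) = 0
        rw [h.proj3_id hG hf, Submodule.mkQ_apply, Submodule.Quotient.mk_eq_zero, Submodule.mem_span_singleton]
        refine ⟨(-(2 / om G f f))⁻¹ * s, ?_⟩
        rw [← smul_smul, ← hs, smul_smul, inv_mul_cancel₀ (neg_ne_zero.2 (div_ne_zero hG.two hk.ne)), one_smul]
  choose! σ hσ using hscal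
  let p0 : Rest i m := fun _ => ⟨0, by have := hP.three; omega⟩
  let φ : (Fin m → F) →ₗ[F] F :=
    { toFun := fun y => L y p0 p0
      map_add' := fun y z => by rw [map_add]; rfl
      map_smul' := fun k y => by rw [map_smul]; rfl }
  obtain ⟨v, hv⟩ := hG.exists_axis fun k => φ (Pi.single k 1)
  have hvφ : ∀ y, om G y v = φ y := fun y => by
    rw [om, hv]
    conv_rhs => rw [show y = ∑ k, y k • (Pi.single k 1 : Fin m → F) by
      funext r; simp [Finset.sum_apply, Pi.single_apply], map_sum]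
    simp only [map_smul, smul_eq_mul]
    rfl
  have hval : ∀ y ∈ mid G c δ, β y = om G y v • 1 := fun y hy => by
    have e : φ y = σ y := by
      show β (proj3 G c δ y) p0 p0 = _
      rw [h.proj3_id hG hy, hσ y hy]
      simp
    rw [hvφ, e, hσ y hy]
  have hvm : v ∈ mid G c δ := by
    rw [mem_mid hG, hG.comm v c, hG.comm v δ, hvφ, hvφ]
    have hz : β 0 = 0 := by simpa using hβsm hcc 0
    constructor
    · show β (proj3 G c δ c) p0 p0 = 0
      rw [h.proj3_c hG, hz]; rfl
    · show β (proj3 G c δ δ) p0 p0 = 0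
      rw [h.proj3_d hG, hz]; rfl
  obtain ⟨vc, -, cv, dv⟩ := h.om_mid hG hvm
  refine ⟨v, hvm, ?_⟩
  have hu : HasBeta G i c (embG i (sieG G c v))
      (fun y => (-om G y v) • (1 : Matrix (Rest i m) (Rest i m) F)) := by
    refine ⟨isIso_embG i (sieG_mem hG hcc vc), by rw [cv, neg_zero, zero_smul], fun y hy u => ?_⟩
    rw [embG_val, emb_mulVec_lift, sieG_val hG hcc vc, sieM_mulVec, hy, zero_smul, add_zero, mul_zero, zero_smul,
      sub_zero, sub_eq_add_neg, ← neg_smul, lift_add_left, lift_smul_left, smul_mulVec, one_mulVec, map_smul]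
  have hprod := hβ.mul hG hc hcc hu
  obtain ⟨b, -, hb⟩ := center_of_fix hG hprod.iso hc hcc fun y hy u => by
    rw [hprod.act y hy]
    have e2 : om G (proj3 G c δ y) v = om G y v := by
      simp only [proj3, om_sub_left, om_smul_left, cv, dv]; ring
    rw [hsplit y hy, hval _ (proj3_mem hG h y), e2, ← add_smul, add_neg_cancel, zero_smul, zero_mulVec, map_zero,
      add_zero]
  exact ⟨b, hb⟩

theorem sie_sq_eq_one {z : Fin m → F} (hz : z ∈ mid G c δ) (l : ι)
    (hsq : embG l (sieG G c z) * embG l (sieG G c z) = (1 : GL (ι → Fin m) F)) : z = 0 := by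
  have : NeZero m := ⟨by have := hS.par.three; omega⟩
  have hG := hS.par.form
  have hzz : z + z ∈ mid G c δ := Submodule.add_mem _ hz hz
  have zc := (h.om_mid hG hz).1
  rw [← map_mul, sieG_mul hG h.c_iso zc zc, ← map_one (embG (F := F) (m := m) l)] at hsq
  have h2 := congrArg (fun g : GL (Fin m) F => proj3 G c δ ((g : Matrix (Fin m) (Fin m) F) *ᵥ δ))
    (embG_injective l hsq)
  simp only [(h.sieG_apply hG hzz).2.1, Units.val_one, one_mulVec, proj3, om_add_left, om_sub_left, om_smul_left,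
    h.d_iso, h.dc, h.cd hG, h.c_iso, zc, (h.om_mid hG hz).2.1] at h2
  refine smul_right_injective _ hG.two ?_
  linear_combination (norm := module) h2

end Setting

/-- The operators on the other factors induced by the stabiliser of a block. -/
def stabImage (M : Subgroup (GL (ι → Fin m) F)) (i : ι) (c : Fin m → F) : Subgroup (GL (Rest i m) F) where
  carrier := {ψ | ∃ y ∈ M, ∀ u, (y : Matrix (ι → Fin m) (ι → Fin m) F) *ᵥ lift i c u =
    lift i c ((ψ : Matrix (Rest i m) (Rest i m) F) *ᵥ u)}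
  one_mem' := ⟨1, M.one_mem, fun u => by simp⟩
  mul_mem' := by
    rintro a b ⟨y, hy, ha⟩ ⟨y', hy', hb⟩
    exact ⟨y * y', M.mul_mem hy hy', fun u => by
      rw [Units.val_mul, Units.val_mul, ← mulVec_mulVec, hb, ha, mulVec_mulVec]⟩
  inv_mem' := by
    rintro a ⟨y, hy, ha⟩
    refine ⟨y⁻¹, M.inv_mem hy, fun u => mulVec_injective_iff_isUnit.mpr y.isUnit ?_⟩
    show (y : Matrix (ι → Fin m) (ι → Fin m) F) *ᵥ _ = (y : Matrix (ι → Fin m) (ι → Fin m) F) *ᵥ _
    rw [ha, mulVec_mulVec, mulVec_mulVec, Units.mul_inv, Units.mul_inv, one_mulVec, one_mulVec]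

namespace Setting

variable (hS : Setting G d M) (h : Hyp G c δ)

include hS h

theorem stabImage_setting (hns : ¬ Seed G d M) : Setting G d (stabImage M i c) where
  par := hS.par
  sim := by
    rintro ψ ⟨y, hy, ha⟩
    obtain ⟨T, ψ', hsh, hψ⟩ := hS.exists_shape h hns hy fun u => ha u ▸ lift_mem_block i c _
    have e : ψ = ψ' := Units.ext (Matrix.ext_of_mulVec_single fun q =>
      lift_injective (i := i) h.c_ne (by rw [← ha, hsh.axis]))
    exact e ▸ hψ
  refl l e he := ⟨_, hS.refl (l : ι) e he, (shape_embG (G := G) (c := c) (δ := δ) l (refG G e)).axis⟩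
  sieg l c' z hc hz := ⟨_, hS.sieg (l : ι) c' z hc hz, (shape_embG (G := G) (c := c) (δ := δ) l (sieG G c' z)).axis⟩

/-- A stabiliser with image in the wreath group. -/
theorem mem_wreath_of_shape (hns : ¬ Seed G d M) {y : GL (ι → Fin m) F} (hy : y ∈ M)
    {T : (Fin m → F) → Fin m → F} {ψ : GL (Rest i m) F} (hsh : Shape G i c δ y T ψ)
    (hψ : ψ ∈ gsim {j // j ≠ i} G) (hW : ψ ∈ wreath {j // j ≠ i} m F) : y ∈ wreath ι m F := by
  classical
  have hP := hS.par
  have hG := hP.form
  have : NeZero m := ⟨by have := hP.three; omega⟩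
  obtain ⟨σ, gs, hgs⟩ := hW
  have hsim : ∀ l, IsSim G (gs (σ l)) := fun l => isSim_of_conj hP fun e he => by
    have h1 := TWSp.isIso_conj hψ (isIso_embG l (refG_mem hG he.ne))
    rw [hgs, conj_perm] at h1
    exact spG_of_isIso_embG hG h1
  set σ' : Equiv.Perm ι := Equiv.Perm.ofSubtype σ
  set gs' : ι → GL (Fin m) F := fun k => if hk : k = i then 1 else gs ⟨k, hk⟩
  set w := PtG gs' * pmG σ'
  have hσ' : ∀ l : {j // j ≠ i}, σ' (l : ι) = (σ l : ι) := fun l => Equiv.Perm.ofSubtype_apply_coe σ l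
  have hgs' : ∀ l : {j // j ≠ i}, gs' (l : ι) = gs l := fun l => dif_neg l.2
  have hconj : ∀ (l : {j // j ≠ i}) e, Kap G d e →
      w⁻¹ * y * embG (l : ι) (refG G e) = embG (l : ι) (refG G e) * (w⁻¹ * y) := by
    intro l e he
    obtain ⟨her, hek⟩ := (hsim l).conj_refG hP he
    set r' := refG G ((gs (σ l) : Matrix (Fin m) (Fin m) F) *ᵥ e)
    set dd := embG (l : ι) (refG G e) with hdd
    set dd' := embG (σ l : ι) r' with hdd'
    have ha : Shape G i c δ (y * dd) T (ψ * embG l (refG G e)) := hsh.mul (shape_embG l (refG G e))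
    have hb : Shape G i c δ (dd' * y) T (ψ * embG l (refG G e)) := by
      have h1 := (shape_embG (G := G) (c := c) (δ := δ) (σ l) r').mul hsh
      rw [show embG (σ l) r' * ψ = ψ * embG l (refG G e) by
        rw [show r' = gs (σ l) * refG G e * (gs (σ l))⁻¹ from her.symm, hgs, ← conj_perm, inv_mul_cancel_right]] at h1
      exact h1
    have hq := ha.quot hb
    rw [mul_inv_cancel] at hq
    have he' : y * dd * (dd' * y)⁻¹ = y * dd * y⁻¹ * dd'⁻¹ := by group
    rw [he'] at hq
    have hiso : IsIso G (y * dd * y⁻¹ * dd'⁻¹) :=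
      (TWSp.isIso_conj (hS.sim hy) (isIso_embG _ (refG_mem hG he.ne))).mul
        (isIso_embG _ (refG_mem hG hek.ne)).inv
    obtain ⟨β, hβ⟩ := hq.hasBeta hG h hiso
    obtain ⟨v, hv, hxv⟩ := hS.rad_eq h hns
      (M.mul_mem (M.mul_mem (M.mul_mem hy (hS.refl _ e he)) (M.inv_mem hy)) (M.inv_mem (hS.refl _ _ hek))) hβ
    have hx : y * dd * y⁻¹ = embG i (sieG G c v) * dd' := by rw [← hxv, inv_mul_cancel_right]
    have hcomm : embG i (sieG G c v) * dd' = dd' * embG i (sieG G c v) := embG_comm (Ne.symm (σ l).2) _ _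
    have hsq : (embG i (sieG G c v) * dd') * (embG i (sieG G c v) * dd') = 1 := by
      rw [← hx]
      have : dd * dd = 1 := by rw [hdd, ← map_mul, refG_sq he.ne, map_one]
      calc y * dd * y⁻¹ * (y * dd * y⁻¹) = y * (dd * dd) * y⁻¹ := by group
        _ = 1 := by rw [this, mul_one, mul_inv_cancel]
    have hv0 : v = 0 := by
      refine hS.sie_sq_eq_one h hv i ?_
      have hd2 : dd' * dd' = 1 := by rw [hdd', ← map_mul, refG_sq hek.ne, map_one]
      calc embG i (sieG G c v) * embG i (sieG G c v)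
          = embG i (sieG G c v) * (embG i (sieG G c v) * (dd' * dd')) := by rw [hd2, mul_one]
        _ = (embG i (sieG G c v) * dd') * (embG i (sieG G c v) * dd') := by
          conv_lhs => rw [← mul_assoc (embG i (sieG G c v)) dd' dd', hcomm]
          simp only [mul_assoc]
        _ = 1 := hsq
    rw [hv0, sieG_zero hG h.c_iso, map_one, one_mul] at hx
    have hw' : w * dd * w⁻¹ = dd' := by
      rw [hdd, conj_perm, hσ', hgs', hdd', show r' = gs (σ l) * refG G e * (gs (σ l))⁻¹ from her.symm]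
    rw [← hw'] at hx
    calc w⁻¹ * y * dd = w⁻¹ * (y * dd * y⁻¹) * y := by group
      _ = w⁻¹ * (w * dd * w⁻¹) * y := by rw [hx]
      _ = dd * (w⁻¹ * y) := by group
  have hall : ∀ g : GL (ι → Fin m) F,
      (∀ (l : {j // j ≠ i}) e, Kap G d e → g * embG (l : ι) (refG G e) = embG (l : ι) (refG G e) * g) →
      ∃ A, (g : Matrix (ι → Fin m) (ι → Fin m) F) = emb i A := by
    intro g hg
    refine exists_emb_of_comm i fun l hl X => ?_
    obtain ⟨K, hK⟩ := exists_kr_of_comm_refl hP l (C := (g : Matrix (ι → Fin m) (ι → Fin m) F)) fun e he => by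
      have h1 := congrArg Units.val (hg ⟨l, hl⟩ e he)
      simpa only [Units.val_mul, embG_val, refG_val he.ne] using h1
    rw [hK, emb_eq_kr, kr_mul, kr_mul, Matrix.one_mul, Matrix.mul_one, Matrix.one_mul, Matrix.mul_one]
  obtain ⟨A, hA⟩ := hall (w⁻¹ * y) hconj
  obtain ⟨A', hA'⟩ := hall (w⁻¹ * y)⁻¹ fun l e he => by
    exact (Commute.inv_left (show Commute (w⁻¹ * y) (embG (l : ι) (refG G e)) from hconj l e he)).eq
  have hAA : A * A' = 1 := emb_injective (ι := ι) i (by
    rw [emb_mul, ← hA, ← hA', Units.mul_inv, emb_one])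
  have hAA' : A' * A = 1 := mul_eq_one_comm.1 hAA
  have e : y = w * embG i ⟨A, A', hAA, hAA'⟩ := by
    have h2 : w⁻¹ * y = embG i ⟨A, A', hAA, hAA'⟩ := Units.ext (by rw [hA, embG_val])
    rw [← h2, mul_inv_cancel_left]
  rw [e]
  exact (wreath ι m F).mul_mem ⟨σ', gs', rfl⟩ (embG_mem _ _)

omit h in
/-- The image of a stabiliser contains no seed: the first step. -/
theorem exists_neg_torus {c' δ' f : Fin m → F} (h' : Hyp G c' δ') (hf : f ∈ mid G c' δ') (hff : om G f f ≠ 0)
    (hk : m = 3 ∨ Kap G d f) (hall : ∀ s : F, s ≠ 0 → s * s * (s * s) = 1) :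
    ∃ g ∈ fgrp G d, ∃ ε : F, ε * ε = 1 ∧ (g : Matrix (Fin m) (Fin m) F) *ᵥ c' = ε • c' ∧
      (∀ v ∈ mid G c' δ', (g : Matrix (Fin m) (Fin m) F) *ᵥ v ∈ mid G c' δ') ∧
      adM g (wedge G f c') = -wedge G f c' := by
  have hP := hS.par
  have hG := hP.form
  rcases em (m = 3) with hm | hm
  · obtain ⟨t, ht, ht1⟩ := exists_sq_ne (hP.five hm)
    obtain ⟨τ, hτ, hτc, hτz⟩ := h'.exists_torus hP ht
    have he : t * t = -1 := (mul_self_eq_one_iff.1 (hall t ht)).resolve_left ht1
    refine ⟨τ, hτ, -1, by ring, by rw [hτc, he], fun v hv => by rw [hτz v hv]; exact hv, ?_⟩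
    rw [adM_wedge hG (fgrp_le hG hτ), hτz f hf, hτc, he, neg_one_smul, wedge_eq_dyad, wedge_eq_dyad]
    rw [← neg_one_smul F c', dyad_smul_left, dyad_smul_right]
    module
  · have hkf := hk.resolve_left hm
    obtain ⟨fc, -, cf, -⟩ := h'.om_mid hG hf
    refine ⟨refG G f, refG_mem_fgrp hkf, 1, one_mul 1, by rw [refG_val hff, refM_fix cf, one_smul],
      fun v hv => ?_, ?_⟩
    · rw [refG_val hff, refM_mulVec]
      exact Submodule.sub_mem _ hv (Submodule.smul_mem _ _ hf)
    · rw [adM_wedge hG (refG_mem hG hff), refG_val hff, refM_self hff, refM_fix cf, ← neg_one_smul F f,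
        wedge_smul_left, neg_one_smul]

set_option maxHeartbeats 3200000 in
/-- The image of a stabiliser contains no seed. -/
theorem stabImage_noSeed (hns : ¬ Seed G d M) : ¬ Seed G d (stabImage M i c) := by
  classical
  rintro ⟨a, b, c', δ', f, h', hf, hff, hfk, s, ⟨y, hy, hya⟩, hs⟩
  have hP := hS.par
  have hG := hP.form
  have h2 := hG.two
  have : NeZero m := ⟨by have := hP.three; omega⟩
  obtain ⟨T, ψ, hsh, -⟩ := hS.exists_shape h hns hy fun u => hya u ▸ lift_mem_block i c _
  have hψs : ψ = s := Units.ext (Matrix.ext_of_mulVec_single fun q =>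
    lift_injective (i := i) h.c_ne (by rw [← hya, hsh.axis]))
  subst hψs
  obtain ⟨fc, -, cf, -⟩ := h'.om_mid hG hf
  set W := wedge G f c' with hW
  set N : Matrix (Rest i m) (Rest i m) F := kr a (cen G c') (emb b W) with hN
  have hNN : N * N = 0 := by rw [hN, kr_mul, cen_sq h'.c_iso, TWSp.kr_zero_left]
  -- the scaling element in the factor `b`
  obtain ⟨g, hg, μ, hμ, hgW⟩ : ∃ g ∈ fgrp G d, ∃ μ : F, μ ≠ 1 ∧ adM g W = μ • W := by
    rcases em (m = 3) with hm | hm
    · obtain ⟨t, ht, ht1⟩ := exists_sq_ne (hP.five hm)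
      obtain ⟨τ, hτ, hτc, hτz⟩ := h'.exists_torus hP ht
      refine ⟨τ, hτ, t * t, ht1, ?_⟩
      rw [hW, adM_wedge hG (fgrp_le hG hτ), hτz f hf, hτc, wedge_eq_dyad, wedge_eq_dyad, dyad_smul_left,
        dyad_smul_right, smul_sub]
    · have hkf := hfk.resolve_left hm
      refine ⟨refG G f, refG_mem_fgrp hkf, -1, fun e => h2 (by linear_combination -e), ?_⟩
      rw [hW, adM_wedge hG (refG_mem hG hff), refG_val hff, refM_self hff, refM_fix cf, ← neg_one_smul F f,
        wedge_smul_left]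
  set k : F := 1 - μ with hk
  have hk0 : k ≠ 0 := sub_ne_zero.2 (Ne.symm hμ)
  have hsN : ∀ t : F, (1 + t • N) * (1 - t • N) = 1 := fun t => by
    rw [add_mul, one_mul, mul_sub, mul_one, Matrix.smul_mul, Matrix.mul_smul, hNN, smul_zero, smul_zero, sub_zero,
      sub_add_cancel]
  have hsN' : ∀ t : F, (1 - t • N) * (1 + t • N) = 1 := fun t => mul_eq_one_comm.1 (hsN t)
  set s' : GL (Rest i m) F := ⟨1 + k • N, 1 - k • N, hsN k, hsN' k⟩ with hs'
  set bb : {j // j ≠ i} := (b : {j // j ≠ i})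
  have hsval : (ψ : Matrix (Rest i m) (Rest i m) F) = 1 + (1 : F) • N := by rw [hs, one_smul]
  have hcomm : ψ * embG bb g * (embG bb g * ψ)⁻¹ = s' := by
    have e1 : ψ * embG bb g * (embG bb g * ψ)⁻¹ = ψ * (embG bb g * ψ * (embG bb g)⁻¹)⁻¹ := by group
    refine Units.ext ?_
    rw [e1, Units.val_mul]
    have e2 : ((embG bb g * ψ * (embG bb g)⁻¹ : GL (Rest i m) F) : Matrix (Rest i m) (Rest i m) F) = 1 + μ • N := by
      rw [Units.val_mul, Units.val_mul, hs, mul_add, add_mul, mul_one, Units.mul_inv, ← adM_apply,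
        adM_kr_rest a b g, ← TWSp.kr_smul_right]
      congr 2
      rw [adM_apply, ← map_inv, embG_val, embG_val, ← emb_mul, ← emb_mul, ← adM_apply, hgW, emb_smul]
    rw [Units.inv_eq_of_mul_eq_one_right (a := 1 - μ • N) (by rw [e2, hsN]), hsval]
    show _ = 1 + k • N
    rw [hk]
    simp only [add_mul, mul_sub, mul_one, one_mul, Matrix.smul_mul, Matrix.mul_smul, hNN, smul_zero, sub_zero]
    module
  -- the first commutator
  set y' := y * embG (bb : ι) g * (embG (bb : ι) g * y)⁻¹ with hy'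
  have hy'M : y' ∈ M := M.mul_mem (M.mul_mem hy (hS.mem _ hg)) (M.inv_mem (M.mul_mem (hS.mem _ hg) hy))
  have hsh' : Shape G i c δ y' id s' := by
    have h1 : Shape G i c δ (y * embG (bb : ι) g) T (ψ * embG bb g) := hsh.mul (shape_embG bb g)
    have h2 : Shape G i c δ (embG (bb : ι) g * y) T (embG bb g * ψ) :=
      (shape_embG (G := G) (c := c) (δ := δ) bb g).mul hsh
    have := h1.quot h2
    rwa [hcomm] at this
  have hy'iso : IsIso G y' := by
    have e : y' = y * embG (bb : ι) g * y⁻¹ * (embG (bb : ι) g)⁻¹ := by rw [hy']; group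
    rw [e]
    exact (TWSp.isIso_conj (hS.sim hy) (isIso_embG _ (fgrp_le hG hg))).mul (isIso_embG _ (fgrp_le hG hg)).inv
  -- split off the operator on the other factors
  set hh := krG i s' with hhh
  have hadjN : adj (gram {j // j ≠ i} G) N = -N := by
    have e : N = emb a (cen G c') * emb (b : {j // j ≠ i}) W := by
      rw [hN, kr_emb]
    have hab : (b : {j // j ≠ i}) ≠ a := b.2
    rw [e, adj_mul (oForm_det hG), adj_emb hG, adj_emb hG, hW, hG.adj_wedge, hG.adj_cen, ← emb_comm hab,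
      ← neg_one_smul F (wedge G f c'), emb_smul, Matrix.smul_mul, neg_one_smul]
  have hhiso : IsIso G hh := by
    set J := gram {j // j ≠ i} G
    have hJ : IsUnit J.det := oForm_det hG
    rw [IsIso, hhh, krG_val, TWSp.gram_eq_kr G i, TWSp.kr_transpose, transpose_one, kr_mul, kr_mul, Matrix.one_mul,
      Matrix.mul_one]
    congr 1
    show (1 + k • N)ᵀ * J * (1 + k • N) = J
    have e : J * adj J (1 + k • N) = (1 + k • N)ᵀ * J := by
      rw [adj, ← Matrix.mul_assoc, ← Matrix.mul_assoc, mul_nonsing_inv J hJ, Matrix.one_mul]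
    rw [← e, Matrix.mul_assoc, TWSp.adj_add, adj_one hJ, adj_smul, hadjN, smul_neg, ← sub_eq_add_neg, hsN', mul_one]
  have hhsh : Shape G i c δ hh id s' := by
    refine ⟨fun u => ?_, fun _ h => h, Set.injOn_id _, fun w _ u => ⟨0, ?_⟩⟩
    · rw [hhh, krG_val, kr_mulVec_lift, one_mulVec]
    · rw [hhh, krG_val, kr_mulVec_lift, one_mulVec, map_zero, add_zero]; rfl
  have hxsh := hsh'.quot hhsh
  rw [mul_inv_cancel] at hxsh
  obtain ⟨β, hβ⟩ := hxsh.hasBeta hG h (hy'iso.mul hhiso.inv)
  obtain ⟨v, hv, B, hB⟩ := hS.center_of_comm h hns hβ fun g0 hg0 => by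
    have hc0 : embG i g0 * hh = hh * embG i g0 := embG_comm_krG i g0 s'
    have e : embG i g0 * (y' * hh⁻¹) * (embG i g0)⁻¹ * (y' * hh⁻¹)⁻¹ =
        embG i g0 * y' * (embG i g0)⁻¹ * y'⁻¹ := by
      calc embG i g0 * (y' * hh⁻¹) * (embG i g0)⁻¹ * (y' * hh⁻¹)⁻¹
          = embG i g0 * y' * (hh⁻¹ * (embG i g0)⁻¹ * hh) * y'⁻¹ := by group
        _ = embG i g0 * y' * ((embG i g0 * hh)⁻¹ * hh) * y'⁻¹ := by group
        _ = embG i g0 * y' * ((hh * embG i g0)⁻¹ * hh) * y'⁻¹ := by rw [hc0]
        _ = _ := by group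
    rw [e]
    exact M.mul_mem (M.mul_mem (M.mul_mem (hS.mem i hg0) hy'M) (M.inv_mem (hS.mem i hg0))) (M.inv_mem hy'M)
  -- the second element
  set y'' := y' * embG i (sieG G c v) with hy''
  have hy''M : y'' ∈ M := M.mul_mem hy'M (hS.sieg i c v h.c_iso (h.om_mid hG hv).1)
  have hy''e : y'' = y' * hh⁻¹ * embG i (sieG G c v) * hh := by
    rw [mul_assoc _ (embG i (sieG G c v)) hh, embG_comm_krG i _ s', ← hhh, ← mul_assoc, inv_mul_cancel_right]
  set zz := y' * hh⁻¹ * embG i (sieG G c v) with hzz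
  set CC := cenSub (G := G) (c := c) M i h.c_iso
  have hzinv : ((zz⁻¹ : GL (ι → Fin m) F) : Matrix (ι → Fin m) (ι → Fin m) F) = 1 + kr i (cen G c) (-B) := by
    refine Units.inv_eq_of_mul_eq_one_right ?_
    rw [hB, add_mul, one_mul, mul_add, mul_one, kr_mul, cen_sq h.c_iso, TWSp.kr_zero_left, add_zero,
      TWSp.kr_neg_right, neg_add_cancel_right]
  have hhN : (hh : Matrix (ι → Fin m) (ι → Fin m) F) = 1 + k • kr i 1 N := by
    rw [hhh, krG_val]
    show kr i 1 (1 + k • N) = _
    rw [TWSp.kr_add_right, TWSp.kr_one, TWSp.kr_smul_right]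
  by_cases hs4 : ∃ t : F, t ≠ 0 ∧ t * t * (t * t) ≠ 1
  · obtain ⟨t, ht, ht1⟩ := hs4
    obtain ⟨τ, hτ, hτc, -⟩ := h.exists_torus hP ht
    have hτh : embG i τ * hh = hh * embG i τ := embG_comm_krG i τ s'
    have hmem : (t * t * (t * t) - 1) • B ∈ CC := by
      refine ⟨embG i τ * y'' * (embG i τ)⁻¹ * y''⁻¹, M.mul_mem (M.mul_mem (M.mul_mem (hS.mem i hτ) hy''M)
        (M.inv_mem (hS.mem i hτ))) (M.inv_mem hy''M), ?_⟩
      have e : embG i τ * y'' * (embG i τ)⁻¹ * y''⁻¹ = embG i τ * zz * (embG i τ)⁻¹ * zz⁻¹ := by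
        rw [hy''e]
        calc embG i τ * (zz * hh) * (embG i τ)⁻¹ * (zz * hh)⁻¹
            = embG i τ * zz * (hh * (embG i τ)⁻¹ * hh⁻¹) * zz⁻¹ := by group
          _ = embG i τ * zz * (hh * (hh * embG i τ)⁻¹) * zz⁻¹ := by group
          _ = embG i τ * zz * (hh * (embG i τ * hh)⁻¹) * zz⁻¹ := by rw [hτh]
          _ = _ := by group
      rw [e, Units.val_mul, Units.val_mul, Units.val_mul, hB, hzinv, ← adM_apply, map_add, adM_one_right,
        adM_kr, adM_cen (fgrp_le hG hτ), hτc, cen_smul, TWSp.kr_smul_left, add_mul, one_mul,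
        Matrix.smul_mul, mul_add, mul_one, kr_mul, cen_sq h.c_iso, TWSp.kr_zero_left, add_zero, TWSp.kr_smul_right,
        TWSp.kr_neg_right]
      module
    have hB0 : B = 0 := (smul_eq_zero.1 (hS.cen_zero h hns hmem)).resolve_left (sub_ne_zero.2 ht1)
    rw [hB0, TWSp.kr_zero_right, add_zero] at hB
    have hz1 : zz = 1 := Units.ext hB
    have hhM : hh ∈ M := by
      have := hy''M
      rwa [hy''e, hz1, one_mul] at this
    have hbne : ((b : {j // j ≠ i}) : ι) ≠ ((a : {j // j ≠ i}) : ι) := fun e => b.2 (Subtype.ext e)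
    refine hns ⟨(a : ι), ⟨((b : {j // j ≠ i}) : ι), hbne⟩, c', δ', k • f, h', Submodule.smul_mem _ _ hf, ?_, ?_,
      hh, hhM, ?_⟩
    · rw [om_smul_left, om_smul_right]
      exact mul_ne_zero hk0 (mul_ne_zero hk0 hff)
    · exact hfk.imp_right fun hkf => hkf.smul hk0
    · rw [hhN, wedge_smul_left, emb_smul, TWSp.kr_smul_right, ← hW]
      congr 2
      rw [kr_emb, emb_rest i a, emb_rest i (b : {j // j ≠ i}), kr_mul, Matrix.mul_one, hN, kr_emb]
  push Not at hs4
  obtain ⟨g0, hg0, ε, hε, hg0c, hg0m, hg0W⟩ := hS.exists_neg_torus h' hf hff hfk hs4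
  -- elements commuting with `s'`
  have hfix : ∀ (l : {j // j ≠ i}) (x : GL (Fin m) F), x ∈ fgrp G d → adM (embG l x) N = N →
      adM (embG l x) B = B := by
    intro l x hx hxN
    have hxs : embG l x * s' = s' * embG l x := Units.ext (by
      rw [Units.val_mul, Units.val_mul]
      show _ * (1 + k • N) = (1 + k • N) * _
      rw [mul_add, add_mul, mul_one, one_mul, Matrix.mul_smul, Matrix.smul_mul, eq_of_adM hxN])
    have hxh : embG (l : ι) x * hh = hh * embG (l : ι) x := by
      rw [hhh, embG_rest, ← map_mul, ← map_mul, hxs]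
    have hmem : adM (embG l x) B - B ∈ CC := by
      refine ⟨embG (l : ι) x * y'' * (embG (l : ι) x)⁻¹ * y''⁻¹, M.mul_mem (M.mul_mem (M.mul_mem (hS.mem _ hx) hy''M)
        (M.inv_mem (hS.mem _ hx))) (M.inv_mem hy''M), ?_⟩
      have e : embG (l : ι) x * y'' * (embG (l : ι) x)⁻¹ * y''⁻¹ =
          embG (l : ι) x * zz * (embG (l : ι) x)⁻¹ * zz⁻¹ := by
        rw [hy''e]
        calc embG (l : ι) x * (zz * hh) * (embG (l : ι) x)⁻¹ * (zz * hh)⁻¹
            = embG (l : ι) x * zz * (hh * (hh * embG (l : ι) x)⁻¹) * zz⁻¹ := by group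
          _ = embG (l : ι) x * zz * (hh * (embG (l : ι) x * hh)⁻¹) * zz⁻¹ := by rw [hxh]
          _ = _ := by group
      rw [e, Units.val_mul, Units.val_mul, Units.val_mul, hB, hzinv, ← adM_apply, map_add, adM_one_right,
        adM_kr_rest, add_mul, one_mul, mul_add, mul_one, kr_mul, cen_sq h.c_iso, TWSp.kr_zero_left,
        add_zero, TWSp.kr_neg_right, TWSp.kr_sub_right]
      abel
    exact sub_eq_zero.1 (hS.cen_zero h hns hmem)
  have hNb : ∀ x : GL (Fin m) F, adM x W = W → adM (embG bb x) N = N := fun x hx => by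
    rw [hN, adM_kr_rest, adM_apply, ← map_inv, embG_val, embG_val, ← emb_mul, ← emb_mul, ← adM_apply, hx]
  have hNa : ∀ x : GL (Fin m) F, adM x (cen G c') = cen G c' → adM (embG a x) N = N := fun x hx => by
    rw [hN, adM_kr, hx]
  have huW : ∀ z ∈ mid G c' δ', adM (sieG G c' z) W = W ∧ adM (sieG G c' z) (cen G c') = cen G c' := by
    intro z hz
    have zc := (h'.om_mid hG hz).1
    obtain ⟨u1, -, u3⟩ := h'.sieG_apply hG hz
    refine ⟨?_, by rw [adM_cen (sieG_mem hG h'.c_iso zc), u1]⟩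
    rw [hW, adM_wedge hG (sieG_mem hG h'.c_iso zc), u1, u3 f hf, wedge_sub_left, wedge_smul_left, wedge_self,
      smul_zero, sub_zero]
  have hform : ∀ (l : {j // j ≠ i}), (l = a ∨ l = bb) → ∀ r q, ent l B r q =
      om G (ent l B r q *ᵥ δ') c' • 1 + om G (ent l B r q *ᵥ δ') δ' • cen G c' +
        wedge G (proj3 G c' δ' (ent l B r q *ᵥ δ')) c' := fun l hl r q => by
    refine h'.fix_form hG _ (fun z hz => ?_) (h'.exists_mid_aniso hP)
    have zc := (h'.om_mid hG hz).1
    have h1 : adM (embG l (sieG G c' z)) B = B := by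
      refine hfix l _ (sieG_mem_fgrp h'.c_iso zc) ?_
      rcases hl with rfl | rfl
      · exact hNa _ (huW z hz).2
      · exact hNb _ (huW z hz).1
    have h2 := eq_of_adM (g := sieG G c' z) (X := ent l B r q) (Y := ent l B r q)
      (by rw [← ent_adM]; exact congrArg (fun A => ent l A r q) h1)
    rwa [sieG_val hG h'.c_iso zc] at h2
  have hcW : cen G c' * W = 0 ∧ W * cen G c' = 0 := by
    rw [hW, wedge_eq_dyad, ← dyad_self]
    simp only [mul_sub, sub_mul, dyad_mul_dyad, fc, cf, h'.c_iso, zero_smul, sub_zero, and_self]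
  have hvW : ∀ v ∈ mid G c' δ', wedge G v c' * W = W * wedge G v c' ∧ wedge G v c' * cen G c' = 0 ∧
      cen G c' * wedge G v c' = 0 := by
    intro v hv
    obtain ⟨vc, -, cv, -⟩ := h'.om_mid hG hv
    rw [hW, wedge_eq_dyad, wedge_eq_dyad, ← dyad_self]
    simp only [mul_sub, sub_mul, dyad_mul_dyad, fc, cf, vc, cv, h'.c_iso, zero_smul, sub_zero, and_self, and_true]
    rw [hG.comm v f]
  have hBN : B * N = N * B := by
    have e : N = emb a (cen G c') * emb bb W := by
      rw [hN, kr_emb]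
    have c1 : B * emb a (cen G c') = emb a (cen G c') * B := ext_ent (j := a) fun r q => by
      rw [ent_mul_emb, ent_emb_mul, hform a (Or.inl rfl) r q]
      obtain ⟨-, h3, h4⟩ := hvW _ (proj3_mem hG h' (ent a B r q *ᵥ δ'))
      simp only [add_mul, mul_add, Matrix.smul_mul, Matrix.mul_smul, one_mul, mul_one, h3, h4]
    have c2 : B * emb bb W = emb bb W * B := ext_ent (j := bb) fun r q => by
      rw [ent_mul_emb, ent_emb_mul, hform bb (Or.inr rfl) r q]
      obtain ⟨h3, -⟩ := hvW _ (proj3_mem hG h' (ent bb B r q *ᵥ δ'))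
      simp only [add_mul, mul_add, Matrix.smul_mul, Matrix.mul_smul, one_mul, mul_one, h3, hcW.1, hcW.2]
    rw [e, ← mul_assoc, c1, mul_assoc, c2, ← mul_assoc]
  -- the inverting element
  have hg0N : adM (embG bb g0) N = -N := by
    rw [hN, adM_kr_rest, adM_apply, ← map_inv, embG_val, embG_val, ← emb_mul, ← emb_mul, ← adM_apply, hg0W,
      ← neg_one_smul F W, emb_smul, TWSp.kr_smul_right, neg_one_smul]
  have hneg : adM (embG bb g0) B = -B := by
    have hmem : adM (embG bb g0) B + B ∈ CC := by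
      refine ⟨embG (bb : ι) g0 * y'' * (embG (bb : ι) g0)⁻¹ * y'', M.mul_mem (M.mul_mem (M.mul_mem (hS.mem _ hg0) hy''M)
        (M.inv_mem (hS.mem _ hg0))) hy''M, ?_⟩
      have e1 : embG (bb : ι) g0 * hh * (embG (bb : ι) g0)⁻¹ = hh⁻¹ := by
        rw [hhh, embG_rest, ← map_inv, ← map_mul, ← map_mul, ← map_inv]
        refine congrArg (krG i) ?_
        refine Units.ext ?_
        rw [Units.val_mul, Units.val_mul]
        show _ * (1 + k • N) * _ = 1 - k • N
        rw [mul_add, add_mul, mul_one, map_inv, Units.mul_inv, Matrix.mul_smul, Matrix.smul_mul, ← adM_apply, hg0N,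
          smul_neg, sub_eq_add_neg]
      have e2 : hh * zz = zz * hh := Units.ext (by
        rw [Units.val_mul hh zz, Units.val_mul zz hh, hB, hhN]
        simp only [mul_add, add_mul, one_mul, mul_one, Matrix.smul_mul, Matrix.mul_smul, kr_mul, Matrix.one_mul,
          Matrix.mul_one, hBN]
        abel)
      have e : embG (bb : ι) g0 * y'' * (embG (bb : ι) g0)⁻¹ * y'' =
          embG (bb : ι) g0 * zz * (embG (bb : ι) g0)⁻¹ * zz := by
        rw [hy''e]
        calc embG (bb : ι) g0 * (zz * hh) * (embG (bb : ι) g0)⁻¹ * (zz * hh)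
            = embG (bb : ι) g0 * zz * (embG (bb : ι) g0)⁻¹ *
                (embG (bb : ι) g0 * hh * (embG (bb : ι) g0)⁻¹) * (zz * hh) := by group
          _ = embG (bb : ι) g0 * zz * (embG (bb : ι) g0)⁻¹ * (hh⁻¹ * (hh * zz)) := by rw [e1, e2]; group
          _ = _ := by group
      rw [e, Units.val_mul, Units.val_mul, Units.val_mul, hB, ← adM_apply, map_add, adM_one_right,
        adM_kr_rest, add_mul, one_mul, mul_add, mul_one, kr_mul, cen_sq h.c_iso, TWSp.kr_zero_left,
        add_zero, TWSp.kr_add_right]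
      abel
    exact eq_neg_of_add_eq_zero_left (hS.cen_zero h hns hmem)
  have hwed : ∀ r q, ∃ v ∈ mid G c' δ', ent bb B r q = wedge G v c' := by
    intro r q
    have h1 := congrArg (fun A => ent bb A r q) hneg
    simp only [ent_adM] at h1
    rw [show ent bb (-B) r q = -(ent bb B r q) from rfl] at h1
    have hf1 := hform bb (Or.inr rfl) r q
    set α := om G (ent bb B r q *ᵥ δ') c'
    set β' := om G (ent bb B r q *ᵥ δ') δ'
    set v := proj3 G c' δ' (ent bb B r q *ᵥ δ')
    have hvm : v ∈ mid G c' δ' := proj3_mem hG h' _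
    rw [hf1] at h1
    have hgs := fgrp_le hG hg0
    simp only [map_add, map_smul, adM_one_right, adM_cen hgs, adM_wedge hG hgs, hg0c, cen_smul, hε, one_smul] at h1
    have h2' := congrArg (fun A => (α • (1 : Matrix (Fin m) (Fin m) F) + β' • cen G c' + A) *ᵥ δ') (rfl : (0 : Matrix (Fin m) (Fin m) F) = 0)
    have h3 := congrArg (· *ᵥ δ') h1
    set gv := (g0 : Matrix (Fin m) (Fin m) F) *ᵥ v
    have hgvm : gv ∈ mid G c' δ' := hg0m v hvm
    obtain ⟨g1, g2, g3, g4⟩ := h'.om_mid hG hgvm
    obtain ⟨v1, v2, v3, v4⟩ := h'.om_mid hG hvm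
    simp only [add_mulVec, smul_mulVec, one_mulVec, cen_mulVec, wedge_mulVec, neg_mulVec, neg_add_rev, h'.dc,
      om_smul_right, g4, v4, one_smul, zero_smul, sub_zero, mul_one, smul_smul, mul_zero] at h3
    have h4 := congrArg (fun x => om G x c') h3
    have h5 := congrArg (fun x => om G x δ') h3
    simp only [om_add_left, om_smul_left, om_neg_left, om_sub_left, h'.c_iso, h'.d_iso, h'.dc, h'.cd hG, g1, g2, v1,
      v2, mul_zero, mul_one, zero_add, add_zero, neg_zero, sub_zero] at h4 h5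
    have hα : α = 0 := (mul_eq_zero.1 (show (2 : F) * α = 0 by linear_combination h4)).resolve_left h2
    have hβ : β' = 0 := (mul_eq_zero.1 (show (2 : F) * β' = 0 by linear_combination h5)).resolve_left h2
    exact ⟨v, hvm, by rw [hf1, hα, hβ, zero_smul, zero_smul, zero_add, zero_add]⟩
  -- the radical at the block of the factor `b`
  set Bc := kr i (cen G c) B with hBc
  set NN := kr i 1 (k • N) with hNN'
  have hyval : (y'' : Matrix (ι → Fin m) (ι → Fin m) F) = 1 + (Bc + NN + Bc * NN) := by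
    rw [hy''e, Units.val_mul, hB, hhh, krG_val, hNN']
    show (1 + Bc) * kr i 1 (1 + k • N) = _
    rw [TWSp.kr_add_right, TWSp.kr_one]
    noncomm_ring
  have hkill : B * emb bb (cen G c') = 0 := ext_ent (j := bb) fun r q => by
    obtain ⟨v, hv, e⟩ := hwed r q
    rw [ent_mul_emb, e, (hvW v hv).2.1]; rfl
  have hkillN : N * emb bb (cen G c') = 0 := by
    rw [hN, emb_rest a b, kr_mul, ← emb_mul, hcW.2, emb_zero, TWSp.kr_zero_right]
  set E := (1 : Matrix (Fin m) (Fin m) F) - dyad G c' δ'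
  have hEc : E * cen G c' = 0 := by
    rw [← dyad_self]
    simp only [E, sub_mul, one_mul, dyad_mul_dyad, h'.cd hG, one_smul, sub_self]
  have hmidB : ∀ w ∈ mid G c' δ', emb bb E * B * emb bb (dyad G w c') = 0 := fun w hw =>
    ext_ent (j := bb) fun r q => by
      obtain ⟨v, hv, e⟩ := hwed r q
      obtain ⟨vc, -, cv, -⟩ := h'.om_mid hG hv
      obtain ⟨wc, -, cw, -⟩ := h'.om_mid hG hw
      rw [ent_mul_emb, ent_emb_mul, e, wedge_eq_dyad]
      simp only [E, sub_mul, mul_sub, one_mul, dyad_mul_dyad, wc, vc, zero_smul, h'.cd hG, one_smul,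
        hG.comm v δ', (h'.om_mid hG hv).2.1, smul_zero, Matrix.mul_smul, Matrix.smul_mul]
      rw [show ent bb (0 : Matrix (Rest i m) (Rest i m) F) r q = 0 from rfl]
      module
  have hmidN : ∀ w ∈ mid G c' δ', N * emb bb (dyad G w c') = (-om G w f) • (emb a (cen G c') * emb bb (cen G c')) := by
    intro w hw
    obtain ⟨wc, -, cw, -⟩ := h'.om_mid hG hw
    have e : N = emb a (cen G c') * emb bb W := by
      rw [hN, kr_emb]
    rw [e, mul_assoc, ← emb_mul, ← Matrix.mul_smul, ← emb_smul]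
    congr 2
    rw [hW, wedge_eq_dyad, ← dyad_self]
    simp only [sub_mul, dyad_mul_dyad, wc, zero_smul, zero_sub, neg_smul]
  have hsh'' : Shape G (bb : ι) c' δ' y'' id 1 := by
    have hNb0 : (Bc + NN + Bc * NN) * emb (bb : ι) (cen G c') = 0 := by
      rw [hBc, hNN', emb_rest i bb]
      simp only [add_mul, mul_assoc, kr_mul, Matrix.mul_one, Matrix.smul_mul, hkill, hkillN, smul_zero, Matrix.mul_zero,
        TWSp.kr_zero_right, add_zero]
    refine ⟨fun u => ?_, fun _ h => h, Set.injOn_id _, fun w hw u => ?_⟩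
    · rw [Units.val_one, one_mulVec, hyval, add_mulVec, one_mulVec, add_eq_left]
      have e : lift (bb : ι) c' u = emb (bb : ι) (cen G c') *ᵥ lift (bb : ι) δ' u := by
        rw [emb_mulVec_lift, cen_mulVec, h'.dc, one_smul]
      rw [e, mulVec_mulVec, hNb0, zero_mulVec]
    · have e : lift (bb : ι) w u = emb (bb : ι) (dyad G w c') *ᵥ lift (bb : ι) δ' u := by
        rw [emb_mulVec_lift, dyad_mulVec, h'.dc, one_smul]
      have hE0 : emb (bb : ι) E * (Bc + NN + Bc * NN) * emb (bb : ι) (dyad G w c') = 0 := by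
        rw [hBc, hNN', emb_rest i bb, emb_rest i bb]
        simp only [mul_add, add_mul, kr_mul, Matrix.mul_one, Matrix.one_mul]
        have t1 := hmidB w hw
        have t2 : emb bb E * (k • N) * emb bb (dyad G w c') = 0 := by
          rw [mul_assoc, Matrix.smul_mul, hmidN w hw, ← (emb_comm (show a ≠ bb from Ne.symm b.2) _ _).symm]
          simp only [Matrix.mul_smul, ← mul_assoc, ← emb_mul, hEc, emb_zero, Matrix.zero_mul, smul_zero]
        have t3 : emb bb E * (B * (k • N)) * emb bb (dyad G w c') = 0 := by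
          rw [mul_assoc, mul_assoc, Matrix.smul_mul, hmidN w hw,
            (emb_comm (show a ≠ bb from Ne.symm b.2) _ _ : emb a (cen G c') * emb bb (cen G c') = _)]
          simp only [Matrix.mul_smul, ← mul_assoc]
          rw [mul_assoc (emb bb E) B, hkill]
          simp
        simp only [t1, t2, t3, TWSp.kr_zero_right, add_zero]
      refine ⟨proj (bb : ι) (G *ᵥ δ') ((Bc + NN + Bc * NN) *ᵥ lift (bb : ι) w u), ?_⟩
      rw [Units.val_one, one_mulVec, id, hyval, add_mulVec, one_mulVec, add_right_inj]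
      set v := (Bc + NN + Bc * NN) *ᵥ lift (bb : ι) w u with hv
      have h1 : emb (bb : ι) E *ᵥ v = 0 := by rw [hv, e, mulVec_mulVec, mulVec_mulVec, hE0, zero_mulVec]
      rw [emb_sub, emb_one, sub_mulVec, one_mulVec, sub_eq_zero] at h1
      conv_lhs => rw [h1, emb_eq_kr, dyad, TWSp.kr_vecMulVec_mulVec, one_mulVec]
  have hy''iso : IsIso G y'' := hy'iso.mul (isIso_embG i (sieG_mem hG h.c_iso (h.om_mid hG hv).1))
  obtain ⟨β'', hβ''⟩ := hsh''.hasBeta hG h' hy''iso
  obtain ⟨v', hv', he'⟩ := hS.rad_eq h' hns hy''M hβ''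
  -- compare the actions on the block of the factor `i`
  have hax : ∀ u, lift i c ((s' : Matrix (Rest i m) (Rest i m) F) *ᵥ u) =
      lift i c (emb bb (sieG G c' v' : Matrix (Fin m) (Fin m) F) *ᵥ u) := fun u => by
    have e1 := congrArg (fun g : GL (ι → Fin m) F => (g : Matrix (ι → Fin m) (ι → Fin m) F) *ᵥ lift i c u) he'
    simp only [hy'', Units.val_mul, ← mulVec_mulVec, embG_val, emb_mulVec_lift, (h.sieG_apply hG hv).1,
      hsh'.axis] at e1
    rw [e1, emb_rest i bb, kr_mulVec_lift, one_mulVec]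
  have heq : (1 : Matrix (Rest i m) (Rest i m) F) + k • N = emb bb (sieG G c' v' : Matrix (Fin m) (Fin m) F) :=
    Matrix.ext_of_mulVec_single fun q => lift_injective (i := i) h.c_ne (hax _)
  have hcen : cen G c' ≠ 0 := fun e => by
    have := congrArg (· *ᵥ δ') e
    simp only [cen_mulVec, h'.dc, one_smul, zero_mulVec] at this
    exact h'.c_ne this
  have hNa0 : emb a (cen G c') * N = 0 := by
    rw [hN, emb_eq_kr, kr_mul, cen_sq h'.c_iso, TWSp.kr_zero_left]
  have h7 := congrArg (emb a (cen G c') * ·) heq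
  simp only [mul_add, mul_one, Matrix.mul_smul, hNa0, smul_zero, add_zero] at h7
  rw [emb_eq_kr a, emb_rest a b, kr_mul, Matrix.mul_one, Matrix.one_mul] at h7
  have h8 := TWSp.kr_left_injective hcen h7
  have h9 : (sieG G c' v' : Matrix (Fin m) (Fin m) F) = 1 := emb_injective b (by rw [← h8, emb_one])
  rw [h9, emb_one, add_eq_left, smul_eq_zero, or_iff_right hk0, hN] at heq
  have h10 := (TWSp.kr_eq_zero.1 heq).resolve_left hcen
  have h11 := emb_injective b (h10.trans (emb_zero b).symm)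
  have h12 := congrArg (· *ᵥ δ') h11
  simp only [hW, wedge_mulVec, h'.dc, (h'.om_mid hG hf).2.2.2, one_smul, zero_smul, sub_zero, zero_mulVec] at h12
  exact hff (by rw [h12, om_zero_left])

/-- An element stabilising the block of a singular vector lies in the wreath group. -/
theorem stab_mem (hns : ¬ Seed G d M)
    (hrec : ∀ X : Subgroup (GL (Rest i m) F), Setting G d X → X ≤ wreath {j // j ≠ i} m F ∨ Seed G d X)
    {y : GL (ι → Fin m) F} (hy : y ∈ M)
    (hst : ∀ u, (y : Matrix (ι → Fin m) (ι → Fin m) F) *ᵥ lift i c u ∈ block i c) : y ∈ wreath ι m F := by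
  obtain ⟨T, ψ, hsh, hψ⟩ := hS.exists_shape h hns hy hst
  rcases hrec _ (hS.stabImage_setting h hns) with hW | hseed
  · exact hS.mem_wreath_of_shape h hns hy hsh hψ (hW ⟨y, hy, hsh.axis⟩)
  · exact absurd hseed (hS.stabImage_noSeed h hns)

end Setting

end CfsgLib.TWOr
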