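import Cfsg.Agent.TensorWreathOrth.Pure

/-!
# Unipotent elements at a block of a singular vector

For a block `c ⊗ W` of the factor `i` the isometries trivial on the block and on the middle act on
`y ⊗ u`, `y ⊥ c`, by `y ⊗ u + c ⊗ β_y u`.
-/

set_option autoImplicit false
set_option linter.unusedSectionVars false

namespace CfsgLib.TWOr

open Matrix CfsgLib.MaxSub CfsgLib.TWreath
open CfsgLib.TWSp (om kr gram proj cen wedge spG gsim IsIso om_add_left om_add_right om_smul_left om_smul_right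
  axis_dot cen_mulVec mem_spG mem_spG_of_om om_of_mem_spG adj kr_mul emb_eq_kr emb_rest proj_lift adj_dot adj_smul
  adj_add eq_of_form_eq mem_block_iff_proj kr_vecMulVec_mulVec kr_mulVec_lift form_lift isIso_embG)

variable {F : Type*} [Field F] {m : ℕ} {G : Matrix (Fin m) (Fin m) F}
  {ι : Type} [Fintype ι] [DecidableEq ι]

theorem gram_inv (hG : OForm G) : (gram ι G)⁻¹ = Pt fun _ => G⁻¹ := by
  refine Matrix.inv_eq_right_inv ?_
  rw [TWSp.gram, Pt_mul, ← Pt_one (ι := ι)]
  congr 1
  funext k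
  exact mul_nonsing_inv G hG.det

theorem adj_Pt (hG : OForm G) (gs : ι → Matrix (Fin m) (Fin m) F) :
    adj (gram ι G) (Pt gs) = Pt fun k => adj G (gs k) := by
  have ht : (Pt gs)ᵀ = Pt fun k => (gs k)ᵀ := rfl
  rw [adj, gram_inv hG, ht, TWSp.gram, Pt_mul, Pt_mul]
  rfl

theorem adj_emb (hG : OForm G) (k : ι) (A : Matrix (Fin m) (Fin m) F) :
    adj (gram ι G) (emb k A) = emb k (adj G A) := by
  rw [emb, adj_Pt hG, emb]
  congr 1
  funext q
  rcases eq_or_ne q k with rfl | hk
  · simp
  · simp [hk, TWSp.adj_one hG.det]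

theorem adj_of_mem_spG (hG : OForm G) {h : GL (Fin m) F} (hh : h ∈ spG G) :
    adj G (h : Matrix (Fin m) (Fin m) F) = ((h⁻¹ : GL (Fin m) F) : Matrix (Fin m) (Fin m) F) := by
  refine (Units.inv_eq_of_mul_eq_one_left ?_).symm
  rw [adj, Matrix.mul_assoc, Matrix.mul_assoc, ← Matrix.mul_assoc _ G, mem_spG.mp hh, nonsing_inv_mul G hG.det]

theorem adj_mul {n : Type*} [Fintype n] [DecidableEq n] {J : Matrix n n F} (hJ : IsUnit J.det) (a b : Matrix n n F) :
    adj J (a * b) = adj J b * adj J a := by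
  rw [adj, adj, adj, transpose_mul]
  simp only [Matrix.mul_assoc]
  rw [← Matrix.mul_assoc J J⁻¹, mul_nonsing_inv J hJ, Matrix.one_mul]

theorem adj_adM (hG : OForm G) {h : GL (Fin m) F} (hh : h ∈ spG G) (X : Matrix (Fin m) (Fin m) F) :
    adj G (adM h X) = adM h (adj G X) := by
  rw [adM_apply, adM_apply, adj_mul hG.det, adj_mul hG.det, adj_of_mem_spG hG hh,
    adj_of_mem_spG hG ((spG G).inv_mem hh), inv_inv, Matrix.mul_assoc]

theorem adj_adj {n : Type*} [Fintype n] [DecidableEq n] {J : Matrix n n F} (hJ : IsUnit J.det) (hs : Jᵀ = J)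
    (a : Matrix n n F) : adj J (adj J a) = a := by
  rw [adj, adj, transpose_mul, transpose_mul, transpose_transpose, transpose_nonsing_inv, hs]
  simp only [Matrix.mul_assoc]
  rw [nonsing_inv_mul J hJ, Matrix.mul_one, ← Matrix.mul_assoc, nonsing_inv_mul J hJ, Matrix.one_mul]

/-- An isometry that is unipotent into a singular block. -/
theorem eq_kr_of_block (hG : OForm G) {x : GL (ι → Fin m) F} (hx : IsIso G x) {j : ι} {c : Fin m → F}
    (hc : c ≠ 0) (hcc : om G c c = 0)
    (hN : ∀ v, ((x : Matrix (ι → Fin m) (ι → Fin m) F) - 1) *ᵥ v ∈ block j c) :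
    ∃ b : Matrix (Rest j m) (Rest j m) F, adj (gram {k // k ≠ j} G) b = -b ∧
      (x : Matrix (ι → Fin m) (ι → Fin m) F) = 1 + kr j (cen G c) b := by
  set N := (x : Matrix (ι → Fin m) (ι → Fin m) F) - 1 with hNdef
  set J := gram ι G with hJ
  choose f hf using fun v => exists_lift_of_mem_block hc (hN v)
  -- the image is singular, so `N` is skew
  have hskew : ∀ u v, u ⬝ᵥ J *ᵥ (N *ᵥ v) = - ((N *ᵥ u) ⬝ᵥ J *ᵥ v) := by
    intro u v
    have h1 := hx.form u v
    rw [show (x : Matrix (ι → Fin m) (ι → Fin m) F) = 1 + N by rw [hNdef, add_sub_cancel], add_mulVec, add_mulVec,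
      one_mulVec, one_mulVec, mulVec_add, dotProduct_add, add_dotProduct, add_dotProduct] at h1
    have h2 : (N *ᵥ u) ⬝ᵥ J *ᵥ (N *ᵥ v) = 0 := by rw [hf u, hf v, hJ, form_lift, hcc, zero_mul]
    rw [h2, add_zero] at h1
    linear_combination h1
  have hker : ∀ z w, om G z c = 0 → N *ᵥ lift j z w = 0 := by
    intro z w hz
    have h0 : J *ᵥ (N *ᵥ lift j z w) = 0 := dotProduct_eq_zero _ fun u => by
      rw [dotProduct_comm, hskew, hf u, hJ, form_lift, hG.comm, hz, zero_mul, neg_zero]
    exact mulVec_injective_iff_isUnit.mpr ((Matrix.isUnit_iff_isUnit_det _).mpr (oForm_det hG))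
      (h0.trans (mulVec_zero _).symm)
  obtain ⟨d, hdd, hd⟩ := hG.exists_partner hc hcc
  let B : (Rest j m → F) →ₗ[F] (Rest j m → F) :=
    { toFun := fun w => f (lift j d w)
      map_add' := fun u v => lift_injective (i := j) hc (by
        rw [map_add (lift j c), ← hf, ← hf, ← hf, map_add, mulVec_add])
      map_smul' := fun k u => lift_injective (i := j) hc (by
        rw [map_smul (lift j c), ← hf, RingHom.id_apply, ← hf, map_smul, mulVec_smul]) }
  refine ⟨LinearMap.toMatrix' B, ?_, ?_⟩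
  · have hJ' := oForm_det (ι := {k // k ≠ j}) hG
    refine Matrix.ext_of_mulVec_single fun q => eq_of_form_eq hJ' fun u => ?_
    rw [adj_dot hJ', neg_mulVec, mulVec_neg, dotProduct_neg, LinearMap.toMatrix'_mulVec,
      LinearMap.toMatrix'_mulVec]
    have h1 := hskew (lift j d u) (lift j d (Pi.single q 1))
    rw [hf, hf, hJ, form_lift, form_lift, hG.comm c d, hd, one_mul, one_mul] at h1
    show f (lift j d u) ⬝ᵥ _ = -(u ⬝ᵥ _ *ᵥ f (lift j d (Pi.single q 1)))
    linear_combination h1
  rw [← sub_eq_iff_eq_add', ← hNdef]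
  refine TWSp.ext_lift (i := j) fun z w => ?_
  rw [kr_mulVec_lift, cen_mulVec, LinearMap.toMatrix'_mulVec]
  conv_lhs => rw [show z = (z - om G z c • d) + om G z c • d by rw [sub_add_cancel], lift_add_left, mulVec_add,
    hker _ w (by rw [om_sub_left, om_smul_left, hd, mul_one, sub_self]),
    zero_add, lift_smul_left, mulVec_smul, hf]
  rw [lift_smul_left]
  rfl

/-- An isometry fixing the orthogonal space of a block is central. -/
theorem center_of_fix (hG : OForm G) {x : GL (ι → Fin m) F} (hx : IsIso G x) {i : ι} {c : Fin m → F}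
    (hc : c ≠ 0) (hcc : om G c c = 0)
    (h : ∀ y, om G y c = 0 → ∀ u, (x : Matrix (ι → Fin m) (ι → Fin m) F) *ᵥ lift i y u = lift i y u) :
    ∃ b : Matrix (Rest i m) (Rest i m) F, adj (gram {k // k ≠ i} G) b = -b ∧
      (x : Matrix (ι → Fin m) (ι → Fin m) F) = 1 + kr i (cen G c) b := by
  refine eq_kr_of_block hG hx hc hcc fun v => mem_block_iff_proj.mpr fun χ hχ => ?_
  obtain ⟨y, rfl⟩ := hG.exists_axis χ
  rw [axis_dot, hG.comm] at hχ
  refine eq_of_form_eq (oForm_det hG) fun u => ?_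
  rw [mulVec_zero, dotProduct_zero, ← form_proj hG, sub_mulVec, one_mulVec, mulVec_sub, dotProduct_sub, sub_eq_zero]
  conv_lhs => rw [← h y hχ u]
  exact hx.form _ _

/-- `x` is unipotent at the block with the middle-to-bottom part `β`. -/
structure HasBeta (G : Matrix (Fin m) (Fin m) F) (i : ι) (c : Fin m → F) (x : GL (ι → Fin m) F)
    (β : (Fin m → F) → Matrix (Rest i m) (Rest i m) F) : Prop where
  iso : IsIso G x
  zero : β c = 0
  act : ∀ y, om G y c = 0 → ∀ u, (x : Matrix (ι → Fin m) (ι → Fin m) F) *ᵥ lift i y u =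
    lift i y u + lift i c (β y *ᵥ u)

variable {i : ι} {c : Fin m → F} {x x' : GL (ι → Fin m) F}
  {β β' : (Fin m → F) → Matrix (Rest i m) (Rest i m) F}

namespace HasBeta

variable (hG : OForm G) (hc : c ≠ 0) (hcc : om G c c = 0) (hx : HasBeta G i c x β)

include hG hc hcc hx

theorem fix (u : Rest i m → F) :
    (x : Matrix (ι → Fin m) (ι → Fin m) F) *ᵥ lift i c u = lift i c u := by
  rw [hx.act c hcc, hx.zero, zero_mulVec, map_zero, add_zero]

theorem map_add' {y z : Fin m → F} (hy : om G y c = 0) (hz : om G z c = 0) : β (y + z) = β y + β z := by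
  refine Matrix.ext_of_mulVec_single fun k => lift_injective (i := i) hc ?_
  have h := hx.act (y + z) (by rw [om_add_left, hy, hz, add_zero]) (Pi.single k 1)
  rw [lift_add_left, mulVec_add, hx.act y hy, hx.act z hz] at h
  rw [add_mulVec, map_add]
  linear_combination (norm := abel) -h

theorem map_smul' {y : Fin m → F} (hy : om G y c = 0) (k : F) : β (k • y) = k • β y := by
  refine Matrix.ext_of_mulVec_single fun q => lift_injective (i := i) hc ?_
  have h := hx.act (k • y) (by rw [om_smul_left, hy, mul_zero]) (Pi.single q 1)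
  rw [lift_smul_left, mulVec_smul, hx.act y hy, smul_add] at h
  rw [smul_mulVec, map_smul]
  exact (add_left_cancel h).symm

/-- The component along `c` is preserved. -/
theorem proj_axis (v : (ι → Fin m) → F) :
    proj i (G *ᵥ c) ((x : Matrix (ι → Fin m) (ι → Fin m) F) *ᵥ v) = proj i (G *ᵥ c) v := by
  refine eq_of_form_eq (oForm_det hG) fun u => ?_
  rw [← form_proj hG, ← form_proj hG]
  conv_lhs => rw [← hx.fix hG hc hcc u]
  exact hx.iso.form _ _

/-- The other components of the image of a tensor. -/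
theorem proj_act {y d : Fin m → F} (hy : om G y c = 0) (hd : om G d c = 1) (u : Rest i m → F) :
    proj i (G *ᵥ y) ((x : Matrix (ι → Fin m) (ι → Fin m) F) *ᵥ lift i d u) =
      proj i (G *ᵥ y) (lift i d u) - adj (gram {j // j ≠ i} G) (β y) *ᵥ u := by
  have hJ := oForm_det (ι := {j // j ≠ i}) hG
  refine eq_of_form_eq hJ fun u' => ?_
  have h := hx.iso.form (lift i y u') (lift i d u)
  rw [hx.act y hy, add_dotProduct, form_proj hG, form_proj hG, form_proj hG i y, hx.proj_axis hG hc hcc,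
    proj_lift i (G *ᵥ c), axis_dot, hd, one_smul] at h
  rw [mulVec_sub, dotProduct_sub, adj_dot hJ]
  linear_combination h

theorem mul (hx' : HasBeta G i c x' β') : HasBeta G i c (x * x') (fun y => β y + β' y) where
  iso := hx.iso.mul hx'.iso
  zero := by rw [hx.zero, hx'.zero, add_zero]
  act y hy u := by
    rw [Units.val_mul, ← mulVec_mulVec, hx'.act y hy, mulVec_add, hx.act y hy, hx.fix hG hc hcc, add_mulVec,
      map_add]
    abel

theorem inv : HasBeta G i c x⁻¹ (fun y => -β y) where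
  iso := hx.iso.inv
  zero := by rw [hx.zero, neg_zero]
  act y hy u := by
    refine mulVec_injective_iff_isUnit.mpr x.isUnit ?_
    show (x : Matrix (ι → Fin m) (ι → Fin m) F) *ᵥ _ = (x : Matrix (ι → Fin m) (ι → Fin m) F) *ᵥ _
    rw [mulVec_mulVec, Units.mul_inv, one_mulVec, mulVec_add, hx.act y hy, hx.fix hG hc hcc, neg_mulVec, map_neg]
    abel

/-- Conjugation by an element of the factor fixing the line of `c`. -/
theorem conj {h : GL (Fin m) F} (hh : h ∈ spG G) {l : F} (hl : l ≠ 0)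
    (hhc : (h : Matrix (Fin m) (Fin m) F) *ᵥ c = l • c) :
    HasBeta G i c (embG i h * x * (embG i h)⁻¹)
      (fun y => l • β (((h⁻¹ : GL (Fin m) F) : Matrix (Fin m) (Fin m) F) *ᵥ y)) := by
  have hic : ((h⁻¹ : GL (Fin m) F) : Matrix (Fin m) (Fin m) F) *ᵥ c = l⁻¹ • c := by
    have := congrArg (((h⁻¹ : GL (Fin m) F) : Matrix (Fin m) (Fin m) F) *ᵥ ·) hhc
    simp only [mulVec_mulVec, Units.inv_mul, one_mulVec, mulVec_smul] at this
    rw [eq_inv_smul_iff₀ hl]
    exact this.symm
  refine ⟨((isIso_embG i hh).mul hx.iso).mul (isIso_embG i hh).inv, ?_, fun y hy u => ?_⟩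
  · rw [hic, hx.map_smul' hG hc hcc hcc, hx.zero, smul_zero, smul_zero]
  · have hy' : om G (((h⁻¹ : GL (Fin m) F) : Matrix (Fin m) (Fin m) F) *ᵥ y) c = 0 := by
      have := om_of_mem_spG ((spG G).inv_mem hh) y c
      rw [hic, om_smul_right, hy] at this
      exact (mul_eq_zero.mp this).resolve_left (inv_ne_zero hl)
    rw [← map_inv, Units.val_mul, Units.val_mul, embG_val, embG_val, ← mulVec_mulVec, ← mulVec_mulVec,
      emb_mulVec_lift, hx.act _ hy', mulVec_add, emb_mulVec_lift, emb_mulVec_lift, mulVec_mulVec, Units.mul_inv,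
      one_mulVec, hhc, lift_smul_left, ← map_smul, ← smul_mulVec]

/-- Conjugation by an element of another factor. -/
theorem conj_rest (l : {j // j ≠ i}) {h : GL (Fin m) F} (hh : h ∈ spG G) :
    HasBeta G i c (embG (l : ι) h * x * (embG (l : ι) h)⁻¹) (fun y => adM (embG l h) (β y)) := by
  refine ⟨((isIso_embG _ hh).mul hx.iso).mul (isIso_embG _ hh).inv, by simp only [hx.zero, map_zero],
    fun y hy u => ?_⟩
  rw [adM_apply, Units.val_mul, Units.val_mul, ← map_inv, ← map_inv, embG_val, embG_val, embG_val, embG_val,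
    emb_rest i l, emb_rest i l, ← mulVec_mulVec, ← mulVec_mulVec, kr_mulVec_lift, one_mulVec, hx.act y hy,
    mulVec_add, kr_mulVec_lift, kr_mulVec_lift, one_mulVec, one_mulVec, mulVec_mulVec, ← emb_mul,
    Units.mul_inv, emb_one, one_mulVec, ← mulVec_mulVec, ← mulVec_mulVec]

/-- The action on the orthogonal space for a typed element. -/
theorem act_ortho {a : Fin m → F} {K : Matrix (Rest i m) (Rest i m) F}
    (hβ : ∀ y, om G y c = 0 → β y = om G y a • K) {v : (ι → Fin m) → F} (hv : proj i (G *ᵥ c) v = 0) :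
    (x : Matrix (ι → Fin m) (ι → Fin m) F) *ᵥ v = v + lift i c (K *ᵥ proj i (G *ᵥ a) v) := by
  obtain ⟨d, -, hd⟩ := hG.exists_partner hc hcc
  obtain ⟨ys, hys, he⟩ := ortho_induction i hd hv
  conv_lhs => rw [he]
  conv_rhs => rw [he]
  simp only [mulVec_sum, hx.act _ (hys _), Finset.sum_add_distrib, map_sum, add_right_inj]
  refine Finset.sum_congr rfl fun k _ => ?_
  rw [hβ _ (hys k), proj_lift, axis_dot, smul_mulVec, mulVec_smul]

end HasBeta

/-- The commutator of two typed elements. -/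
theorem HasBeta.comm_typed (hG : OForm G) (hc : c ≠ 0) (hcc : om G c c = 0) {a a' : Fin m → F}
    (ha : om G a c = 0) (ha' : om G a' c = 0) {K K' : Matrix (Rest i m) (Rest i m) F}
    (hx : HasBeta G i c x β) (hx' : HasBeta G i c x' β')
    (hβ : ∀ y, om G y c = 0 → β y = om G y a • K) (hβ' : ∀ y, om G y c = 0 → β' y = om G y a' • K') :
    ((x * x' * (x' * x)⁻¹ : GL (ι → Fin m) F) : Matrix (ι → Fin m) (ι → Fin m) F) =
      1 + kr i (cen G c) (om G a' a • (K' * adj (gram {j // j ≠ i} G) K - K * adj (gram {j // j ≠ i} G) K')) := by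
  obtain ⟨d, -, hd⟩ := hG.exists_partner hc hcc
  set J' := gram {j // j ≠ i} G
  set k := x * x' * (x' * x)⁻¹ with hk
  have hk' : k * (x' * x) = x * x' := inv_mul_cancel_right _ _
  have h1 : HasBeta G i c (x * x') (fun y => β y + β' y) := hx.mul hG hc hcc hx'
  have h2 : HasBeta G i c (x' * x) (fun y => β' y + β y) := hx'.mul hG hc hcc hx
  have hkb : HasBeta G i c k (fun y => β y + β' y + -(β' y + β y)) := h1.mul hG hc hcc (h2.inv hG hc hcc)
  obtain ⟨b, -, hb⟩ := center_of_fix hG hkb.iso hc hcc fun y hy u => by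
    rw [hkb.act y hy, show β y + β' y + -(β' y + β y) = 0 by abel, zero_mulVec, map_zero, add_zero]
  rw [hb]
  congr 2
  refine Matrix.ext_of_mulVec_single fun q => ?_
  set u : Rest i m → F := Pi.single q 1
  -- both products on `d ⊗ u`
  have hprod : ∀ {z z' : GL (ι → Fin m) F} {γ γ' : (Fin m → F) → Matrix (Rest i m) (Rest i m) F}
      {p p' : Fin m → F} {L L' : Matrix (Rest i m) (Rest i m) F},
      HasBeta G i c z γ → HasBeta G i c z' γ' → om G p c = 0 →
      (∀ y, om G y c = 0 → γ y = om G y p • L) → (∀ y, om G y c = 0 → γ' y = om G y p' • L') →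
      ((z * z' : GL (ι → Fin m) F) : Matrix (ι → Fin m) (ι → Fin m) F) *ᵥ lift i d u =
        ((z : Matrix (ι → Fin m) (ι → Fin m) F) *ᵥ lift i d u) +
        (((z' : Matrix (ι → Fin m) (ι → Fin m) F) *ᵥ lift i d u) - lift i d u) +
        lift i c (-(om G p p' • ((L * adj J' L') *ᵥ u))) := by
    intro z z' γ γ' p p' L L' hz hz' hp hγ hγ'
    set v := ((z' : Matrix (ι → Fin m) (ι → Fin m) F) *ᵥ lift i d u) - lift i d u with hv
    have hvo : proj i (G *ᵥ c) v = 0 := by rw [hv, map_sub, hz'.proj_axis hG hc hcc, sub_self]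
    rw [Units.val_mul, ← mulVec_mulVec,
      show (z' : Matrix (ι → Fin m) (ι → Fin m) F) *ᵥ lift i d u = lift i d u + v by rw [hv, add_sub_cancel],
      mulVec_add, hz.act_ortho hG hc hcc hγ hvo, ← add_assoc]
    congr 2
    rw [hv, map_sub, hz'.proj_act hG hc hcc hp hd, sub_sub_cancel_left, hγ' p hp, adj_smul, smul_mulVec, mulVec_neg,
      mulVec_smul, mulVec_mulVec]
  have e1 := hprod hx hx' ha hβ hβ'
  have e2 := hprod hx' hx ha' hβ' hβ
  rw [← hk', Units.val_mul, ← mulVec_mulVec, hb, add_mulVec, one_mulVec, cen, kr_vecMulVec_mulVec,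
    h2.proj_axis hG hc hcc, proj_lift, axis_dot, hd, one_smul, e2] at e1
  apply lift_injective (i := i) hc
  rw [hG.comm a a'] at e1
  simp only [smul_mulVec, sub_mulVec, map_neg, map_sub, map_smul, smul_sub] at e1 ⊢
  linear_combination (norm := abel) e1

end CfsgLib.TWOr
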